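import Groth.Agent.EtaleBase.FpqcDescent
import Groth.Agent.EtaleBase.Support
import Groth.Agent.CohDev.ProperOver
import Groth.Agent.CohProper.Image
import Groth.Agent.S0787
import Groth.Agent.S0791
import Groth.Agent.S0793

/-!
Closed subsets proper over a base: finite unions, proper maps, and descent along étale covers.
-/

set_option autoImplicit false

universe u

open CategoryTheory CategoryTheory.Limits AlgebraicGeometry

namespace Groth.EtaleShriek.ProperOver

variable {X S : Scheme.{u}}

theorem mono (f : X ⟶ S) {Z Z' : Set X} (hZ : ClSub.IsProperOver f Z) (hc : IsClosed Z')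
    (hsub : Z' ⊆ Z) : ClSub.IsProperOver f Z' :=
  Groth.CohDev.isProperOver_mono f hZ hc hsub

theorem of_isProper (f : X ⟶ S) [IsProper f] {Z : Set X} (hc : IsClosed Z) :
    ClSub.IsProperOver f Z := by
  have : IsProper (𝟙 X ≫ f) := by rw [Category.id_comp]; infer_instance
  have h := Groth.CohProper.isProperOver_range (𝟙 X) f
  exact mono f h hc fun x _ => ⟨x, rfl⟩

theorem empty (f : X ⟶ S) [LocallyOfFiniteType f] : ClSub.IsProperOver f (∅ : Set X) := by
  have h := Groth.Agent.S0791.result f Empty (fun e => e.elim) (fun e => e.elim)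
  rwa [Set.iUnion_of_empty] at h

theorem union (f : X ⟶ S) [LocallyOfFiniteType f] {Z Z' : Set X} (hZ : ClSub.IsProperOver f Z)
    (hZ' : ClSub.IsProperOver f Z') : ClSub.IsProperOver f (Z ∪ Z') := by
  have h := Groth.Agent.S0791.result f Bool (fun b => cond b Z Z') (by rintro (_ | _) <;> assumption)
  rwa [← Set.union_eq_iUnion] at h

theorem iff_isProper (f : X ⟶ S) [LocallyOfFiniteType f] {Z : Set X} (hc : IsClosed Z) {T : Scheme.{u}}
    (i : T ⟶ X) [IsClosedImmersion i] (hr : Set.range i = Z) :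
    ClSub.IsProperOver f Z ↔ IsProper (i ≫ f) :=
  ⟨fun h => (Groth.Agent.S0787.result f Z hc).2.1 h T i inferInstance hr,
    fun h => (Groth.Agent.S0787.result f Z hc).1.2 ⟨T, i, inferInstance, hr, h⟩⟩

theorem preimage (f : X ⟶ S) [LocallyOfFiniteType f] {X' S' : Scheme.{u}} {g : S' ⟶ S} {g' : X' ⟶ X}
    {f' : X' ⟶ S'} (sq : IsPullback g' f' f g) {Z : Set X} (hZ : ClSub.IsProperOver f Z) :
    ClSub.IsProperOver f' (g'.base ⁻¹' Z) :=
  Groth.Agent.S0793.result f g g' f' sq Z hZ

/-- Properness of a closed subset over the base is étale-local on the base. -/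
theorem of_etale_cover (f : X ⟶ S) [LocallyOfFiniteType f] {Z : Set X} (hc : IsClosed Z)
    (h : ∀ s : S, ∃ (V X' : Scheme.{u}) (φ : V ⟶ S) (g' : X' ⟶ X) (f' : X' ⟶ V),
      IsPullback g' f' f φ ∧ Etale φ ∧ s ∈ Set.range φ.base ∧ ClSub.IsProperOver f' (g'.base ⁻¹' Z)) :
    ClSub.IsProperOver f Z := by
  let I := Scheme.IdealSheafData.vanishingIdeal (⟨Z, hc⟩ : TopologicalSpace.Closeds X)
  let i := I.subschemeι
  have hi : Set.range i = Z := by
    rw [Scheme.IdealSheafData.range_subschemeι, Scheme.IdealSheafData.coe_support_vanishingIdeal]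
    rfl
  refine (iff_isProper f hc i hi).2 ?_
  let q := i ≫ f
  have hloc : ∀ s : S, ∃ U : S.Opens, s ∈ U ∧ IsProper (q ∣_ U) := by
    intro s
    obtain ⟨V, X', φ, g', f', sq, hφ, ⟨v, hv⟩, hp⟩ := h s
    obtain ⟨U₀, hU₀, hsU₀, -⟩ := exists_isAffineOpen_mem_and_subset (X := S) (x := s) (U := ⊤) trivial
    obtain ⟨W, hW, hvW, hWU⟩ := exists_isAffineOpen_mem_and_subset (X := V) (x := v) (U := φ ⁻¹ᵁ U₀)
      (show φ.base v ∈ U₀ from hv ▸ hsU₀)
    let U : S.Opens := ⟨φ.base '' (W : Set V), φ.isOpenMap _ W.isOpen⟩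
    refine ⟨U, ⟨v, hvW, hv⟩, ?_⟩
    have hUU₀ : U ≤ U₀ := by
      rintro _ ⟨w, hw, rfl⟩
      exact hWU hw
    let m : (W : Scheme.{u}) ⟶ U := IsOpenImmersion.lift U.ι (W.ι ≫ φ) (by
      rw [Scheme.Opens.range_ι]
      rintro _ ⟨w, rfl⟩
      exact ⟨W.ι.base w, w.2, (Scheme.Hom.comp_apply _ _ _).symm⟩)
    have hm : m ≫ U.ι = W.ι ≫ φ := IsOpenImmersion.lift_fac _ _ _
    have hme : Etale m := MorphismProperty.of_postcomp (W := @Etale) (W' := @Etale) m U.ι
      inferInstance (by rw [hm]; infer_instance)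
    have hms : Surjective m := ⟨fun u => by
      obtain ⟨w, hw, hwu⟩ := u.2
      refine ⟨⟨w, hw⟩, U.ι.isOpenEmbedding.injective ?_⟩
      rw [← Scheme.Hom.comp_apply, hm, Scheme.Hom.comp_apply]
      exact hwu⟩
    have : CompactSpace W := isCompact_iff_compactSpace.mp hW.isCompact
    have : IsAffine U₀ := hU₀
    have : QuasiSeparatedSpace U :=
      (isQuasiSeparated_iff_quasiSeparatedSpace _ U.isOpen).mp
        (hU₀.isQuasiSeparated.of_subset hUU₀)
    have hmP : Groth.EtaleBase.Fpqc m := ⟨⟨hms, inferInstance⟩, inferInstance⟩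
    -- the base change of `q` along `φ` is proper
    have hqV : IsProper (pullback.snd q φ) := by
      let i' : pullback q φ ⟶ X' := sq.lift (pullback.fst q φ ≫ i) (pullback.snd q φ)
        ((Category.assoc _ _ _).trans pullback.condition)
      have hf' : i' ≫ f' = pullback.snd q φ := sq.lift_snd _ _ _
      have hg' : i' ≫ g' = pullback.fst q φ ≫ i := sq.lift_fst _ _ _
      have hsq : IsPullback (pullback.fst q φ) i' i g' :=
        IsPullback.of_bot (h₃₁ := φ) (v₂₁ := f') (v₂₂ := f)
          (by rw [hf']; exact IsPullback.of_hasPullback q φ) hg'.symm sq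
      have : IsClosedImmersion i' := MorphismProperty.of_isPullback hsq (inferInstanceAs (IsClosedImmersion i))
      have hr : Set.range i' = g'.base ⁻¹' Z := by
        rw [← hi]
        ext x
        constructor
        · rintro ⟨y, rfl⟩
          exact ⟨(pullback.fst q φ).base y, by rw [← Scheme.Hom.comp_apply, ← hg', Scheme.Hom.comp_apply]⟩
        · rintro ⟨t, ht⟩
          obtain ⟨y, hy⟩ := (Scheme.Pullback.range_snd i g').ge ⟨t, ht⟩
          exact ⟨hsq.isoPullback.inv.base y,
            by rw [← Scheme.Hom.comp_apply, hsq.isoPullback_inv_snd]; exact hy⟩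
      have : LocallyOfFiniteType f' := MorphismProperty.of_isPullback sq (inferInstanceAs (LocallyOfFiniteType f))
      rw [← hf']
      exact (iff_isProper f' (hr ▸ i'.isClosedEmbedding.isClosed_range) i' hr).1 hp
    -- and so is its base change along `m`
    have hA : IsPullback (pullback.snd m (q ∣_ U) ≫ (q ⁻¹ᵁ U).ι) (pullback.fst m (q ∣_ U)) q (W.ι ≫ φ) := by
      rw [← hm]
      exact (IsPullback.of_hasPullback m (q ∣_ U)).flip.paste_horiz (isPullback_morphismRestrict q U).flip
    have hB := IsPullback.of_right' hA (IsPullback.of_hasPullback q φ)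
    exact MorphismProperty.of_pullback_fst_of_descendsAlong (P := @IsProper) hmP
      (MorphismProperty.of_isPullback hB hqV)
  choose U hU hP using hloc
  exact IsZariskiLocalAtTarget.of_iSup_eq_top U
    (eq_top_iff.2 fun s _ => TopologicalSpace.Opens.mem_iSup.2 ⟨s, hU s⟩) hP

end Groth.EtaleShriek.ProperOver
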