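import Groth.Agent.EtaleShriek.Comp
import Groth.Agent.EtaleBase.PushStalkInt
import Mathlib.AlgebraicGeometry.AlgClosed.Basic

/-!
Germs of sections with proper support are determined by their values at the points over.
-/

set_option autoImplicit false

universe u

open CategoryTheory CategoryTheory.Limits AlgebraicGeometry Opposite

namespace Groth.EtaleShriek

open Groth.EtaleBase (germ fiberPoint pushLift germ_eq_zero_iff_mem openObj openHom)

/-- Nonempty schemes locally of finite type over an algebraically closed field have a rational point. -/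
lemma exists_point_of_nonempty {P : Scheme.{u}} {Ω : Type u} [Field Ω] [IsAlgClosed Ω]
    (q : P ⟶ Spec (CommRingCat.of Ω)) [LocallyOfFiniteType q] [Nonempty P] :
    ∃ l : Spec (CommRingCat.of Ω) ⟶ P, l ≫ q = 𝟙 _ := by
  have : JacobsonSpace (Spec (CommRingCat.of Ω)) := inferInstance
  have : JacobsonSpace P := LocallyOfFiniteType.jacobsonSpace q
  obtain ⟨x, -, hx⟩ := nonempty_inter_closedPoints (Set.univ_nonempty (α := P))
    isClosed_univ.isLocallyClosed
  exact ⟨pointOfClosedPoint q x hx, pointOfClosedPoint_comp q x hx⟩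

variable {X Y : Scheme.{u}} (f : X ⟶ Y) [LocallyOfFiniteType f]
  {Ω : Type u} [Field Ω] [IsAlgClosed Ω] (η : Spec (CommRingCat.of Ω) ⟶ Y)

set_option backward.isDefEq.respectTransparency.types false in
/-- A point of the support of a section with proper support over a point of `V` gives a geometric
point in the support over any algebraically closed point at it. -/
lemma exists_pushLift_mem (F : EtCoh.Ab X) (V : Y.Etale) (s : (Scheme.pointSmallEtale η).fiber.obj V)
    (σ : F.obj.obj (op ((EtCoh.bc f).obj V))) (hσ : PS f F V σ) {z : ↥((EtCoh.bc f).obj V).left}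
    (hz : z ∈ EtShriek.sectSupp F ((EtCoh.bc f).obj V) σ)
    (hzs : (EtShriek.prV f V).base z = fiberPoint η s) :
    ∃ (ξ : Spec (CommRingCat.of Ω) ⟶ X) (h : ξ ≫ f = η),
      fiberPoint ξ (pushLift f ξ h V s) ∈ EtShriek.sectSupp F ((EtCoh.bc f).obj V) σ := by
  let Z := EtShriek.sectSupp F ((EtCoh.bc f).obj V) σ
  let I := Scheme.IdealSheafData.vanishingIdeal
    (⟨Z, hσ.1⟩ : TopologicalSpace.Closeds ((EtCoh.bc f).obj V).left)
  let i := I.subschemeι
  have hi : Set.range i = Z := by
    rw [Scheme.IdealSheafData.range_subschemeι, Scheme.IdealSheafData.coe_support_vanishingIdeal]; rfl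
  have : IsProper (i ≫ EtShriek.prV f V) := hσ.2
  let s' : Spec (CommRingCat.of Ω) ⟶ V.left := s.left
  let P := pullback (i ≫ EtShriek.prV f V) s'
  obtain ⟨t, rfl⟩ := hi.ge hz
  obtain ⟨p, -, -⟩ := Scheme.Pullback.exists_preimage_pullback (f := i ≫ EtShriek.prV f V) (g := s') t
    default ((Scheme.Hom.comp_apply _ _ _).trans hzs)
  have : Nonempty P := ⟨p⟩
  obtain ⟨l, hl⟩ := exists_point_of_nonempty (pullback.snd (i ≫ EtShriek.prV f V) s')
  let m : Spec (CommRingCat.of Ω) ⟶ pullback V.hom f :=
    l ≫ pullback.fst (i ≫ EtShriek.prV f V) s' ≫ i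
  have hm : m ≫ pullback.fst V.hom f = s.left := by
    refine Eq.trans ?_ ((congrArg (· ≫ s') hl).trans (Category.id_comp _))
    exact (Category.assoc _ _ _).trans ((congrArg (l ≫ ·) ((Category.assoc _ _ _).trans
      pullback.condition)).trans (Category.assoc _ _ _).symm)
  have h : (m ≫ pullback.snd V.hom f) ≫ f = η := by
    rw [Category.assoc, ← pullback.condition, reassoc_of% hm]
    exact Over.w s
  refine ⟨m ≫ pullback.snd V.hom f, h, ?_⟩
  have e : m = (pushLift f (m ≫ pullback.snd V.hom f) h V s).left := by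
    apply pullback.hom_ext
    · exact hm.trans (pullback.lift_fst _ _ _).symm
    · exact (pullback.lift_snd _ _ _).symm
  refine Set.mem_of_eq_of_mem (congrArg (fun k : Spec (CommRingCat.of Ω) ⟶ pullback V.hom f => k.base default)
    e.symm) ?_
  refine hi.le ⟨(l ≫ pullback.fst (i ≫ EtShriek.prV f V) s').base default, ?_⟩
  exact (Scheme.Hom.comp_apply _ i _).symm.trans
    (congrArg (fun k : Spec (CommRingCat.of Ω) ⟶ pullback V.hom f => k.base default) (Category.assoc _ _ _))

set_option backward.isDefEq.respectTransparency.types false in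
/-- A germ of a section with proper support vanishes iff all its values at the points over do. -/
lemma germ_eq_zero_of_values (F : EtCoh.Ab X) (V : Y.Etale) (s : (Scheme.pointSmallEtale η).fiber.obj V)
    (σ : F.obj.obj (op ((EtCoh.bc f).obj V))) (hσ : PS f F V σ)
    (h0 : ∀ (ξ : Spec (CommRingCat.of Ω) ⟶ X) (h : ξ ≫ f = η),
      germ ξ F ((EtCoh.bc f).obj V) (pushLift f ξ h V s) σ = 0) :
    germ η ((EtCoh.push f).obj F) V s σ = 0 := by
  rw [germ_eq_zero_iff_mem, ← notMem_sectSupp_iff]
  erw [sectSupp_push_eq f F V σ (ProperOver.isClosed_image _ hσ)]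
  rintro ⟨z, hz, hzs⟩
  obtain ⟨ξ, h, hmem⟩ := exists_pushLift_mem f η F V s σ hσ hz hzs
  exact (notMem_sectSupp_iff F _ σ _).2 ((germ_eq_zero_iff_mem ξ F _ σ _).1 (h0 ξ h)) hmem

end Groth.EtaleShriek
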