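import Groth.Agent.EtaleShriek.BCStageLocal
import Groth.Agent.EtaleShriek.Values
import Groth.Agent.DescentBase.BaseChange0Sh
import Groth.Agent.DescentBase.UnivSubm

/-!
Proper base change in degree zero for sheaves of sets.
-/

set_option autoImplicit false
set_option backward.isDefEq.respectTransparency.types false

universe u

open CategoryTheory CategoryTheory.Limits AlgebraicGeometry Opposite TopologicalSpace

namespace Groth.EtaleShriek.BCSets

open Groth.EtaleBase (openObj openHom fiberPoint fiberPoint_map pushLift pushLift_map geomPoint geomPoint_apply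
  fiber_bc_ext bcSq exists_fiber_lift isOpenMap_left mem_topology_iff)
open Groth.DescentBase (shStalk shStalkPullIso shGerm shGerm_surjective agreeSet isOpen_agreeSet
  shGerm_eq_iff_mem map_eq_iff_range_subset shStalkPullIso_germ values_eq_of_shGerm_eq value_baseChange0
  stalk_baseChange0_germ isIso_of_acPoints acPoint)
open Groth.EtaleShriek.BCStage (mv fibreLift)

variable {X Y : Scheme.{u}}

section germs

variable (F : EtDesc.Sh X) {Ω : Type u} [Field Ω] [IsSepClosed Ω] (ξ : Spec (CommRingCat.of Ω) ⟶ X)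

/-- The germ at a point given by a morphism. -/
noncomputable abbrev sg (U : X.Etale) (l : Spec (CommRingCat.of Ω) ⟶ U.left) (hl : l ≫ U.hom = ξ)
    (σ : F.obj.obj (op U)) : (shStalk ξ).obj F :=
  shGerm ξ F U (Over.homMk l hl) σ

lemma sg_res {U V : X.Etale} (g : V ⟶ U) (m : Spec (CommRingCat.of Ω) ⟶ V.left) (hm : m ≫ V.hom = ξ)
    (l : Spec (CommRingCat.of Ω) ⟶ U.left) (hl : l ≫ U.hom = ξ) (e : m ≫ g.left = l)
    (σ : F.obj.obj (op U)) : sg F ξ V m hm (F.obj.map g.op σ) = sg F ξ U l hl σ :=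
  ((Scheme.pointSmallEtale ξ).toPresheafFiber_w_apply g (Over.homMk m hm) F.obj σ).trans
    (congrArg (fun t => shGerm ξ F U t σ)
      (show (Scheme.pointSmallEtale ξ).fiber.map g (Over.homMk m hm) = Over.homMk l hl from
        Over.OverMorphism.ext e))

end germs

section pairs

variable (F : EtDesc.Sh X) (U₁ U₂ : X.Etale)

/-- The product of two étale schemes. -/
noncomputable def P2 : X.Etale :=
  haveI : Etale U₁.hom := U₁.prop
  haveI : Etale U₂.hom := U₂.prop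
  Scheme.Etale.mk (pullback.fst U₁.hom U₂.hom ≫ U₁.hom)

/-- First projection. -/
noncomputable def pr₁ : P2 U₁ U₂ ⟶ U₁ := MorphismProperty.Over.homMk (pullback.fst U₁.hom U₂.hom) rfl

/-- Second projection. -/
noncomputable def pr₂ : P2 U₁ U₂ ⟶ U₂ :=
  MorphismProperty.Over.homMk (pullback.snd U₁.hom U₂.hom) pullback.condition.symm

/-- The locus where two sections agree. -/
noncomputable def agree (s₁ : F.obj.obj (op U₁)) (s₂ : F.obj.obj (op U₂)) :
    (pullback U₁.hom U₂.hom).Opens :=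
  ⟨agreeSet F (P2 U₁ U₂) (F.obj.map (pr₁ U₁ U₂).op s₁) (F.obj.map (pr₂ U₁ U₂).op s₂),
    isOpen_agreeSet _ _ _ _⟩

variable {Ω : Type u} [Field Ω] [IsSepClosed Ω]

lemma mem_agree_iff (s₁ : F.obj.obj (op U₁)) (s₂ : F.obj.obj (op U₂))
    (ξ : Spec (CommRingCat.of Ω) ⟶ X) (l : Spec (CommRingCat.of Ω) ⟶ pullback U₁.hom U₂.hom)
    (a : Spec (CommRingCat.of Ω) ⟶ U₁.left) (ha : a ≫ U₁.hom = ξ) (hla : l ≫ pullback.fst _ _ = a)
    (b : Spec (CommRingCat.of Ω) ⟶ U₂.left) (hb : b ≫ U₂.hom = ξ) (hlb : l ≫ pullback.snd _ _ = b) :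
    l default ∈ agree F U₁ U₂ s₁ s₂ ↔ sg F ξ U₁ a ha s₁ = sg F ξ U₂ b hb s₂ := by
  have hl : l ≫ (P2 U₁ U₂).hom = ξ :=
    (Category.assoc _ _ _).symm.trans ((congrArg (· ≫ U₁.hom) hla).trans ha)
  rw [← sg_res F ξ (pr₁ U₁ U₂) l hl a ha hla s₁, ← sg_res F ξ (pr₂ U₁ U₂) l hl b hb hlb s₂]
  exact (shGerm_eq_iff_mem ξ F (P2 U₁ U₂) _ _ (Over.homMk l hl)).symm

lemma agree_trans (U₃ : X.Etale) (s₁ : F.obj.obj (op U₁)) (s₂ : F.obj.obj (op U₂)) (s₃ : F.obj.obj (op U₃))
    (q : ↥(pullback (pullback.snd U₁.hom U₂.hom) (pullback.fst U₂.hom U₃.hom)))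
    (h₁ : pullback.fst (pullback.snd U₁.hom U₂.hom) (pullback.fst U₂.hom U₃.hom) q ∈ agree F U₁ U₂ s₁ s₂)
    (h₂ : pullback.snd (pullback.snd U₁.hom U₂.hom) (pullback.fst U₂.hom U₃.hom) q ∈ agree F U₂ U₃ s₂ s₃)
    {l : pullback (pullback.snd U₁.hom U₂.hom) (pullback.fst U₂.hom U₃.hom) ⟶ pullback U₁.hom U₃.hom}
    (hl₁ : l ≫ pullback.fst _ _ = pullback.fst _ _ ≫ pullback.fst _ _)
    (hl₂ : l ≫ pullback.snd _ _ = pullback.snd _ _ ≫ pullback.snd _ _) :
    l q ∈ agree F U₁ U₃ s₁ s₃ := by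
  let ζ := geomPoint q
  have hζ : ζ default = q := geomPoint_apply q _
  let p₁ := pullback.fst (pullback.snd U₁.hom U₂.hom) (pullback.fst U₂.hom U₃.hom)
  let p₂ := pullback.snd (pullback.snd U₁.hom U₂.hom) (pullback.fst U₂.hom U₃.hom)
  let a := (ζ ≫ p₁) ≫ pullback.fst U₁.hom U₂.hom
  let b := (ζ ≫ p₁) ≫ pullback.snd U₁.hom U₂.hom
  let c := (ζ ≫ p₂) ≫ pullback.snd U₂.hom U₃.hom
  have hb' : (ζ ≫ p₂) ≫ pullback.fst U₂.hom U₃.hom = b :=
    (Category.assoc _ _ _).trans ((congrArg (ζ ≫ ·) pullback.condition.symm).trans (Category.assoc _ _ _).symm)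
  let ξ := a ≫ U₁.hom
  have hb : b ≫ U₂.hom = ξ :=
    (Category.assoc _ _ _).trans ((congrArg ((ζ ≫ p₁) ≫ ·) pullback.condition.symm).trans
      (Category.assoc _ _ _).symm)
  have hc : c ≫ U₃.hom = ξ :=
    ((Category.assoc _ _ _).trans ((congrArg ((ζ ≫ p₂) ≫ ·) pullback.condition.symm).trans
      (Category.assoc _ _ _).symm)).trans ((congrArg (· ≫ U₂.hom) hb').trans hb)
  have e₁ := (mem_agree_iff F U₁ U₂ s₁ s₂ ξ (ζ ≫ p₁) a rfl rfl b hb rfl).1
    (by rw [Scheme.Hom.comp_apply, hζ]; exact h₁)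
  have e₂ := (mem_agree_iff F U₂ U₃ s₂ s₃ ξ (ζ ≫ p₂) b hb hb' c hc rfl).1
    (by rw [Scheme.Hom.comp_apply, hζ]; exact h₂)
  have h₃ := (mem_agree_iff F U₁ U₃ s₁ s₃ ξ (ζ ≫ l) a rfl
    (by simp only [Category.assoc, hl₁, a, p₁]) c hc (by simp only [Category.assoc, hl₂, c, p₂])).2 (e₁.trans e₂)
  rwa [Scheme.Hom.comp_apply, hζ] at h₃

lemma agree_symm (s₁ : F.obj.obj (op U₁)) (s₂ : F.obj.obj (op U₂)) (p : ↥(pullback U₁.hom U₂.hom))
    (h : p ∈ agree F U₁ U₂ s₁ s₂) :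
    (pullbackSymmetry U₁.hom U₂.hom).hom p ∈ agree F U₂ U₁ s₂ s₁ := by
  let ζ := geomPoint p
  have hζ : ζ default = p := geomPoint_apply p _
  let a := ζ ≫ pullback.fst U₁.hom U₂.hom
  let b := ζ ≫ pullback.snd U₁.hom U₂.hom
  have hb : b ≫ U₂.hom = a ≫ U₁.hom := by simp only [a, b, Category.assoc, pullback.condition]
  have e := (mem_agree_iff F U₁ U₂ s₁ s₂ (a ≫ U₁.hom) ζ a rfl rfl b hb rfl).1 (by rw [hζ]; exact h)
  have h₃ := (mem_agree_iff F U₂ U₁ s₂ s₁ (a ≫ U₁.hom) (ζ ≫ (pullbackSymmetry U₁.hom U₂.hom).hom) b hb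
    (by simp [b]) a rfl (by simp [a])).2 e.symm
  rwa [Scheme.Hom.comp_apply, hζ] at h₃

end pairs

section push

variable (f : X ⟶ Y) [IsProper f] {Ω : Type u} [Field Ω] [IsAlgClosed Ω]
  (η : Spec (CommRingCat.of Ω) ⟶ Y)

/-- A closed set meeting the fibre of a proper map at a geometric point contains a point over it. -/
lemma exists_pushLift_mem (V : Y.Etale) (s : (Scheme.pointSmallEtale η).fiber.obj V)
    (C : Set ↥((EtCoh.bc f).obj V).left) (hC : IsClosed C) (z : ↥((EtCoh.bc f).obj V).left) (hz : z ∈ C)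
    (hzs : (pullback.fst V.hom f) z = fiberPoint η s) :
    ∃ (ξ : Spec (CommRingCat.of Ω) ⟶ X) (h : ξ ≫ f = η), fiberPoint ξ (pushLift f ξ h V s) ∈ C := by
  let s' : Spec (CommRingCat.of Ω) ⟶ V.left := s.left
  let fV := pullback.fst V.hom f
  let q := pullback.snd fV s'
  have hC' : IsClosed ((pullback.fst fV s') ⁻¹' C) := hC.preimage (pullback.fst fV s').continuous
  obtain ⟨p, hp, -⟩ := Scheme.Pullback.exists_preimage_pullback (f := fV) (g := s') z default hzs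
  have : JacobsonSpace ↥(pullback fV s') := LocallyOfFiniteType.jacobsonSpace q
  obtain ⟨x, hxC, hx⟩ := nonempty_inter_closedPoints
    (⟨p, show pullback.fst fV s' p ∈ C by rw [hp]; exact hz⟩ : ((pullback.fst fV s') ⁻¹' C).Nonempty) hC'.isLocallyClosed
  let l := pointOfClosedPoint q x hx
  have hl : l ≫ q = 𝟙 _ := pointOfClosedPoint_comp q x hx
  let m : Spec (CommRingCat.of Ω) ⟶ pullback V.hom f := l ≫ pullback.fst fV s'
  have hm : m ≫ pullback.fst V.hom f = s' :=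
    (Category.assoc _ _ _).trans ((congrArg (l ≫ ·) pullback.condition).trans
      ((Category.assoc _ _ _).symm.trans ((congrArg (· ≫ s') hl).trans (Category.id_comp _))))
  have h : (m ≫ pullback.snd V.hom f) ≫ f = η :=
    (Category.assoc _ _ _).trans ((congrArg (m ≫ ·) pullback.condition.symm).trans
      ((Category.assoc _ _ _).symm.trans ((congrArg (· ≫ V.hom) hm).trans (Over.w s))))
  refine ⟨m ≫ pullback.snd V.hom f, h, ?_⟩
  have e : (pushLift f (m ≫ pullback.snd V.hom f) h V s).left = m := by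
    apply pullback.hom_ext
    · exact (pullback.lift_fst _ _ _).trans hm.symm
    · exact pullback.lift_snd _ _ _
  show (pushLift f (m ≫ pullback.snd V.hom f) h V s).left (default : Spec (CommRingCat.of Ω)) ∈ C
  rw [e]
  show pullback.fst fV s' (l default) ∈ C
  rw [pointOfClosedPoint_apply]
  exact hxC

/-- Germs of a direct image along a proper morphism are determined by their values. -/
lemma shGerm_push_ext (F : EtDesc.Sh X) (V : Y.Etale) (s : (Scheme.pointSmallEtale η).fiber.obj V)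
    (σ τ : F.obj.obj (op ((EtCoh.bc f).obj V)))
    (hσ : ∀ (ξ : Spec (CommRingCat.of Ω) ⟶ X) (h : ξ ≫ f = η),
      shGerm ξ F ((EtCoh.bc f).obj V) (pushLift f ξ h V s) σ =
        shGerm ξ F ((EtCoh.bc f).obj V) (pushLift f ξ h V s) τ) :
    shGerm η ((EtDesc.pushSh f).obj F) V s σ = shGerm η ((EtDesc.pushSh f).obj F) V s τ := by
  rw [shGerm_eq_iff_mem]
  let fV : pullback V.hom f ⟶ V.left := pullback.fst _ _
  have hCc : IsClosed (agreeSet F _ σ τ)ᶜ := (isOpen_agreeSet F _ σ τ).isClosed_compl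
  let O : V.left.Opens := ⟨(fV.base '' (agreeSet F _ σ τ)ᶜ)ᶜ, (fV.isClosedMap _ hCc).isOpen_compl⟩
  have hO : fiberPoint η s ∈ O := by
    rintro ⟨z, hz, hzt⟩
    obtain ⟨ξ, h, hmem⟩ := exists_pushLift_mem f η V s _ hCc z hz hzt
    exact hmem ((shGerm_eq_iff_mem ξ F _ σ τ _).1 (hσ ξ h))
  refine ⟨openObj V O, openHom V O, ⟨⟨_, hO⟩, rfl⟩, ?_⟩
  show F.obj.map ((EtCoh.bc f).map (openHom V O)).op σ = F.obj.map ((EtCoh.bc f).map (openHom V O)).op τ
  rw [map_eq_iff_range_subset]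
  rintro _ ⟨w, rfl⟩
  by_contra hn
  have h1 : ((EtCoh.bc f).map (openHom V O)).left ≫ fV = pullback.fst (openObj V O).hom f ≫ O.ι :=
    pullback.lift_fst _ _ _
  exact ((pullback.fst (openObj V O).hom f).base w).2 ⟨_, hn,
    congrArg (fun m : pullback (openObj V O).hom f ⟶ V.left => m.base w) h1⟩

/-- The same for germs at different neighbourhoods. -/
lemma shGerm_push_eq (F : EtDesc.Sh X)
    (V₁ V₂ : Y.Etale) (s₁ : (Scheme.pointSmallEtale η).fiber.obj V₁)
    (s₂ : (Scheme.pointSmallEtale η).fiber.obj V₂)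
    (σ₁ : F.obj.obj (op ((EtCoh.bc f).obj V₁))) (σ₂ : F.obj.obj (op ((EtCoh.bc f).obj V₂)))
    (hσ : ∀ (ξ : Spec (CommRingCat.of Ω) ⟶ X) (h : ξ ≫ f = η),
      shGerm ξ F ((EtCoh.bc f).obj V₁) (pushLift f ξ h V₁ s₁) σ₁ =
        shGerm ξ F ((EtCoh.bc f).obj V₂) (pushLift f ξ h V₂ s₂) σ₂) :
    shGerm η ((EtDesc.pushSh f).obj F) V₁ s₁ σ₁ = shGerm η ((EtDesc.pushSh f).obj F) V₂ s₂ σ₂ := by
  let Φ := Scheme.pointSmallEtale η
  obtain ⟨W₀, pm, qm, -⟩ := IsCofilteredOrEmpty.cone_objs (C := Φ.fiber.Elements)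
    (Functor.elementsMk _ V₁ s₁) (Functor.elementsMk _ V₂ s₂)
  obtain ⟨W, w⟩ := W₀
  let p : W ⟶ V₁ := pm.1
  let q : W ⟶ V₂ := qm.1
  have hp : Φ.fiber.map p w = s₁ := pm.2
  have hq : Φ.fiber.map q w = s₂ := qm.2
  rw [← hp, ← hq]
  refine ((Φ.toPresheafFiber_w_apply p w ((EtDesc.pushSh f).obj F).obj σ₁).symm.trans ?_).trans
    (Φ.toPresheafFiber_w_apply q w ((EtDesc.pushSh f).obj F).obj σ₂)
  refine shGerm_push_ext f η F W w _ _ fun ξ h => ?_
  refine (((Scheme.pointSmallEtale ξ).toPresheafFiber_w_apply ((EtCoh.bc f).map p) _ F.obj σ₁).trans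
    ?_).trans ((Scheme.pointSmallEtale ξ).toPresheafFiber_w_apply ((EtCoh.bc f).map q) _ F.obj σ₂).symm
  rw [pushLift_map, pushLift_map]
  erw [hp, hq]
  exact hσ ξ h

end push

lemma mem_of_comp_eq {A B C : Scheme.{u}} (a : A ⟶ B) (c : B ⟶ C) (k : A ⟶ C) (h : a ≫ c = k) (x : A)
    (S : Set C) (hx : k x ∈ S) : c (a x) ∈ S := by
  subst h
  exact hx

lemma point_eq_of_comp_eq {A B C : Scheme.{u}} (a : A ⟶ B) (c : B ⟶ C) (k : A ⟶ C) (h : a ≫ c = k) (x : A) :
    c (a x) = k x := by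
  subst h
  rfl

section plain

variable {S : Scheme.{u}} (f : X ⟶ S) {Ω : Type u} [Field Ω] [IsAlgClosed Ω]
  (η : Spec (CommRingCat.of Ω) ⟶ S) {ι : Type u} {U : ι → Scheme.{u}} (u : ∀ j, U j ⟶ X)
  (V : S.Etale) (t : (Scheme.pointSmallEtale η).fiber.obj V) (j : ι) {P : Scheme.{u}}
  (l : P ⟶ pullback (u j) (pullback.fst f η))

lemma comp_fibreLift_snd :
    (l ≫ fibreLift f η u V t j) ≫ pullback.snd V.hom (u j ≫ f) = l ≫ pullback.fst (u j) (pullback.fst f η) :=
  (Category.assoc _ _ _).trans (congrArg (l ≫ ·) (pullback.lift_snd _ _ _))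

lemma comp_fibreLift_fst :
    (l ≫ fibreLift f η u V t j) ≫ pullback.fst V.hom (u j ≫ f) =
      ((l ≫ pullback.snd (u j) (pullback.fst f η)) ≫ pullback.snd f η) ≫ t.left :=
  (Category.assoc _ _ _).trans ((congrArg (l ≫ ·) (pullback.lift_fst _ _ _)).trans
    ((Category.assoc _ _ _).symm.trans (Category.assoc _ _ _).symm))

lemma comp_fibreLift_mv {k : P ⟶ pullback V.hom f}
    (h₁ : k ≫ pullback.fst V.hom f =
      ((l ≫ pullback.snd (u j) (pullback.fst f η)) ≫ pullback.snd f η) ≫ t.left)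
    (h₂ : k ≫ pullback.snd V.hom f = (l ≫ pullback.fst (u j) (pullback.fst f η)) ≫ u j) :
    (l ≫ fibreLift f η u V t j) ≫ mv (u j) f V.hom rfl = k := by
  apply pullback.hom_ext
  · exact ((Category.assoc _ _ _).trans (congrArg ((l ≫ fibreLift f η u V t j) ≫ ·) (pullback.lift_fst _ _ _))).trans
      ((comp_fibreLift_fst f η u V t j l).trans h₁.symm)
  · exact ((Category.assoc _ _ _).trans (congrArg ((l ≫ fibreLift f η u V t j) ≫ ·) (pullback.lift_snd _ _ _))).trans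
      ((Category.assoc _ _ _).symm.trans ((congrArg (· ≫ u j) (comp_fibreLift_snd f η u V t j l)).trans h₂.symm))

end plain

section glue

variable {S : Scheme.{u}} (f : X ⟶ S) (F : EtDesc.Sh X) {ι : Type u} (U : ι → X.Etale) (V : S.Etale)

/-- The base change of `U j` to `V`, over `X`. -/
noncomputable def Uv (j : ι) : X.Etale :=
  haveI : Etale V.hom := V.prop
  haveI : Etale (U j).hom := (U j).prop
  Scheme.Etale.mk (pullback.snd V.hom ((U j).hom ≫ f) ≫ (U j).hom)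

/-- An open of the base change of `U j`. -/
noncomputable abbrev Wv (j : ι) (D : (pullback V.hom ((U j).hom ≫ f)).Opens) : X.Etale :=
  openObj (Uv f U V j) D

/-- The map to `U j`. -/
noncomputable def aMap (j : ι) (D : (pullback V.hom ((U j).hom ≫ f)).Opens) : Wv f U V j D ⟶ U j :=
  openHom (Uv f U V j) D ≫ MorphismProperty.Over.homMk (pullback.snd V.hom ((U j).hom ≫ f)) rfl

/-- The map to the base change of `V`. -/
noncomputable def bMap (j : ι) (D : (pullback V.hom ((U j).hom ≫ f)).Opens) :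
    Wv f U V j D ⟶ (EtCoh.bc f).obj V :=
  openHom (Uv f U V j) D ≫
    MorphismProperty.Over.homMk (mv (U j).hom f V.hom rfl) (pullback.lift_snd _ _ _)

lemma aMap_left (j : ι) (D : (pullback V.hom ((U j).hom ≫ f)).Opens) :
    (aMap f U V j D).left = D.ι ≫ pullback.snd V.hom ((U j).hom ≫ f) := rfl

lemma bMap_left (j : ι) (D : (pullback V.hom ((U j).hom ≫ f)).Opens) :
    (bMap f U V j D).left = D.ι ≫ mv (U j).hom f V.hom rfl := rfl

/-- Glueing sections over a cover of the base change of `V`. -/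
lemma exists_glue (τ : ∀ j, F.obj.obj (op (U j))) (D : ∀ j, (pullback V.hom ((U j).hom ≫ f)).Opens)
    (hcov : ∀ x : ↥(pullback V.hom f), ∃ j, ∃ d ∈ D j, mv (U j).hom f V.hom rfl d = x)
    (hDA : ∀ (j k : ι) (q : ↥(pullback (mv (U j).hom f V.hom rfl) (mv (U k).hom f V.hom rfl))),
      pullback.fst (mv (U j).hom f V.hom rfl) (mv (U k).hom f V.hom rfl) q ∈ D j →
      pullback.snd (mv (U j).hom f V.hom rfl) (mv (U k).hom f V.hom rfl) q ∈ D k →
      pullback.map (mv (U j).hom f V.hom rfl) (mv (U k).hom f V.hom rfl) (U j).hom (U k).hom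
        (pullback.snd _ _) (pullback.snd _ _) (pullback.snd _ _) (pullback.lift_snd _ _ _)
        (pullback.lift_snd _ _ _) q ∈ agree F (U j) (U k) (τ j) (τ k)) :
    ∃ σ : F.obj.obj (op ((EtCoh.bc f).obj V)),
      ∀ j, F.obj.map (bMap f U V j (D j)).op σ = F.obj.map (aMap f U V j (D j)).op (τ j) := by
  let W : ι → X.Etale := fun j => Wv f U V j (D j)
  let b : ∀ j : ι, W j ⟶ (EtCoh.bc f).obj V := fun j => bMap f U V j (D j)
  have hJ : Sieve.ofArrows W b ∈ X.smallEtaleTopology ((EtCoh.bc f).obj V) := by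
    refine (mem_topology_iff _).mpr fun x => ?_
    obtain ⟨j, d, hd, hdx⟩ := hcov x
    exact ⟨W j, b j, ⟨d, hd⟩, Sieve.ofArrows_mk _ _ _, hdx⟩
  have hs : Presieve.IsSheafFor F.obj (Presieve.ofArrows W b) := by
    rw [Presieve.isSheafFor_iff_generate]
    exact ((isSheaf_iff_isSheaf_of_type _ _).mp F.property) _ hJ
  obtain ⟨σ, hσ, -⟩ := ((Presieve.isSheafFor_arrows_iff _ _).mp hs)
    (fun j => F.obj.map (aMap f U V j (D j)).op (τ j)) (fun j k Z gj gk h => by
      have hl : (gj.left ≫ (D j).ι) ≫ mv (U j).hom f V.hom rfl = (gk.left ≫ (D k).ι) ≫ mv (U k).hom f V.hom rfl :=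
        (Category.assoc _ _ _).trans ((congrArg (fun m : Z ⟶ (EtCoh.bc f).obj V => m.left) h).trans
          (Category.assoc _ _ _).symm)
      let κ₁ : Z.left ⟶ pullback (mv (U j).hom f V.hom rfl) (mv (U k).hom f V.hom rfl) :=
        pullback.lift (gj.left ≫ (D j).ι) (gk.left ≫ (D k).ι) hl
      let κ₀ : Z.left ⟶ pullback (U j).hom (U k).hom :=
        κ₁ ≫ pullback.map (mv (U j).hom f V.hom rfl) (mv (U k).hom f V.hom rfl) (U j).hom (U k).hom
          (pullback.snd _ _) (pullback.snd _ _) (pullback.snd _ _) (pullback.lift_snd _ _ _)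
          (pullback.lift_snd _ _ _)
      have e₁ : κ₀ ≫ pullback.fst (U j).hom (U k).hom = gj.left ≫ (aMap f U V j (D j)).left :=
        (Category.assoc _ _ _).trans ((congrArg (κ₁ ≫ ·) (pullback.lift_fst _ _ _)).trans
          ((Category.assoc _ _ _).symm.trans ((congrArg (· ≫ pullback.snd V.hom ((U j).hom ≫ f))
            (pullback.lift_fst _ _ _)).trans (Category.assoc _ _ _))))
      have e₂ : κ₀ ≫ pullback.snd (U j).hom (U k).hom = gk.left ≫ (aMap f U V k (D k)).left :=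
        (Category.assoc _ _ _).trans ((congrArg (κ₁ ≫ ·) (pullback.lift_snd _ _ _)).trans
          ((Category.assoc _ _ _).symm.trans ((congrArg (· ≫ pullback.snd V.hom ((U k).hom ≫ f))
            (pullback.lift_snd _ _ _)).trans (Category.assoc _ _ _))))
      have eh : κ₀ ≫ (P2 (U j) (U k)).hom = Z.hom :=
        ((Category.assoc _ _ _).symm.trans ((congrArg (· ≫ (U j).hom) e₁).trans (Category.assoc _ _ _))).trans
          ((congrArg (gj.left ≫ ·) (MorphismProperty.Over.w (aMap f U V j (D j)))).trans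
            (MorphismProperty.Over.w gj))
      let κ : Z ⟶ P2 (U j) (U k) := MorphismProperty.Over.homMk κ₀ eh
      have k₁ : κ ≫ pr₁ (U j) (U k) = gj ≫ aMap f U V j (D j) := MorphismProperty.Over.Hom.ext e₁
      have k₂ : κ ≫ pr₂ (U j) (U k) = gk ≫ aMap f U V k (D k) := MorphismProperty.Over.Hom.ext e₂
      have h4 : F.obj.map κ.op (F.obj.map (pr₁ (U j) (U k)).op (τ j)) =
          F.obj.map κ.op (F.obj.map (pr₂ (U j) (U k)).op (τ k)) := by
        rw [map_eq_iff_range_subset]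
        rintro _ ⟨z, rfl⟩
        refine hDA j k (κ₁ z) ?_ ?_
        · rw [point_eq_of_comp_eq κ₁ (pullback.fst _ _) _ (pullback.lift_fst _ _ _) z]
          exact (gj.left z).2
        · rw [point_eq_of_comp_eq κ₁ (pullback.snd _ _) _ (pullback.lift_snd _ _ _) z]
          exact (gk.left z).2
      rw [← Functor.map_comp_apply, ← Functor.map_comp_apply, ← op_comp, ← op_comp, k₁, k₂] at h4
      rw [← Functor.map_comp_apply, ← Functor.map_comp_apply, ← op_comp, ← op_comp]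
      exact h4)
  exact ⟨σ, hσ⟩

/-- The germ of a glued section. -/
lemma germ_glue {Ω : Type u} [Field Ω] [IsAlgClosed Ω] (η : Spec (CommRingCat.of Ω) ⟶ S)
    (t : (Scheme.pointSmallEtale η).fiber.obj V) (j : ι) (D : (pullback V.hom ((U j).hom ≫ f)).Opens)
    (τ : F.obj.obj (op (U j))) (σ : F.obj.obj (op ((EtCoh.bc f).obj V)))
    (hσ : F.obj.map (bMap f U V j D).op σ = F.obj.map (aMap f U V j D).op τ)
    (l : Spec (CommRingCat.of Ω) ⟶ pullback (U j).hom (pullback.fst f η))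
    (hlD : fibreLift f η (fun j => (U j).hom) V t j (l default) ∈ D)
    (hl₂ : (l ≫ pullback.snd _ _) ≫ pullback.snd f η = 𝟙 _)
    (ξ : Spec (CommRingCat.of Ω) ⟶ X) (hξ : ξ ≫ f = η)
    (hlu : (l ≫ pullback.fst (U j).hom (pullback.fst f η)) ≫ (U j).hom = ξ) :
    shGerm ξ F ((EtCoh.bc f).obj V) (pushLift f ξ hξ V t) σ =
      sg F ξ (U j) (l ≫ pullback.fst _ _) hlu τ := by
  have hrg : Set.range (l ≫ fibreLift f η (fun j => (U j).hom) V t j) ⊆ Set.range D.ι := by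
    rintro _ ⟨x, rfl⟩
    simp only [Scheme.Opens.range_ι]
    rw [Subsingleton.elim x default]
    exact hlD
  let mW₀ : Spec (CommRingCat.of Ω) ⟶ D.toScheme :=
    IsOpenImmersion.lift D.ι (l ≫ fibreLift f η (fun j => (U j).hom) V t j) hrg
  let mW : Spec (CommRingCat.of Ω) ⟶ (Wv f U V j D).left := mW₀
  have hmW : mW ≫ D.ι = l ≫ fibreLift f η (fun j => (U j).hom) V t j :=
    IsOpenImmersion.lift_fac D.ι _ hrg
  have hmWa : mW ≫ (aMap f U V j D).left = l ≫ pullback.fst (U j).hom (pullback.fst f η) :=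
    (Category.assoc _ _ _).symm.trans ((congrArg (· ≫ pullback.snd V.hom ((U j).hom ≫ f)) hmW).trans
      (comp_fibreLift_snd f η (fun j => (U j).hom) V t j l))
  have hmWh : mW ≫ (Wv f U V j D).hom = ξ :=
    (congrArg (mW ≫ ·) (MorphismProperty.Over.w (aMap f U V j D)).symm).trans
      ((Category.assoc _ _ _).symm.trans ((congrArg (· ≫ (U j).hom) hmWa).trans hlu))
  have hmWb : mW ≫ (bMap f U V j D).left = (pushLift f ξ hξ V t).left := by
    refine (Category.assoc _ _ _).symm.trans ((congrArg (· ≫ mv (U j).hom f V.hom rfl) hmW).trans ?_)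
    refine comp_fibreLift_mv f η (fun j => (U j).hom) V t j l ?_ ?_
    · exact (pullback.lift_fst _ _ _).trans ((Category.id_comp _).symm.trans (congrArg (· ≫ t.left) hl₂.symm))
    · exact (pullback.lift_snd _ _ _).trans hlu.symm
  refine Eq.trans ?_ (sg_res F ξ (aMap f U V j D) mW hmWh _ hlu hmWa τ)
  rw [← hσ]
  exact (sg_res F ξ (bMap f U V j D) mW hmWh (pushLift f ξ hξ V t).left
    (Over.w (pushLift f ξ hξ V t)) hmWb σ).symm

end glue

section main

variable {X' Y' : Scheme.{u}} (f : X ⟶ Y) (g : Y' ⟶ Y) (f' : X' ⟶ Y') (g' : X' ⟶ X)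
  (hsq : IsPullback g' f' f g) (F : EtDesc.Sh X) {Ω : Type u} [Field Ω] [IsAlgClosed Ω]
  (η' : Spec (CommRingCat.of Ω) ⟶ Y')

lemma injective_stalk [IsProper f] :
    Function.Injective ((shStalk η').map (EtBC.baseChange0Sh f g f' g' hsq.w F)) := by
  intro a b hab
  obtain ⟨a₀, rfl⟩ : ∃ a₀, (shStalkPullIso g η').hom.app ((EtDesc.pushSh f).obj F) a₀ = a :=
    ((isIso_iff_bijective ((shStalkPullIso g η').hom.app _)).1 inferInstance).2 a
  obtain ⟨b₀, rfl⟩ : ∃ b₀, (shStalkPullIso g η').hom.app ((EtDesc.pushSh f).obj F) b₀ = b :=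
    ((isIso_iff_bijective ((shStalkPullIso g η').hom.app _)).1 inferInstance).2 b
  obtain ⟨V₁, s₁, σ₁, rfl⟩ := shGerm_surjective _ _ a₀
  obtain ⟨V₂, s₂, σ₂, rfl⟩ := shGerm_surjective _ _ b₀
  rw [stalk_baseChange0_germ f g f' g' hsq, stalk_baseChange0_germ f g f' g' hsq] at hab
  rw [shGerm_push_eq f (η' ≫ g) F V₁ V₂ s₁ s₂ σ₁ σ₂]
  intro ξ hξ
  obtain ⟨ξ', h1, h2⟩ : ∃ ξ', ξ' ≫ g' = ξ ∧ ξ' ≫ f' = η' :=
    ⟨hsq.lift ξ η' hξ, hsq.lift_fst _ _ _, hsq.lift_snd _ _ _⟩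
  subst h1
  have h0 := values_eq_of_shGerm_eq f' η' _ _ _ _ _ _ _ hab ξ' h2
  rw [value_baseChange0 f g f' g' hsq F η' V₁ s₁ σ₁ ξ' h2 hξ,
    value_baseChange0 f g f' g' hsq F η' V₂ s₂ σ₂ ξ' h2 hξ] at h0
  exact ((isIso_iff_bijective ((shStalkPullIso g' ξ').hom.app F)).1 inferInstance).1 h0

/-- The value of a section of the inverse image at a point. -/
noncomputable def valPull {Ω' : Type u} [Field Ω'] [IsSepClosed Ω'] (ξ' : Spec (CommRingCat.of Ω') ⟶ X')
    (W : X'.Etale) (m : Spec (CommRingCat.of Ω') ⟶ W.left) (hm : m ≫ W.hom = ξ')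
    (σ : ((EtDesc.pullSh g').obj F).obj.obj (op W)) : (shStalk (ξ' ≫ g')).obj F :=
  (shStalkPullIso g' ξ').inv.app F (sg ((EtDesc.pullSh g').obj F) ξ' W m hm σ)

lemma valPull_iff {Ω' : Type u} [Field Ω'] [IsSepClosed Ω'] (ξ' : Spec (CommRingCat.of Ω') ⟶ X')
    (W : X'.Etale) (m : Spec (CommRingCat.of Ω') ⟶ W.left) (hm : m ≫ W.hom = ξ')
    (σ : ((EtDesc.pullSh g').obj F).obj.obj (op W)) (U : X.Etale)
    (a : Spec (CommRingCat.of Ω') ⟶ U.left) (ha : a ≫ U.hom = ξ' ≫ g')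
    (b : Spec (CommRingCat.of Ω') ⟶ ((EtCoh.bc g').obj U).left) (hb₁ : b ≫ pullback.fst U.hom g' = a)
    (hb₂ : b ≫ ((EtCoh.bc g').obj U).hom = ξ') (τ : F.obj.obj (op U)) :
    valPull g' F ξ' W m hm σ = sg F (ξ' ≫ g') U a ha τ ↔
      sg ((EtDesc.pullSh g').obj F) ξ' W m hm σ = sg ((EtDesc.pullSh g').obj F) ξ' ((EtCoh.bc g').obj U) b hb₂
        (((EtDesc.adjSh g').unit.app F).hom.app (op U) τ) := by
  have e : (shStalkPullIso g' ξ').hom.app F (sg F (ξ' ≫ g') U a ha τ) =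
      sg ((EtDesc.pullSh g').obj F) ξ' ((EtCoh.bc g').obj U) b hb₂
        (((EtDesc.adjSh g').unit.app F).hom.app (op U) τ) := by
    rw [shStalkPullIso_germ]
    refine congrArg (fun t => shGerm ξ' ((EtDesc.pullSh g').obj F) _ t
      (((EtDesc.adjSh g').unit.app F).hom.app (op U) τ)) (fiber_bc_ext g' U ξ' _ _ ?_)
    exact (pullback.lift_fst _ _ _).trans hb₁.symm
  let φ := (shStalkPullIso g' ξ').app F
  exact ⟨fun h => ((Groth.DescentBase.UnivSubm.iso_inv_hom φ _).symm.trans (congrArg φ.hom h)).trans e,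
    fun h => (congrArg φ.inv (h.trans e.symm)).trans (Groth.DescentBase.UnivSubm.iso_hom_inv φ _)⟩

set_option maxHeartbeats 1600000 in
/-- Local representatives of a section of the inverse image near the geometric fibre. -/
lemma exists_local_rep {Xη : Scheme.{u}} (pη : Xη ⟶ X) (e : Xη ⟶ X') (he₁ : e ≫ g' = pη) (W' : X'.Etale)
    (lη : Xη ⟶ W'.left) (hlη : lη ≫ W'.hom = e) (σ' : ((EtDesc.pullSh g').obj F).obj.obj (op W'))
    (S₀ : Y.Opens) (hS : ∀ y, f (pη y) ∈ S₀) (y : Xη) :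
    ∃ (U : X.Etale) (_ : IsAffine U.left) (_ : ∀ v : U.left, f (U.hom v) ∈ S₀)
      (τ : F.obj.obj (op U)) (O : (pullback U.hom pη).Opens),
      IsCompact (O : Set ↥(pullback U.hom pη)) ∧
      y ∈ pullback.snd U.hom pη '' (O : Set ↥(pullback U.hom pη)) ∧
      ∀ (Ω' : Type u) [Field Ω'] [IsSepClosed Ω'] (l : Spec (CommRingCat.of Ω') ⟶ pullback U.hom pη)
        (w : Spec (CommRingCat.of Ω') ⟶ Xη) (hlw : l ≫ pullback.snd U.hom pη = w),
        l default ∈ O →
        sg F ((w ≫ e) ≫ g') U (l ≫ pullback.fst U.hom pη)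
            (((Category.assoc _ _ _).trans ((congrArg (l ≫ ·) pullback.condition).trans
              ((Category.assoc _ _ _).symm.trans (congrArg (· ≫ pη) hlw)))).trans
              (((Category.assoc _ _ _).trans (congrArg (w ≫ ·) he₁)).symm)) τ =
          valPull g' F (w ≫ e) W' (w ≫ lη) ((Category.assoc _ _ _).trans (congrArg (w ≫ ·) hlη)) σ' := by
  let G := (EtDesc.pullSh g').obj F
  let ζ := geomPoint y
  have hζ : ζ default = y := geomPoint_apply y _
  let ξ' := ζ ≫ e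
  obtain ⟨U₁, l₁, τ₁, hτ₁⟩ := shGerm_surjective (ξ' ≫ g') F
    (valPull g' F ξ' W' (ζ ≫ lη) ((Category.assoc _ _ _).trans (congrArg (ζ ≫ ·) hlη)) σ')
  obtain ⟨W₁, hW₁, hmem, hW₁S⟩ := exists_isAffineOpen_mem_and_subset (x := fiberPoint (ξ' ≫ g') l₁)
    (U := (U₁.hom ≫ f) ⁻¹ᵁ S₀) (by
      have h2 : l₁.left ≫ U₁.hom = ξ' ≫ g' := Over.w l₁
      have h3 : ξ' ≫ g' = ζ ≫ pη := (Category.assoc _ _ _).trans (congrArg (ζ ≫ ·) he₁)
      show f (U₁.hom ((l₁.left : _ ⟶ U₁.left) (default : Spec (CommRingCat.of (SeparableClosure (Xη.residueField y)))))) ∈ S₀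
      refine mem_of_comp_eq (C := X) l₁.left U₁.hom (ζ ≫ pη) (h2.trans h3) _ (f ⁻¹' (S₀ : Set Y)) ?_
      show f ((ζ ≫ pη) default) ∈ S₀
      rw [Scheme.Hom.comp_apply]
      exact hS _)
  obtain ⟨l₂, hl₂⟩ := Groth.AlgSpEt.StrictLocal.exists_openLift (ξ' ≫ g') l₁ W₁ hmem
  let U := openObj U₁ W₁
  let τ := F.obj.map (openHom U₁ W₁).op τ₁
  have hval : shGerm (ξ' ≫ g') F U l₂ τ =
      valPull g' F ξ' W' (ζ ≫ lη) ((Category.assoc _ _ _).trans (congrArg (ζ ≫ ·) hlη)) σ' := by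
    rw [← hτ₁, ← hl₂]
    exact (Scheme.pointSmallEtale (ξ' ≫ g')).toPresheafFiber_w_apply (openHom U₁ W₁) l₂ F.obj τ₁
  let P := (EtCoh.bc g').obj U
  let uτ := ((EtDesc.adjSh g').unit.app F).hom.app (op U) τ
  let μ₁ : pullback U.hom pη ⟶ P.left :=
    pullback.lift (f := U.hom) (g := g') (pullback.fst _ _) (pullback.snd _ _ ≫ e)
      (pullback.condition.trans ((congrArg (_ ≫ ·) he₁.symm).trans (Category.assoc _ _ _).symm))
  let μ : pullback U.hom pη ⟶ pullback P.hom W'.hom :=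
    pullback.lift μ₁ (pullback.snd _ _ ≫ lη)
      ((pullback.lift_snd _ _ _).trans ((congrArg (_ ≫ ·) hlη.symm).trans (Category.assoc _ _ _).symm))
  let O₀ : (pullback U.hom pη).Opens := μ ⁻¹ᵁ agree G P W' uτ σ'
  have key : ∀ (Ω' : Type u) [Field Ω'] [IsSepClosed Ω']
      (l : Spec (CommRingCat.of Ω') ⟶ pullback U.hom pη)
      (w : Spec (CommRingCat.of Ω') ⟶ Xη) (hlw : l ≫ pullback.snd U.hom pη = w) (h₁),
      (l default ∈ O₀ ↔
        sg F ((w ≫ e) ≫ g') U (l ≫ pullback.fst U.hom pη) h₁ τ =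
        valPull g' F (w ≫ e) W' (w ≫ lη) ((Category.assoc _ _ _).trans (congrArg (w ≫ ·) hlη)) σ') := by
    intro Ω' _ _ l w hlw h₁
    subst hlw
    have hb₂ : (l ≫ μ₁) ≫ P.hom = (l ≫ pullback.snd _ _) ≫ e :=
      (Category.assoc _ _ _).trans ((congrArg (l ≫ ·) (pullback.lift_snd _ _ _)).trans
        (Category.assoc _ _ _).symm)
    have hlm : (l ≫ μ) ≫ pullback.fst P.hom W'.hom = l ≫ μ₁ :=
      (Category.assoc _ _ _).trans (congrArg (l ≫ ·) (pullback.lift_fst _ _ _))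
    have hlm₂ : (l ≫ μ) ≫ pullback.snd P.hom W'.hom = (l ≫ pullback.snd _ _) ≫ lη :=
      (Category.assoc _ _ _).trans ((congrArg (l ≫ ·) (pullback.lift_snd _ _ _)).trans
        (Category.assoc _ _ _).symm)
    have h1 := mem_agree_iff G P W' uτ σ' ((l ≫ pullback.snd _ _) ≫ e) (l ≫ μ) (l ≫ μ₁) hb₂ hlm
      ((l ≫ pullback.snd _ _) ≫ lη) ((Category.assoc _ _ _).trans (congrArg (_ ≫ ·) hlη)) hlm₂
    have h2 := valPull_iff g' F ((l ≫ pullback.snd _ _) ≫ e) W' ((l ≫ pullback.snd _ _) ≫ lη)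
      ((Category.assoc _ _ _).trans (congrArg (_ ≫ ·) hlη)) σ' U (l ≫ pullback.fst _ _) h₁ (l ≫ μ₁)
      ((Category.assoc _ _ _).trans (congrArg (l ≫ ·) (pullback.lift_fst _ _ _))) hb₂ τ
    show μ (l default) ∈ agree G P W' uτ σ' ↔ _
    rw [← Scheme.Hom.comp_apply, h1, eq_comm, ← h2, eq_comm]
  let oy : Spec (CommRingCat.of (SeparableClosure (Xη.residueField y))) ⟶ pullback U.hom pη :=
    pullback.lift l₂.left ζ ((Over.w l₂).trans ((Category.assoc _ _ _).trans (congrArg (ζ ≫ ·) he₁)))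
  have hoy : oy default ∈ O₀ := by
    refine (key _ oy ζ (pullback.lift_snd _ _ _) (((congrArg (· ≫ U.hom) (pullback.lift_fst _ _ _)).trans
      (Over.w l₂)))).2 ?_
    refine Eq.trans (congrArg (fun t => shGerm (ξ' ≫ g') F U t τ) (Over.OverMorphism.ext ?_)) hval
    exact pullback.lift_fst _ _ _
  obtain ⟨_, ⟨O, hO, rfl⟩, hyO, hOle⟩ :=
    (pullback U.hom pη).isBasis_affineOpens.exists_subset_of_mem_open hoy O₀.isOpen
  refine ⟨U, hW₁, fun v => hW₁S v.2, τ, O, hO.isCompact, ⟨oy default, hyO, ?_⟩, ?_⟩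
  · rw [← Scheme.Hom.comp_apply, pullback.lift_snd]; exact hζ
  · intro Ω' _ _ l w hlw hl
    exact (key Ω' l w hlw _).1 (hOle hl)

lemma valPull_cast {Ω' : Type u} [Field Ω'] [IsSepClosed Ω'] {ξ₁ ξ₂ : Spec (CommRingCat.of Ω') ⟶ X'}
    (h : ξ₁ = ξ₂) (W : X'.Etale) (m : Spec (CommRingCat.of Ω') ⟶ W.left) (hm : m ≫ W.hom = ξ₁)
    (hm' : m ≫ W.hom = ξ₂) (σ : ((EtDesc.pullSh g').obj F).obj.obj (op W)) (U : X.Etale)
    (a : Spec (CommRingCat.of Ω') ⟶ U.left) (ha : a ≫ U.hom = ξ₁ ≫ g') (ha' : a ≫ U.hom = ξ₂ ≫ g')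
    (τ : F.obj.obj (op U)) (H : sg F (ξ₁ ≫ g') U a ha τ = valPull g' F ξ₁ W m hm σ) :
    sg F (ξ₂ ≫ g') U a ha' τ = valPull g' F ξ₂ W m hm' σ := by
  subst h
  exact H

lemma hom_valPull {Ω' : Type u} [Field Ω'] [IsSepClosed Ω'] (ξ' : Spec (CommRingCat.of Ω') ⟶ X')
    (W : X'.Etale) (m : Spec (CommRingCat.of Ω') ⟶ W.left) (hm : m ≫ W.hom = ξ')
    (σ : ((EtDesc.pullSh g').obj F).obj.obj (op W)) (x : (shStalk (ξ' ≫ g')).obj F)
    (hx : x = valPull g' F ξ' W m hm σ) (s : (Scheme.pointSmallEtale ξ').fiber.obj W) (hs : s.left = m) :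
    (shStalkPullIso g' ξ').hom.app F x = shGerm ξ' ((EtDesc.pullSh g').obj F) W s σ := by
  subst hx
  refine (Groth.DescentBase.UnivSubm.iso_inv_hom ((shStalkPullIso g' ξ').app F) _).trans ?_
  exact congrArg (fun t => shGerm ξ' ((EtDesc.pullSh g').obj F) W t σ) (Over.OverMorphism.ext hs.symm)

lemma surjective_stalk [IsProper f] :
    Function.Surjective ((shStalk η').map (EtBC.baseChange0Sh f g f' g' hsq.w F)) := by
  classical
  intro a
  have : IsProper f' := MorphismProperty.of_isPullback hsq ‹_›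
  obtain ⟨V', t', σ', rfl⟩ := shGerm_surjective η' _ a
  let η := η' ≫ g
  let W' := (EtCoh.bc f').obj V'
  let G := (EtDesc.pullSh g').obj F
  let Xη := pullback f η
  let e : Xη ⟶ X' := hsq.lift (pullback.fst f η) (pullback.snd f η ≫ η')
    (pullback.condition.trans (Category.assoc _ _ _).symm)
  have he₁ : e ≫ g' = pullback.fst f η := hsq.lift_fst _ _ _
  have he₂ : e ≫ f' = pullback.snd f η ≫ η' := hsq.lift_snd _ _ _
  let lη : Xη ⟶ W'.left := pullback.lift (f := V'.hom) (g := f') (pullback.snd f η ≫ t'.left) e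
    ((Category.assoc _ _ _).trans ((congrArg (_ ≫ ·) (Over.w t')).trans he₂.symm))
  have hlη : lη ≫ W'.hom = e := pullback.lift_snd _ _ _
  -- an affine open of the base
  obtain ⟨S₀, hS₀, hηS₀, -⟩ :=
    exists_isAffineOpen_mem_and_subset (x := η default) (U := (⊤ : Y.Opens)) trivial
  -- local representatives
  have hS : ∀ y : Xη, f (pullback.fst f η y) ∈ S₀ := fun y =>
    mem_of_comp_eq (pullback.fst f η) f _ pullback.condition y (S₀ : Set Y) (by
      rw [Scheme.Hom.comp_apply, Subsingleton.elim (pullback.snd f η y) default]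
      exact hηS₀)
  have loc := exists_local_rep f g' F (pullback.fst f η) e he₁ W' lη hlη σ' S₀ hS
  choose U hUaff hUS τ O hOc hyO hOgerm using loc
  -- finitely many suffice
  have hXη : CompactSpace Xη := QuasiCompact.compactSpace_of_compactSpace (pullback.snd f η)
  have hopen : ∀ y, IsOpen (pullback.snd (U y).hom (pullback.fst f η) ''
      (O y : Set ↥(pullback (U y).hom (pullback.fst f η)))) := fun y => by
    have : Etale (U y).hom := (U y).prop
    exact (pullback.snd (U y).hom (pullback.fst f η)).isOpenMap _ (O y).isOpen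
  obtain ⟨I, hI⟩ := isCompact_univ.elim_finite_subcover _ hopen fun y _ => Set.mem_iUnion.2 ⟨y, hyO y⟩
  let u : ∀ j : I, (U j.1).left ⟶ X := fun j => (U j.1).hom
  have : ∀ j : I, Etale (u j) := fun j => (U j.1).prop
  have : ∀ j : I, IsAffine (U j.1).left := fun j => hUaff j.1
  let A : ∀ j k : I, (pullback (u j) (u k)).Opens := fun j k => agree F (U j.1) (U k.1) (τ j.1) (τ k.1)
  obtain ⟨V, t, D, hcov, hDO, hDA⟩ := BCStageLocal.exists_nbhd_opens_local f η u A (fun j => O j.1)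
    S₀ hS₀ hηS₀ (fun j v => hUS j.1 v) (fun j => hOc j.1)
    (fun j k l q h₁ h₂ => agree_trans F (U j.1) (U k.1) (U l.1) (τ j.1) (τ k.1) (τ l.1) q h₁ h₂
      (pullback.lift_fst _ _ _) (pullback.lift_snd _ _ _))
    (fun j k p hp => agree_symm F (U j.1) (U k.1) (τ j.1) (τ k.1) p hp)
    (fun j k d h₁ h₂ => by
      let ζ := geomPoint d
      have hζ : ζ default = d := geomPoint_apply d _
      let p₁ := pullback.fst (pullback.snd (u j) (pullback.fst f η)) (pullback.snd (u k) (pullback.fst f η))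
      let p₂ := pullback.snd (pullback.snd (u j) (pullback.fst f η)) (pullback.snd (u k) (pullback.fst f η))
      let w := (ζ ≫ p₁) ≫ pullback.snd (u j) (pullback.fst f η)
      have hw : (ζ ≫ p₂) ≫ pullback.snd (u k) (pullback.fst f η) = w :=
        (Category.assoc _ _ _).trans ((congrArg (ζ ≫ ·) pullback.condition.symm).trans (Category.assoc _ _ _).symm)
      have g₁ := hOgerm j.1 _ (ζ ≫ p₁) w rfl (by rw [Scheme.Hom.comp_apply, hζ]; exact h₁)
      have g₂ := hOgerm k.1 _ (ζ ≫ p₂) w hw (by rw [Scheme.Hom.comp_apply, hζ]; exact h₂)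
      have h₃ := (mem_agree_iff F (U j.1) (U k.1) (τ j.1) (τ k.1) ((w ≫ e) ≫ g')
        (ζ ≫ Criterion.pairY (pullback.fst f η) u j k) _ _
        (by simp only [Criterion.pairY, Category.assoc]; rw [pullback.lift_fst]) _ _
        (by simp only [Criterion.pairY, Category.assoc]; rw [pullback.lift_snd])).2 (g₁.trans g₂.symm)
      rwa [Scheme.Hom.comp_apply, hζ] at h₃)
    (fun y => by
      obtain ⟨z, hz, hzy⟩ := Set.mem_iUnion₂.1 (hI (Set.mem_univ y))
      exact ⟨⟨z, hz⟩, hzy⟩)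
  -- glue
  let B := (EtCoh.bc f).obj V
  obtain ⟨S, hS⟩ := exists_glue f F (fun j : I => U j.1) V (fun j => τ j.1) D hcov hDA
  refine ⟨(shStalkPullIso g η').hom.app _ (shGerm η ((EtDesc.pushSh f).obj F) V t S), ?_⟩
  rw [stalk_baseChange0_germ f g f' g' hsq]
  refine shGerm_push_eq f' η' _ _ _ _ _ _ _ fun ξ' h' => ?_
  have hh : (ξ' ≫ g') ≫ f = η' ≫ g := by rw [Category.assoc, hsq.w, reassoc_of% h']
  refine (value_baseChange0 f g f' g' hsq F η' V t S ξ' h' hh).trans ?_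
  let w : Spec (CommRingCat.of Ω) ⟶ Xη :=
    pullback.lift (ξ' ≫ g') (𝟙 _) (hh.trans (Category.id_comp _).symm)
  have hwe : w ≫ e = ξ' := by
    apply hsq.hom_ext
    · rw [Category.assoc, he₁, pullback.lift_fst]
    · rw [Category.assoc, he₂, pullback.lift_snd_assoc, Category.id_comp, h']
  obtain ⟨z, hz, o, ho, hoy⟩ := Set.mem_iUnion₂.1 (hI (Set.mem_univ (w default)))
  let j : I := ⟨z, hz⟩
  obtain ⟨l, hl, hlo⟩ := Scheme.exists_fac_of_etale_of_isSepClosed (pullback.snd (u j) (pullback.fst f η)) w o hoy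
  have g₁ := hOgerm j.1 Ω l w hl (by rw [hlo]; exact ho)
  have hlu : (l ≫ pullback.fst (u j) (pullback.fst f η)) ≫ u j = ξ' ≫ g' := by
    rw [Category.assoc, pullback.condition, ← Category.assoc, hl, pullback.lift_fst]
  have hS₁ : shGerm (ξ' ≫ g') F B (pushLift f (ξ' ≫ g') hh V t) S =
      sg F (ξ' ≫ g') (U j.1) (l ≫ pullback.fst _ _) hlu (τ j.1) :=
    germ_glue f F (fun j : I => U j.1) V η t j (D j) (τ j.1) S (hS j) l (by rw [hlo]; exact hDO j o ho)
      ((congrArg (· ≫ pullback.snd f η) hl).trans (pullback.lift_snd _ _ _)) (ξ' ≫ g') hh hlu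
  -- compare
  have hm' : (w ≫ lη) ≫ W'.hom = ξ' := ((Category.assoc _ _ _).trans (congrArg (w ≫ ·) hlη)).trans hwe
  have hval : sg F (ξ' ≫ g') (U j.1) (l ≫ pullback.fst _ _) hlu (τ j.1) =
      valPull g' F ξ' W' (w ≫ lη) hm' σ' :=
    valPull_cast g' F hwe W' (w ≫ lη) _ hm' σ' (U j.1) _ _ hlu (τ j.1) g₁
  refine hom_valPull g' F ξ' W' (w ≫ lη) hm' σ' _ (hS₁.trans hval) _ ?_
  apply pullback.hom_ext
  · refine (pullback.lift_fst _ _ _).trans ?_
    show _ = (w ≫ lη) ≫ pullback.fst V'.hom f'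
    exact ((Category.assoc _ _ _).trans ((congrArg (w ≫ ·) (pullback.lift_fst _ _ _)).trans
      ((Category.assoc _ _ _).symm.trans ((congrArg (· ≫ t'.left) (pullback.lift_snd _ _ _)).trans
        (Category.id_comp _))))).symm
  · exact (pullback.lift_snd _ _ _).trans hm'.symm

include hsq in
omit η' [Field Ω] [IsAlgClosed Ω] in
/-- **Proper base change** in degree zero for sheaves of sets. -/
theorem isIso_baseChange0Sh [IsProper f] : IsIso (EtBC.baseChange0Sh f g f' g' hsq.w F) :=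
  isIso_of_acPoints _ fun y =>
    ⟨injective_stalk f g f' g' hsq F (acPoint y), surjective_stalk f g f' g' hsq F (acPoint y)⟩

end main

end Groth.EtaleShriek.BCSets
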