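import Groth.Agent.Ega2Proj.FieldNormalization
import Groth.Agent.PropsBasic2.Reduced
import Mathlib.FieldTheory.IsAlgClosed.AlgebraicClosure
import Mathlib.FieldTheory.IsSepClosed

/-!
Every point of a quasi-separated scheme is the image of the generic point of a normal integral scheme
with separably closed function field, integral over the scheme.
-/

set_option autoImplicit false

universe u

open CategoryTheory CategoryTheory.Limits AlgebraicGeometry TopologicalSpace IsLocalRing

namespace Groth.EtaleShriek.GeomNormal

theorem exists_normal_cover {T : Scheme.{u}} [QuasiSeparatedSpace T] (x : T) :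
    ∃ (Z : Scheme.{u}) (_ : IsIntegral Z) (p : Z ⟶ T) (_ : IsIntegralHom p),
      (∀ z : Z, IsIntegrallyClosed (Z.presheaf.stalk z)) ∧ IsSepClosed Z.functionField ∧
        p (genericPoint Z) = x := by
  let S : Closeds T := ⟨closure {x}, isClosed_closure⟩
  let J := Scheme.IdealSheafData.vanishingIdeal S
  have hr : Set.range J.subschemeι = closure {x} := Groth.PropsBasic2.range_vanishingIdeal_subschemeι S
  have : _root_.AlgebraicGeometry.IsReduced J.subscheme := Groth.PropsBasic2.isReduced_vanishingIdeal_subscheme S
  obtain ⟨x', hx'⟩ : x ∈ Set.range J.subschemeι := hr ▸ subset_closure rfl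
  have huniv : Set.univ = closure ({x'} : Set J.subscheme) := by
    refine (Set.eq_univ_of_forall fun z => ?_).symm
    rw [J.subschemeι.isEmbedding.closure_eq_preimage_closure_image, Set.image_singleton, hx', ← hr]
    exact ⟨z, rfl⟩
  have : IrreducibleSpace J.subscheme := by
    rw [irreducibleSpace_def]
    show IsIrreducible (Set.univ : Set J.subscheme)
    rw [huniv]
    exact isIrreducible_singleton.closure
  have : IsIntegral J.subscheme := isIntegral_of_irreducibleSpace_of_isReduced _
  have : QuasiSeparatedSpace J.subscheme := quasiSeparatedSpace_of_quasiSeparated J.subschemeι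
  let X := J.subscheme
  let K : Type u := AlgebraicClosure X.functionField
  let φ : X.functionField →+* K := algebraMap X.functionField K
  let g : Spec (CommRingCat.of K) ⟶ X := Spec.map (CommRingCat.ofHom φ) ≫ X.fromSpecStalk (genericPoint X)
  have : QuasiCompact g := inferInstance
  have : QuasiSeparated g := inferInstance
  refine ⟨g.normalization, inferInstance, g.fromNormalization ≫ J.subschemeι, inferInstance, fun z =>
    (Groth.Ega2Proj.isNormalScheme_normalization X K φ g rfl z).2, ?_, ?_⟩
  · let j := (Scheme.stalkClosedPointTo g.toNormalization).hom
    have hinj : Function.Injective j := Groth.Ega2Proj.stalkClosedPointTo_toNormalization_injective X K g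
    have hsurj : Function.Surjective j := fun y => by
      have : y ∈ Set.range j := (Groth.Ega2Proj.range_stalkClosedPointTo X K φ g rfl).symm ▸
        (Algebra.IsIntegral.isIntegral (R := X.functionField) y :)
      exact this
    have e : g.toNormalization (closedPoint K) = genericPoint g.normalization :=
      Groth.Ega2Proj.toNormalization_closedPoint X K g
    let e₁ : K ≃+* g.normalization.functionField :=
      ((RingEquiv.ofBijective j ⟨hinj, hsurj⟩).symm).trans
        (g.normalization.presheaf.stalkCongr (Inseparable.of_eq e)).commRingCatIsoToRingEquiv
    have : IsSepClosed K := inferInstance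
    have : IsAlgClosed g.normalization.functionField := IsAlgClosed.of_ringEquiv K _ e₁
    infer_instance
  · rw [Scheme.Hom.comp_apply, Groth.Ega2Proj.fromNormalization_genericPoint X K φ g rfl]
    have hgen : genericPoint X = x' :=
      ((genericPoint_spec X).eq (show IsGenericPoint x' (Set.univ : Set X) from huniv.symm))
    rw [hgen, hx']

end Groth.EtaleShriek.GeomNormal
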