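import Groth.Agent.EtaleShriek.FlatConnBC
import Groth.Agent.DescentBase.UnivSubmComp

/-!
Base change in degree zero read on values at geometric points; transfer of sections of inverse images.
-/

set_option autoImplicit false
set_option backward.isDefEq.respectTransparency.types false

universe u

open CategoryTheory CategoryTheory.Limits AlgebraicGeometry Opposite

namespace Groth.EtaleShriek.FlatConnBC

attribute [local simp] pullback.lift_fst pullback.lift_snd pullback.lift_fst_assoc pullback.lift_snd_assoc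

open Groth.EtaleBase (bcSq fiberPoint geomPoint geomPoint_apply fiber_bc_ext pushLift)
open Groth.DescentBase (shStalk shStalkPullIso shGerm shGerm_surjective shGerm_eq_iff shGerm_map
  shSection_ext stalk_baseChange0_germ)
open Groth.EtaleShriek.BCSets (sg sg_res)

variable {X S Y T : Scheme.{u}}

section rel

variable {e : Y ⟶ T} {F : EtDesc.Sh T} {K : Type u} [Field K] [IsSepClosed K]

lemma sg_eq_iff_of_point_eq {Z : Scheme.{u}} (G : EtDesc.Sh Z) {ξ₁ ξ₂ : Spec (CommRingCat.of K) ⟶ Z}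
    (h : ξ₁ = ξ₂) {B₁ B₂ : Z.Etale} (m₁ : Spec (CommRingCat.of K) ⟶ B₁.left)
    (m₂ : Spec (CommRingCat.of K) ⟶ B₂.left) (h₁ : m₁ ≫ B₁.hom = ξ₁) (h₂ : m₂ ≫ B₂.hom = ξ₁)
    (h₁' : m₁ ≫ B₁.hom = ξ₂) (h₂' : m₂ ≫ B₂.hom = ξ₂) (x₁ : G.obj.obj (op B₁)) (x₂ : G.obj.obj (op B₂)) :
    sg G ξ₁ B₁ m₁ h₁ x₁ = sg G ξ₁ B₂ m₂ h₂ x₂ ↔ sg G ξ₂ B₁ m₁ h₁' x₁ = sg G ξ₂ B₂ m₂ h₂' x₂ := by
  subst h
  rfl

lemma sg_congr {Z : Scheme.{u}} (G : EtDesc.Sh Z) (ξ : Spec (CommRingCat.of K) ⟶ Z) {B : Z.Etale}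
    {l₁ l₂ : Spec (CommRingCat.of K) ⟶ B.left} (h : l₁ = l₂) (h₁ : l₁ ≫ B.hom = ξ) (h₂ : l₂ ≫ B.hom = ξ)
    (x : G.obj.obj (op B)) : sg G ξ B l₁ h₁ x = sg G ξ B l₂ h₂ x := by
  subst h
  rfl

/-- Values of restrictions. -/
lemma rel_src {B B' : Y.Etale} (r : B' ⟶ B) (x : ((EtDesc.pullSh e).obj F).obj.obj (op B))
    (m : Spec (CommRingCat.of K) ⟶ B'.left) {W : T.Etale} (l : Spec (CommRingCat.of K) ⟶ W.left)
    (τ : F.obj.obj (op W)) :
    Rel e F (((EtDesc.pullSh e).obj F).obj.map r.op x) m W l τ ↔ Rel e F x (m ≫ r.left) W l τ := by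
  have hξ : (m ≫ r.left) ≫ B.hom = m ≫ B'.hom :=
    (Category.assoc _ _ _).trans (congrArg (m ≫ ·) (MorphismProperty.Over.w r))
  have hle : ((m ≫ r.left) ≫ B.hom) ≫ e = (m ≫ B'.hom) ≫ e := congrArg (· ≫ e) hξ
  have hl : ∀ (h₁ : l ≫ W.hom = ((m ≫ r.left) ≫ B.hom) ≫ e) (h₂ : l ≫ W.hom = (m ≫ B'.hom) ≫ e),
      pullback.lift l ((m ≫ r.left) ≫ B.hom) h₁ = pullback.lift l (m ≫ B'.hom) h₂ := fun h₁ h₂ => by
    apply pullback.hom_ext
    · exact (pullback.lift_fst _ _ _).trans (pullback.lift_fst _ _ _).symm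
    · exact ((pullback.lift_snd _ _ _).trans hξ).trans (pullback.lift_snd _ _ _).symm
  constructor
  · rintro ⟨h, hx⟩
    refine ⟨h.trans hle.symm, ?_⟩
    rw [sg_res _ _ r m rfl (m ≫ r.left) hξ rfl] at hx
    refine (sg_eq_iff_of_point_eq _ hξ _ _ rfl _ hξ (((congrArg (· ≫ _)
      (hl (h.trans hle.symm) h)).trans (pullback.lift_snd _ _ _))) _ _).2 ?_
    refine hx.trans ?_
    exact sg_congr _ _ (hl _ _).symm _ _ _
  · rintro ⟨h, hx⟩
    refine ⟨h.trans hle, ?_⟩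
    rw [sg_res _ _ r m rfl (m ≫ r.left) hξ rfl]
    refine ((sg_eq_iff_of_point_eq _ hξ _ _ rfl _ hξ (((congrArg (· ≫ _)
      (hl h (h.trans hle))).trans (pullback.lift_snd _ _ _))) _ _).1 hx).trans ?_
    exact sg_congr _ _ (hl _ _) _ _ _

/-- Values compose. -/
lemma Rel.trans {A : Scheme.{u}} {g : A ⟶ Y} {B : A.Etale}
    {x : ((EtDesc.pullSh g).obj ((EtDesc.pullSh e).obj F)).obj.obj (op B)}
    {m : Spec (CommRingCat.of K) ⟶ B.left} {P : Y.Etale} {p : Spec (CommRingCat.of K) ⟶ P.left}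
    {y : ((EtDesc.pullSh e).obj F).obj.obj (op P)}
    (hx : Rel g ((EtDesc.pullSh e).obj F) x m P p y) {W : T.Etale}
    {l : Spec (CommRingCat.of K) ⟶ W.left} {τ : F.obj.obj (op W)} (hy : Rel e F y p W l τ) :
    ∃ hl : l ≫ W.hom = ((m ≫ B.hom) ≫ g) ≫ e, Rel g ((EtDesc.pullSh e).obj F) x m ((EtCoh.bc e).obj W)
      (pullback.lift l ((m ≫ B.hom) ≫ g) hl) (un e F W τ) := by
  have hp : p ≫ P.hom = (m ≫ B.hom) ≫ g := hx.1
  obtain ⟨hl, hy⟩ := hy
  refine ⟨hl.trans (congrArg (· ≫ e) hp), ?_⟩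
  have hL : pullback.lift l ((m ≫ B.hom) ≫ g) (hl.trans (congrArg (· ≫ e) hp)) =
      pullback.lift l (p ≫ P.hom) hl := by
    apply pullback.hom_ext
    · exact (pullback.lift_fst _ _ _).trans (pullback.lift_fst _ _ _).symm
    · exact ((pullback.lift_snd _ _ _).trans hp.symm).trans (pullback.lift_snd _ _ _).symm
  rw [hL]
  exact hx.of_sg_eq (p ≫ P.hom) rfl (pullback.lift_snd _ _ _) hy

/-- Values on an iterated inverse image and on the inverse image along the composite. -/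
lemma rel_pullVia {A : Scheme.{u}} (g : A ⟶ Y) (b : A ⟶ T) (w : g ≫ e = b) {B : A.Etale}
    (x : ((EtDesc.pullSh g).obj ((EtDesc.pullSh e).obj F)).obj.obj (op B))
    (m : Spec (CommRingCat.of K) ⟶ B.left) {W : T.Etale} (l : Spec (CommRingCat.of K) ⟶ W.left)
    (τ : F.obj.obj (op W)) (hl : l ≫ W.hom = ((m ≫ B.hom) ≫ g) ≫ e) :
    Rel b F ((EtDesc.pullVia g e b w F).hom.hom.app (op B) x) m W l τ ↔
      Rel g ((EtDesc.pullSh e).obj F) x m ((EtCoh.bc e).obj W)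
        (pullback.lift l ((m ≫ B.hom) ≫ g) hl) (un e F W τ) := by
  subst w
  let φ := EtDesc.pullVia g e (g ≫ e) rfl F
  let ζ := m ≫ B.hom
  have hl' : l ≫ W.hom = ζ ≫ g ≫ e := hl.trans (Category.assoc _ _ _)
  let s : (Scheme.pointSmallEtale ((ζ ≫ g) ≫ e)).fiber.obj W := Over.homMk l hl
  have key := Groth.DescentBase.UnivSubm.pt_pullVia g e (g ≫ e) rfl F ζ (ζ ≫ g) (Category.assoc _ _ _).symm rfl
    rfl (shGerm ((ζ ≫ g) ≫ e) F W s τ)
  rw [Groth.DescentBase.UnivSubm.pt_germ, Groth.DescentBase.UnivSubm.pt_germ,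
    Groth.DescentBase.UnivSubm.pt_germ, shGerm_map] at key
  have hbij : Function.Bijective ((shStalk ζ).map φ.hom) := (isIso_iff_bijective _).1 inferInstance
  have hx : sg ((EtDesc.pullSh (g ≫ e)).obj F) ζ B m rfl (φ.hom.hom.app (op B) x) =
      (shStalk ζ).map φ.hom (sg ((EtDesc.pullSh g).obj ((EtDesc.pullSh e).obj F)) ζ B m rfl x) :=
    (shGerm_map ζ φ.hom B _ x).symm
  constructor
  · rintro ⟨h, hh⟩
    refine ⟨pullback.lift_snd _ _ _, hbij.1 ?_⟩
    rw [← hx, hh, shGerm_map]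
    exact key.symm
  · rintro ⟨h, hh⟩
    refine ⟨hl', ?_⟩
    rw [hx, hh, shGerm_map]
    exact key

/-- A section of an inverse image restricts along maps over the base. -/
lemma exists_transfer {Y' : Scheme.{u}} (y : Y' ⟶ Y) (e' : Y' ⟶ T) (w : y ≫ e = e') (B : Y.Etale)
    (x : ((EtDesc.pullSh e).obj F).obj.obj (op B)) (B' : Y'.Etale) (q : B'.left ⟶ B.left)
    (hq : q ≫ B.hom = B'.hom ≫ y) :
    ∃ x' : ((EtDesc.pullSh e').obj F).obj.obj (op B'),
      ∀ (K : Type u) [Field K] [IsSepClosed K] (m : Spec (CommRingCat.of K) ⟶ B'.left) (W : T.Etale)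
        (l : Spec (CommRingCat.of K) ⟶ W.left) (τ : F.obj.obj (op W)),
        Rel e F x (m ≫ q) W l τ → Rel e' F x' m W l τ := by
  let d : B' ⟶ (EtCoh.bc y).obj B :=
    MorphismProperty.Over.homMk (pullback.lift q B'.hom hq) (pullback.lift_snd _ _ _)
  refine ⟨(EtDesc.pullVia y e e' w F).hom.hom.app (op B')
    (((EtDesc.pullSh y).obj ((EtDesc.pullSh e).obj F)).obj.map d.op
      (un y ((EtDesc.pullSh e).obj F) B x)), fun K _ _ m W l τ h => ?_⟩
  have h1 := rel_map (e := y) (F := (EtDesc.pullSh e).obj F) d x m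
  rw [show d.left ≫ pullback.fst B.hom y = q from pullback.lift_fst _ _ _] at h1
  obtain ⟨hl, h2⟩ := h1.trans h
  exact (rel_pullVia y e' w _ m l τ hl).2 h2

variable (e F) in
/-- Values of a section of an iterated inverse image. -/
def Rel₂ {A : Scheme.{u}} (g : A ⟶ Y) {B : A.Etale}
    (x : ((EtDesc.pullSh g).obj ((EtDesc.pullSh e).obj F)).obj.obj (op B))
    (m : Spec (CommRingCat.of K) ⟶ B.left) (W : T.Etale) (l : Spec (CommRingCat.of K) ⟶ W.left)
    (τ : F.obj.obj (op W)) : Prop :=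
  ∃ hl : l ≫ W.hom = ((m ≫ B.hom) ≫ g) ≫ e, Rel g ((EtDesc.pullSh e).obj F) x m ((EtCoh.bc e).obj W)
      (pullback.lift l ((m ≫ B.hom) ≫ g) hl) (un e F W τ)

/-- A section of the inverse image along a composite gives one of the iterated inverse image. -/
lemma exists_rel₂ {A : Scheme.{u}} (g : A ⟶ Y) (b : A ⟶ T) (w : g ≫ e = b) (B : A.Etale)
    (x : ((EtDesc.pullSh b).obj F).obj.obj (op B)) :
    ∃ x₂ : ((EtDesc.pullSh g).obj ((EtDesc.pullSh e).obj F)).obj.obj (op B),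
      ∀ (K : Type u) [Field K] [IsSepClosed K] (m : Spec (CommRingCat.of K) ⟶ B.left) (W : T.Etale)
        (l : Spec (CommRingCat.of K) ⟶ W.left) (τ : F.obj.obj (op W)),
        Rel b F x m W l τ → Rel₂ e F g x₂ m W l τ := by
  let φ := EtDesc.pullVia g e b w F
  refine ⟨φ.inv.hom.app (op B) x, fun K _ _ m W l τ h => ?_⟩
  have hl : l ≫ W.hom = ((m ≫ B.hom) ≫ g) ≫ e :=
    h.1.trans ((congrArg ((m ≫ B.hom) ≫ ·) w.symm).trans (Category.assoc _ _ _).symm)
  refine ⟨hl, (rel_pullVia g b w _ m l τ hl).1 ?_⟩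
  have e1 : φ.hom.hom.app (op B) (φ.inv.hom.app (op B) x) = x :=
    congrArg (fun ν : (EtDesc.pullSh b).obj F ⟶ (EtDesc.pullSh b).obj F => ν.hom.app (op B) x) φ.inv_hom_id
  rw [e1]
  exact h

/-- Values on an iterated inverse image determine each other. -/
lemma Rel₂.sg_eq {A : Scheme.{u}} {g : A ⟶ Y} {B : A.Etale}
    {x : ((EtDesc.pullSh g).obj ((EtDesc.pullSh e).obj F)).obj.obj (op B)}
    {m : Spec (CommRingCat.of K) ⟶ B.left} {W₁ W₂ : T.Etale}
    {l₁ : Spec (CommRingCat.of K) ⟶ W₁.left} {l₂ : Spec (CommRingCat.of K) ⟶ W₂.left}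
    {τ₁ : F.obj.obj (op W₁)} {τ₂ : F.obj.obj (op W₂)} (h₁ : Rel₂ e F g x m W₁ l₁ τ₁)
    (h₂ : Rel₂ e F g x m W₂ l₂ τ₂) (ξ : Spec (CommRingCat.of K) ⟶ T) (e₁ : l₁ ≫ W₁.hom = ξ)
    (e₂ : l₂ ≫ W₂.hom = ξ) : sg F ξ W₁ l₁ e₁ τ₁ = sg F ξ W₂ l₂ e₂ τ₂ := by
  obtain ⟨a₁, b₁⟩ := h₁
  obtain ⟨a₂, b₂⟩ := h₂
  obtain rfl : ((m ≫ B.hom) ≫ g) ≫ e = ξ := a₁.symm.trans e₁
  apply ((isIso_iff_bijective ((shStalkPullIso e ((m ≫ B.hom) ≫ g)).hom.app F)).1 inferInstance).1
  rw [stalkPullIso_sg, stalkPullIso_sg]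
  exact b₁.sg_eq b₂ _ (pullback.lift_snd _ _ _) (pullback.lift_snd _ _ _)

/-- Replacing a representative of a value of an iterated inverse image. -/
lemma Rel₂.of_sg_eq {A : Scheme.{u}} {g : A ⟶ Y} {B : A.Etale}
    {x : ((EtDesc.pullSh g).obj ((EtDesc.pullSh e).obj F)).obj.obj (op B)}
    {m : Spec (CommRingCat.of K) ⟶ B.left} {W₁ W₂ : T.Etale}
    {l₁ : Spec (CommRingCat.of K) ⟶ W₁.left} {l₂ : Spec (CommRingCat.of K) ⟶ W₂.left}
    {τ₁ : F.obj.obj (op W₁)} {τ₂ : F.obj.obj (op W₂)} (h₁ : Rel₂ e F g x m W₁ l₁ τ₁)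
    (ξ : Spec (CommRingCat.of K) ⟶ T) (e₁ : l₁ ≫ W₁.hom = ξ)
    (e₂ : l₂ ≫ W₂.hom = ξ) (h : sg F ξ W₁ l₁ e₁ τ₁ = sg F ξ W₂ l₂ e₂ τ₂) :
    Rel₂ e F g x m W₂ l₂ τ₂ := by
  obtain ⟨a₁, b₁⟩ := h₁
  obtain rfl : ((m ≫ B.hom) ≫ g) ≫ e = ξ := a₁.symm.trans e₁
  refine ⟨e₂, b₁.of_sg_eq ((m ≫ B.hom) ≫ g) (pullback.lift_snd _ _ _) (pullback.lift_snd _ _ _) ?_⟩
  rw [← stalkPullIso_sg, ← stalkPullIso_sg, h]

end rel

/-- An isomorphism has connected geometric fibres. -/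
lemma geometricallyConnected_of_isIso {A B : Scheme.{u}} (f : A ⟶ B) [IsIso f] :
    GeometricallyConnected f := by
  refine ⟨fun K _ y Z fst snd h => ?_⟩
  have : IsIso snd := h.isIso_snd_of_isIso
  exact (asIso snd).hom.homeomorph.connectedSpace_iff.2 inferInstance

/-- Sections of the inverse image along an étale morphism are sections. -/
lemma exists_etale_section {T' : Scheme.{u}} (t : T' ⟶ T) [Etale t] (F : EtDesc.Sh T) (P : T'.Etale)
    (y : ((EtDesc.pullSh t).obj F).obj.obj (op P)) (V : T.Etale) (i : P.left ⟶ V.left) [IsIso i]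
    (hi : i ≫ V.hom = P.hom ≫ t) :
    ∃ σ : F.obj.obj (op V), ∀ (K : Type u) [Field K] [IsSepClosed K]
      (m : Spec (CommRingCat.of K) ⟶ P.left), Rel t F y m V (m ≫ i) σ := by
  have := geometricallyConnected_of_isIso i
  obtain ⟨σ, hσ⟩ := exists_good_id y hi
  exact ⟨σ, fun K _ _ m => (good_iff (𝟙 V) σ).1 hσ K m (m ≫ i) (Category.comp_id _)⟩

section criterion

variable {f : X ⟶ S} {g : T ⟶ S} {h : Y ⟶ X} {e : Y ⟶ T} (c : IsPullback e h g f) (F : EtDesc.Sh T)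

/-- The image of a section of the direct image on `bc h W`. -/
noncomputable def img {W : X.Etale} {V : S.Etale} (a : W.left ⟶ V.left) (ha : a ≫ V.hom = W.hom ≫ f)
    (σ : F.obj.obj (op ((EtCoh.bc g).obj V))) :
    ((EtDesc.pullSh e).obj F).obj.obj (op ((EtCoh.bc h).obj W)) :=
  ((EtDesc.pullSh e).obj F).obj.map (kap c a ha).op (un e F _ σ)

lemma rel_img {W : X.Etale} {V : S.Etale} (a : W.left ⟶ V.left) (ha : a ≫ V.hom = W.hom ≫ f)
    (σ : F.obj.obj (op ((EtCoh.bc g).obj V))) {K : Type u} [Field K] [IsSepClosed K]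
    (m : Spec (CommRingCat.of K) ⟶ ((EtCoh.bc h).obj W).left) :
    Rel e F (img c F a ha σ) m ((EtCoh.bc g).obj V) (m ≫ mu c a ha) σ := by
  have := rel_map (kap c a ha) σ m
  rw [kap_fst] at this
  exact this

variable {Ω : Type u} [Field Ω] [IsAlgClosed Ω] (η : Spec (CommRingCat.of Ω) ⟶ X)

/-- The point of `V` under a point of `W`. -/
noncomputable def spt {W : X.Etale} {V : S.Etale} (a : W.left ⟶ V.left) (ha : a ≫ V.hom = W.hom ≫ f)
    (w : (Scheme.pointSmallEtale η).fiber.obj W) : (Scheme.pointSmallEtale (η ≫ f)).fiber.obj V :=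
  Over.homMk (w.left ≫ a) (point_aux (Over.w w) ha)

lemma stalk_img {W : X.Etale} {V : S.Etale} (a : W.left ⟶ V.left) (ha : a ≫ V.hom = W.hom ≫ f)
    (w : (Scheme.pointSmallEtale η).fiber.obj W) (σ : F.obj.obj (op ((EtCoh.bc g).obj V))) :
    (shStalk η).map (EtBC.baseChange0Sh g f h e c.w F)
        ((shStalkPullIso f η).hom.app _ (shGerm (η ≫ f) ((EtDesc.pushSh g).obj F) V (spt η a ha w) σ)) =
      shGerm η ((EtDesc.pushSh h).obj ((EtDesc.pullSh e).obj F)) W w (img c F a ha σ) := by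
  rw [stalk_baseChange0_germ g f h e c]
  have hpsi : (Scheme.pointSmallEtale η).fiber.map (psi a ha) w =
      pushLift f η rfl V (spt η a ha w) :=
    fiber_bc_ext f V η _ _ (((Category.assoc _ _ _).trans
      (congrArg (w.left ≫ ·) (psi_fst a ha))).trans (pullback.lift_fst _ _ _).symm)
  rw [← hpsi]
  refine ((Scheme.pointSmallEtale η).toPresheafFiber_w_apply (psi a ha) w
    ((EtDesc.pushSh h).obj ((EtDesc.pullSh e).obj F)).obj _).symm.trans ?_
  refine congrArg (shGerm η ((EtDesc.pushSh h).obj ((EtDesc.pullSh e).obj F)) W w) ?_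
  simp only [img, kap, op_comp, Functor.map_comp, ConcreteCategory.comp_apply]
  rfl

/-- Sections agreeing on `W` agree near the point below. -/
def Inj : Prop :=
  ∀ (W : X.Etale) (V : S.Etale) (a : W.left ⟶ V.left) (ha : a ≫ V.hom = W.hom ≫ f)
    (w : (Scheme.pointSmallEtale η).fiber.obj W) (σ₁ σ₂ : F.obj.obj (op ((EtCoh.bc g).obj V))),
    (∀ (K : Type u) [Field K] [IsSepClosed K] (m : Spec (CommRingCat.of K) ⟶ ((EtCoh.bc h).obj W).left),
      sg F ((m ≫ mu c a ha) ≫ ((EtCoh.bc g).obj V).hom) _ (m ≫ mu c a ha) rfl σ₁ =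
        sg F ((m ≫ mu c a ha) ≫ ((EtCoh.bc g).obj V).hom) _ (m ≫ mu c a ha) rfl σ₂) →
    ∃ (V' : S.Etale) (d : V' ⟶ V) (s' : (Scheme.pointSmallEtale (η ≫ f)).fiber.obj V'),
      (Scheme.pointSmallEtale (η ≫ f)).fiber.map d s' = spt η a ha w ∧
      F.obj.map ((EtCoh.bc g).map d).op σ₁ = F.obj.map ((EtCoh.bc g).map d).op σ₂

/-- Sections of the inverse image come, near a point, from sections below. -/
def Surj : Prop :=
  ∀ (W : X.Etale) (w : (Scheme.pointSmallEtale η).fiber.obj W)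
    (x : ((EtDesc.pullSh e).obj F).obj.obj (op ((EtCoh.bc h).obj W))),
    ∃ (U : X.Etale) (r : U ⟶ W) (u : (Scheme.pointSmallEtale η).fiber.obj U) (V : S.Etale)
      (a : U.left ⟶ V.left) (ha : a ≫ V.hom = U.hom ≫ f) (σ : F.obj.obj (op ((EtCoh.bc g).obj V))),
      (Scheme.pointSmallEtale η).fiber.map r u = w ∧
      ∀ (K : Type u) [Field K] [IsSepClosed K] (m : Spec (CommRingCat.of K) ⟶ ((EtCoh.bc h).obj U).left),
        Rel e F x (m ≫ ((EtCoh.bc h).map r).left) ((EtCoh.bc g).obj V) (m ≫ mu c a ha) σ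

lemma surjective_iff_surj :
    Function.Surjective ((shStalk η).map (EtBC.baseChange0Sh g f h e c.w F)) ↔ Surj c F η := by
  let G := (EtDesc.pullSh e).obj F
  let P := (EtDesc.pushSh h).obj G
  let Φ := Scheme.pointSmallEtale η
  constructor
  · intro hs W w x
    obtain ⟨z, hz⟩ := hs (shGerm η P W w x)
    obtain ⟨z₀, rfl⟩ : ∃ z₀, (shStalkPullIso f η).hom.app ((EtDesc.pushSh g).obj F) z₀ = z :=
      ((isIso_iff_bijective ((shStalkPullIso f η).hom.app _)).1 inferInstance).2 z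
    obtain ⟨V, s, σ, rfl⟩ := shGerm_surjective _ _ z₀
    let B := (EtCoh.bc f).obj V
    let p : B.left ⟶ V.left := pullback.fst V.hom f
    have hp : p ≫ V.hom = B.hom ≫ f := pullback.condition
    let b : Φ.fiber.obj B := pushLift f η rfl V s
    have hs' : spt η p hp b = s := Over.OverMorphism.ext (pullback.lift_fst _ _ _)
    rw [← hs', stalk_img c F η p hp b σ] at hz
    obtain ⟨U₀, m₁, m₂, -⟩ := IsCofilteredOrEmpty.cone_objs (C := Φ.fiber.Elements)
      (Functor.elementsMk _ B b) (Functor.elementsMk _ W w)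
    obtain ⟨U₀, u₀⟩ := U₀
    let r₁ : U₀ ⟶ B := m₁.1
    let r₂ : U₀ ⟶ W := m₂.1
    have h₁ : Φ.fiber.map r₁ u₀ = b := m₁.2
    have h₂ : Φ.fiber.map r₂ u₀ = w := m₂.2
    have key : shGerm η P U₀ u₀ (P.obj.map r₁.op (img c F p hp σ)) =
        shGerm η P U₀ u₀ (P.obj.map r₂.op x) := by
      change Φ.toPresheafFiber U₀ u₀ P.obj _ = Φ.toPresheafFiber U₀ u₀ P.obj _
      rw [Φ.toPresheafFiber_w_apply, Φ.toPresheafFiber_w_apply]
      erw [h₁, h₂]
      exact hz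
    obtain ⟨U, r, u, hu, heq⟩ := (shGerm_eq_iff η P U₀ u₀ _ _).1 key
    let a : U.left ⟶ V.left := (r ≫ r₁).left ≫ p
    have ha : a ≫ V.hom = U.hom ≫ f :=
      (Category.assoc _ _ _).trans ((congrArg ((r ≫ r₁).left ≫ ·) hp).trans
        ((Category.assoc _ _ _).symm.trans (congrArg (· ≫ f) (MorphismProperty.Over.w (r ≫ r₁)))))
    refine ⟨U, r ≫ r₂, u, V, a, ha, σ, ?_, fun K _ _ m => ?_⟩
    · rw [Functor.map_comp, ConcreteCategory.comp_apply, hu, h₂]
    rw [← rel_src ((EtCoh.bc h).map (r ≫ r₂)) x m]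
    have e2 : G.obj.map ((EtCoh.bc h).map (r ≫ r₂)).op x =
        G.obj.map ((EtCoh.bc h).map (r ≫ r₁)).op (img c F p hp σ) := by
      simp only [op_comp, Functor.map_comp, ConcreteCategory.comp_apply]
      exact heq.symm
    rw [e2, rel_src]
    have hμ : mu c a ha = ((EtCoh.bc h).map (r ≫ r₁)).left ≫ mu c p hp := by
      apply pullback.hom_ext
      · refine (pullback.lift_fst _ _ _).trans (Eq.trans ?_ ((Category.assoc _ _ _).trans
          (congrArg (_ ≫ ·) (pullback.lift_fst _ _ _))).symm)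
        exact ((Category.assoc _ _ _).symm.trans (congrArg (· ≫ p) (pullback.lift_fst _ _ _).symm)).trans
          (Category.assoc _ _ _)
      · refine (pullback.lift_snd _ _ _).trans (Eq.trans ?_ ((Category.assoc _ _ _).trans
          (congrArg (_ ≫ ·) (pullback.lift_snd _ _ _))).symm)
        exact (congrArg (· ≫ e) (MorphismProperty.Over.w ((EtCoh.bc h).map (r ≫ r₁))).symm).trans
          (Category.assoc _ _ _)
    rw [hμ, ← Category.assoc]
    exact rel_img c F p hp σ _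
  · intro hs x
    obtain ⟨W, w, x, rfl⟩ := shGerm_surjective η P x
    obtain ⟨U, r, u, V, a, ha, σ, hu, hval⟩ := hs W w x
    refine ⟨(shStalkPullIso f η).hom.app _ (shGerm (η ≫ f) ((EtDesc.pushSh g).obj F) V (spt η a ha u) σ), ?_⟩
    rw [stalk_img c F η a ha u σ, ← hu]
    refine (congrArg (shGerm η P U u) ?_).trans (Φ.toPresheafFiber_w_apply r u P.obj x)
    show img c F a ha σ = G.obj.map ((EtCoh.bc h).map r).op x
    exact eq_of_rel _ _ (mu c a ha) σ (fun K _ _ m => rel_img c F a ha σ m)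
      fun K _ _ m => (rel_src _ x m _ σ).2 (hval K m)

lemma injective_iff_inj :
    Function.Injective ((shStalk η).map (EtBC.baseChange0Sh g f h e c.w F)) ↔ Inj c F η := by
  let G := (EtDesc.pullSh e).obj F
  let P := (EtDesc.pushSh h).obj G
  let P₀ := (EtDesc.pushSh g).obj F
  let Φ := Scheme.pointSmallEtale η
  let Ψ := Scheme.pointSmallEtale (η ≫ f)
  constructor
  · intro hi W V a ha w σ₁ σ₂ hval
    have e0 : img c F a ha σ₁ = img c F a ha σ₂ :=
      eq_of_rel _ _ (mu c a ha) σ₁ (fun K _ _ m => rel_img c F a ha σ₁ m)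
        fun K _ _ m => (rel_img c F a ha σ₂ m).of_sg_eq _ rfl rfl (hval K m).symm
    have e1 := congrArg (shGerm η P W w) e0
    rw [← stalk_img c F η a ha w σ₁, ← stalk_img c F η a ha w σ₂] at e1
    have e2 := ((isIso_iff_bijective ((shStalkPullIso f η).hom.app _)).1 inferInstance).1 (hi e1)
    obtain ⟨V', d, s', hs', hd⟩ := (shGerm_eq_iff _ P₀ V _ σ₁ σ₂).1 e2
    exact ⟨V', d, s', hs', hd⟩
  · intro hi x y hxy
    obtain ⟨x₀, rfl⟩ : ∃ x₀, (shStalkPullIso f η).hom.app P₀ x₀ = x :=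
      ((isIso_iff_bijective ((shStalkPullIso f η).hom.app _)).1 inferInstance).2 x
    obtain ⟨y₀, rfl⟩ : ∃ y₀, (shStalkPullIso f η).hom.app P₀ y₀ = y :=
      ((isIso_iff_bijective ((shStalkPullIso f η).hom.app _)).1 inferInstance).2 y
    obtain ⟨V₁, s₁, σ₁, rfl⟩ := shGerm_surjective _ _ x₀
    obtain ⟨V₂, s₂, σ₂, rfl⟩ := shGerm_surjective _ _ y₀
    obtain ⟨V, pm, qm, -⟩ := IsCofilteredOrEmpty.cone_objs (C := Ψ.fiber.Elements)
      (Functor.elementsMk _ V₁ s₁) (Functor.elementsMk _ V₂ s₂)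
    obtain ⟨V, s⟩ := V
    let p : V ⟶ V₁ := pm.1
    let q : V ⟶ V₂ := qm.1
    have hp : Ψ.fiber.map p s = s₁ := pm.2
    have hq : Ψ.fiber.map q s = s₂ := qm.2
    let τ₁ : F.obj.obj (op ((EtCoh.bc g).obj V)) := P₀.obj.map p.op σ₁
    let τ₂ : F.obj.obj (op ((EtCoh.bc g).obj V)) := P₀.obj.map q.op σ₂
    have e₁ : shGerm (η ≫ f) P₀ V₁ s₁ σ₁ = shGerm (η ≫ f) P₀ V s τ₁ := by
      rw [← hp]; exact (Ψ.toPresheafFiber_w_apply p s P₀.obj σ₁).symm
    have e₂ : shGerm (η ≫ f) P₀ V₂ s₂ σ₂ = shGerm (η ≫ f) P₀ V s τ₂ := by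
      rw [← hq]; exact (Ψ.toPresheafFiber_w_apply q s P₀.obj σ₂).symm
    rw [e₁, e₂] at hxy ⊢
    refine congrArg ((shStalkPullIso f η).hom.app P₀) ?_
    let B := (EtCoh.bc f).obj V
    let pr : B.left ⟶ V.left := pullback.fst V.hom f
    have hpr : pr ≫ V.hom = B.hom ≫ f := pullback.condition
    let b : Φ.fiber.obj B := pushLift f η rfl V s
    have hs' : spt η pr hpr b = s := Over.OverMorphism.ext (pullback.lift_fst _ _ _)
    rw [← hs'] at hxy ⊢
    erw [stalk_img c F η pr hpr b τ₁, stalk_img c F η pr hpr b τ₂] at hxy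
    obtain ⟨W, r, w, hw, heq⟩ := (shGerm_eq_iff η P B b _ _).1 hxy
    let a : W.left ⟶ V.left := r.left ≫ pr
    have ha : a ≫ V.hom = W.hom ≫ f :=
      (Category.assoc _ _ _).trans ((congrArg (r.left ≫ ·) hpr).trans
        ((Category.assoc _ _ _).symm.trans (congrArg (· ≫ f) (MorphismProperty.Over.w r))))
    have hμ : mu c a ha = ((EtCoh.bc h).map r).left ≫ mu c pr hpr := by
      apply pullback.hom_ext
      · refine (pullback.lift_fst _ _ _).trans (Eq.trans ?_ ((Category.assoc _ _ _).trans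
          (congrArg (_ ≫ ·) (pullback.lift_fst _ _ _))).symm)
        exact ((Category.assoc _ _ _).symm.trans (congrArg (· ≫ pr) (pullback.lift_fst _ _ _).symm)).trans
          (Category.assoc _ _ _)
      · refine (pullback.lift_snd _ _ _).trans (Eq.trans ?_ ((Category.assoc _ _ _).trans
          (congrArg (_ ≫ ·) (pullback.lift_snd _ _ _))).symm)
        exact (congrArg (· ≫ e) (MorphismProperty.Over.w ((EtCoh.bc h).map r)).symm).trans
          (Category.assoc _ _ _)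
    obtain ⟨V', d, s', hd, hdd⟩ := hi W V a ha w τ₁ τ₂ fun K _ _ m => by
      have r₁ := (rel_src ((EtCoh.bc h).map r) _ m _ τ₁).2 (rel_img c F pr hpr τ₁ (m ≫ ((EtCoh.bc h).map r).left))
      have r₂ := (rel_src ((EtCoh.bc h).map r) _ m _ τ₂).2 (rel_img c F pr hpr τ₂ (m ≫ ((EtCoh.bc h).map r).left))
      rw [show G.obj.map ((EtCoh.bc h).map r).op (img c F pr hpr τ₁) =
        G.obj.map ((EtCoh.bc h).map r).op (img c F pr hpr τ₂) from heq, Category.assoc, ← hμ] at r₁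
      rw [Category.assoc, ← hμ] at r₂
      exact r₁.sg_eq r₂ _ rfl rfl
    have hsw : spt η a ha w = spt η pr hpr b := by
      apply Over.OverMorphism.ext
      show w.left ≫ r.left ≫ pr = b.left ≫ pr
      rw [← hw]
      exact (Category.assoc _ _ _).symm
    refine (shGerm_eq_iff _ P₀ V _ τ₁ τ₂).2 ⟨V', d, s', hd.trans hsw, hdd⟩

end criterion

end Groth.EtaleShriek.FlatConnBC
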