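import Groth.Agent.EtaleShriek.BCSets
import Groth.Agent.EtaleBase.BaseChange0

/-!
Sections of inverse images of abelian sheaves near geometric fibres of proper morphisms.
-/

set_option autoImplicit false
set_option backward.isDefEq.respectTransparency.types false

universe u

open CategoryTheory CategoryTheory.Limits AlgebraicGeometry Opposite

namespace Groth.EtaleShriek.BCForget

open Groth.EtaleBase (germ germ_surjective germ_eq_iff pushLift bcSq stalkPullIso stalkPullIso_germ)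
open Groth.DescentBase (shStalk shStalkPullIso shGerm shGerm_surjective shGerm_eq_iff shGerm_map
  shStalkPullIso_germ values_eq_of_shGerm_eq isIso_of_acPoints acPoint)

variable {X Y : Scheme.{u}}

/-- The underlying sheaf of sets. -/
noncomputable abbrev U0 (F : EtCoh.Ab X) : EtDesc.Sh X :=
  (sheafCompose X.smallEtaleTopology (forget AddCommGrpCat.{u + 1})).obj F

/-- The underlying map of sheaves of sets. -/
noncomputable def unit0 (g : X ⟶ Y) (F : EtCoh.Ab Y) :
    U0 F ⟶ (EtDesc.pushSh g).obj (U0 ((EtCoh.pull g).obj F)) :=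
  ⟨{ app := fun V => TypeCat.ofHom fun σ => ((EtCoh.pullPushAdj g).unit.app F).hom.app V σ
     naturality := fun V W a => by
       ext σ
       exact NatTrans.naturality_apply ((EtCoh.pullPushAdj g).unit.app F).hom a σ }⟩

/-- The comparison of inverse images. -/
noncomputable def cmp (g : X ⟶ Y) (F : EtCoh.Ab Y) :
    (EtDesc.pullSh g).obj (U0 F) ⟶ U0 ((EtCoh.pull g).obj F) :=
  ((EtDesc.adjSh g).homEquiv _ _).symm (unit0 g F)

lemma cmp_unit (g : X ⟶ Y) (F : EtCoh.Ab Y) (V : Y.Etale) (σ : F.obj.obj (op V)) :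
    (cmp g F).hom.app (op ((EtCoh.bc g).obj V)) (((EtDesc.adjSh g).unit.app (U0 F)).hom.app (op V) σ) =
      ((EtCoh.pullPushAdj g).unit.app F).hom.app (op V) σ := by
  have h := Equiv.apply_symm_apply ((EtDesc.adjSh g).homEquiv (U0 F) (U0 ((EtCoh.pull g).obj F))) (unit0 g F)
  rw [Adjunction.homEquiv_unit] at h
  exact ConcreteCategory.congr_hom
    (congrArg (fun m : U0 F ⟶ (EtDesc.pushSh g).obj (U0 ((EtCoh.pull g).obj F)) => m.hom.app (op V)) h) σ

section stalk

variable {Ω : Type u} [Field Ω] [IsSepClosed Ω] (ξ : Spec (CommRingCat.of Ω) ⟶ X) (F : EtCoh.Ab X)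

/-- From the stalk of the underlying sheaf of sets to the stalk. -/
noncomputable def toAbStalk : (shStalk ξ).obj (U0 F) ⟶ (forget AddCommGrpCat.{u + 1}).obj ((EtCoh.stalk ξ).obj F) :=
  (Scheme.pointSmallEtale ξ).presheafFiberDesc (P := (U0 F).obj)
    (fun U t => TypeCat.ofHom fun σ => germ ξ F U t σ)
    (fun {U V} g t => by
      ext σ
      exact (Scheme.pointSmallEtale ξ).toPresheafFiber_w_apply g t F.obj σ)

lemma toAbStalk_germ (U : X.Etale) (t : (Scheme.pointSmallEtale ξ).fiber.obj U) (σ : F.obj.obj (op U)) :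
    toAbStalk ξ F (shGerm ξ (U0 F) U t σ) = germ ξ F U t σ :=
  ConcreteCategory.congr_hom ((Scheme.pointSmallEtale ξ).toPresheafFiber_presheafFiberDesc
    (P := (U0 F).obj) (fun U t => TypeCat.ofHom fun σ => germ ξ F U t σ) _ U t) σ

lemma toAbStalk_bijective : Function.Bijective (toAbStalk ξ F) := by
  refine ⟨fun a b h => ?_, fun a => ?_⟩
  · let Φ := Scheme.pointSmallEtale ξ
    obtain ⟨U₁, t₁, σ₁, rfl⟩ := shGerm_surjective ξ _ a
    obtain ⟨U₂, t₂, σ₂, rfl⟩ := shGerm_surjective ξ _ b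
    rw [toAbStalk_germ, toAbStalk_germ] at h
    obtain ⟨W₀, pm, qm, -⟩ := IsCofilteredOrEmpty.cone_objs (C := Φ.fiber.Elements)
      (Functor.elementsMk _ U₁ t₁) (Functor.elementsMk _ U₂ t₂)
    obtain ⟨W, w⟩ := W₀
    let p : W ⟶ U₁ := pm.1
    let q : W ⟶ U₂ := qm.1
    have hp : Φ.fiber.map p w = t₁ := pm.2
    have hq : Φ.fiber.map q w = t₂ := qm.2
    rw [← hp, ← hq] at h ⊢
    replace h := (Φ.toPresheafFiber_w_apply p w F.obj σ₁).trans (h.trans (Φ.toPresheafFiber_w_apply q w F.obj σ₂).symm)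
    replace h := (germ_eq_iff ξ F W w _ _).1 h
    refine ((Φ.toPresheafFiber_w_apply p w (U0 F).obj σ₁).symm.trans ?_).trans
      (Φ.toPresheafFiber_w_apply q w (U0 F).obj σ₂)
    exact (shGerm_eq_iff ξ (U0 F) W w _ _).2 h
  · obtain ⟨U, t, σ, rfl⟩ := germ_surjective ξ F a
    exact ⟨shGerm ξ (U0 F) U t σ, toAbStalk_germ ξ F U t σ⟩

end stalk

lemma toAbStalk_cmp (g : X ⟶ Y) (F : EtCoh.Ab Y) {Ω : Type u} [Field Ω] [IsSepClosed Ω]
    (ξ : Spec (CommRingCat.of Ω) ⟶ X) (a : (shStalk (ξ ≫ g)).obj (U0 F)) :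
    toAbStalk ξ ((EtCoh.pull g).obj F)
        ((shStalk ξ).map (cmp g F) ((shStalkPullIso g ξ).hom.app (U0 F) a)) =
      (stalkPullIso g ξ).hom.app F (toAbStalk (ξ ≫ g) F a) := by
  obtain ⟨V, s, σ, rfl⟩ := shGerm_surjective (ξ ≫ g) (U0 F) a
  rw [shStalkPullIso_germ, shGerm_map, toAbStalk_germ]
  refine Eq.trans ?_ ((congrArg ((stalkPullIso g ξ).hom.app F) (toAbStalk_germ (ξ ≫ g) F V s σ)).trans
    (stalkPullIso_germ g ξ F V s σ)).symm
  refine Eq.trans ?_ (congrArg (germ ξ ((EtCoh.pull g).obj F) ((EtCoh.bc g).obj V) (pushLift g ξ rfl V s))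
    (cmp_unit g F V σ))
  rfl

instance isIso_cmp (g : X ⟶ Y) (F : EtCoh.Ab Y) : IsIso (cmp g F) := by
  refine isIso_of_acPoints _ fun x => ?_
  have h1 := (isIso_iff_bijective ((shStalkPullIso g (acPoint x)).hom.app (U0 F))).1 inferInstance
  have h2 := (ConcreteCategory.isIso_iff_bijective ((stalkPullIso g (acPoint x)).hom.app F)).1 inferInstance
  have h3 : Function.Bijective (fun a => toAbStalk (acPoint x) ((EtCoh.pull g).obj F)
      ((shStalk (acPoint x)).map (cmp g F) ((shStalkPullIso g (acPoint x)).hom.app (U0 F) a))) := by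
    rw [funext (toAbStalk_cmp g F (acPoint x))]
    exact h2.comp (toAbStalk_bijective (acPoint x ≫ g) F)
  have h4 : Function.Bijective (fun b => toAbStalk (acPoint x) ((EtCoh.pull g).obj F)
      ((shStalk (acPoint x)).map (cmp g F) b)) :=
    (Function.Bijective.of_comp_iff _ h1).1 h3
  exact (Function.Bijective.of_comp_iff' (toAbStalk_bijective _ _) _).1 h4

section proper

variable {X' Y' : Scheme.{u}} (f : X ⟶ Y) (g : Y' ⟶ Y) (f' : X' ⟶ Y') (g' : X' ⟶ X)
  (hsq : IsPullback g' f' f g) (F : EtCoh.Ab X) {Ω : Type u} [Field Ω] [IsAlgClosed Ω]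
  (η' : Spec (CommRingCat.of Ω) ⟶ Y')

include hsq in
/-- For proper `f`, germs of sections of `g'^* F` near a geometric fibre come from sections of `F`. -/
theorem exists_values_lift [IsProper f] (V' : Y'.Etale) (t' : (Scheme.pointSmallEtale η').fiber.obj V')
    (σ' : ((EtCoh.pull g').obj F).obj.obj (op ((EtCoh.bc f').obj V'))) :
    ∃ (V : Y.Etale) (t : (Scheme.pointSmallEtale (η' ≫ g)).fiber.obj V)
      (σ : F.obj.obj (op ((EtCoh.bc f).obj V))),
      ∀ (ξ' : Spec (CommRingCat.of Ω) ⟶ X') (h' : ξ' ≫ f' = η') (h : (ξ' ≫ g') ≫ f = η' ≫ g),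
        (stalkPullIso g' ξ').hom.app F
            (germ (ξ' ≫ g') F ((EtCoh.bc f).obj V) (pushLift f (ξ' ≫ g') h V t) σ) =
          germ ξ' ((EtCoh.pull g').obj F) ((EtCoh.bc f').obj V') (pushLift f' ξ' h' V' t') σ' := by
  let B' := (EtCoh.bc f').obj V'
  let c := cmp g' F
  obtain ⟨σ₀, hσ₀⟩ : ∃ σ₀, c.hom.app (op B') σ₀ = σ' :=
    ((isIso_iff_bijective (c.hom.app (op B'))).1
      (inferInstanceAs (IsIso (((sheafToPresheaf _ _).mapIso (asIso c)).app (op B')).hom))).2 σ'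
  obtain ⟨b, hb⟩ := BCSets.surjective_stalk f g f' g' hsq (U0 F) η'
    (shGerm η' ((EtDesc.pushSh f').obj ((EtDesc.pullSh g').obj (U0 F))) V' t' σ₀)
  obtain ⟨a, rfl⟩ : ∃ a, (shStalkPullIso g η').hom.app ((EtDesc.pushSh f).obj (U0 F)) a = b :=
    ((isIso_iff_bijective ((shStalkPullIso g η').hom.app _)).1 inferInstance).2 b
  obtain ⟨V, t, σ, rfl⟩ := shGerm_surjective _ _ a
  rw [Groth.DescentBase.stalk_baseChange0_germ f g f' g' hsq] at hb
  refine ⟨V, t, σ, fun ξ' h' h => ?_⟩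
  have h0 := values_eq_of_shGerm_eq f' η' _ _ _ _ _ _ _ hb ξ' h'
  rw [Groth.DescentBase.value_baseChange0 f g f' g' hsq (U0 F) η' V t σ ξ' h' h] at h0
  have h5 := congrArg (fun x => toAbStalk ξ' ((EtCoh.pull g').obj F) ((shStalk ξ').map c x)) h0
  simp only at h5
  rw [toAbStalk_cmp, toAbStalk_germ, shGerm_map, hσ₀] at h5
  exact h5.trans (toAbStalk_germ ξ' _ _ _ _)

end proper

end Groth.EtaleShriek.BCForget
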