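import Groth.Agent.HensPair.ProperClopenCor
import Groth.Agent.CohFin.ProjFinite
import Groth.Agent.Limits.IntegralApprox
import Groth.Agent.Limits.TopLimit
import Groth.Agent.FlatMor2.Chevalley.Approx
import Groth.Agent.PropsBasic2.Reduced
import Groth.Agent.VarietyBC.Components

/-!
Connected closed fibres of irreducible schemes integral over a proper scheme over a henselian local
ring, and their base change to geometric points.
-/

set_option autoImplicit false

universe u

open CategoryTheory CategoryTheory.Limits AlgebraicGeometry TopologicalSpace Opposite IsLocalRing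

namespace Groth.EtaleShriek.ConnFibre

variable {R : Type u} [CommRing R]

/-- The closed fibre of an irreducible scheme that is proper over a henselian local ring is not split
by disjoint closed subsets. -/
theorem false_of_split_proper [HenselianLocalRing R] {Z : Scheme.{u}} [IrreducibleSpace Z]
    (f : Z ⟶ Spec (CommRingCat.of R)) [IsProper f] (P Q : Set Z) (hP : IsClosed P) (hQ : IsClosed Q)
    (hPQ : P ∩ Q = ∅) (hcov : P ∪ Q = f ⁻¹' {closedPoint R}) (hPne : P.Nonempty) (hQne : Q.Nonempty) :
    False := by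
  have hov : Groth.HensPair.overV f (maximalIdeal R) = f ⁻¹' {closedPoint R} := by
    refine congrArg (f.base ⁻¹' ·) ?_
    exact (IsLocalRing.isClosed_singleton_closedPoint R).closure_eq ▸
      (PrimeSpectrum.closure_singleton (closedPoint R)).symm
  have : HenselianRing R (maximalIdeal R) := inferInstance
  obtain ⟨W, hW, hWP⟩ := Groth.HensPair.exists_clopen_of_proper CohFin.projFinite (maximalIdeal R) f P Q
    hP hQ hPQ (hcov.trans hov.symm)
  rw [hov, ← hcov] at hWP
  rcases isClopen_iff.1 hW with rfl | rfl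
  · obtain ⟨x, hx⟩ := hPne
    exact ((Set.ext_iff.1 hWP x).2 hx).1
  · obtain ⟨x, hx⟩ := hQne
    exact Set.eq_empty_iff_forall_notMem.1 hPQ x ⟨(Set.ext_iff.1 hWP x).1 ⟨trivial, Or.inr hx⟩, hx⟩

variable {W T : Scheme.{u}}

/-- **Connected closed fibres.** For an irreducible `W` integral over a proper scheme over a henselian
local ring, the closed fibre is preconnected. -/
theorem isPreconnected_closedFibre [HenselianLocalRing R] [IrreducibleSpace W] (p : W ⟶ T) [IsIntegralHom p]
    (q : T ⟶ Spec (CommRingCat.of R)) [IsProper q] :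
    _root_.IsPreconnected ((p ≫ q) ⁻¹' {closedPoint R}) := by
  rw [isPreconnected_closed_iff]
  intro C₁ C₂ hC₁ hC₂ hcov hne₁ hne₂
  by_contra hne
  rw [Set.not_nonempty_iff_eq_empty] at hne
  let F : Set W := (p ≫ q) ⁻¹' {closedPoint R}
  have hF : IsClosed F := (IsLocalRing.isClosed_singleton_closedPoint R).preimage (p ≫ q).continuous
  have : CompactSpace T := QuasiCompact.compactSpace_of_compactSpace q
  have : QuasiSeparatedSpace T := quasiSeparatedSpace_of_quasiSeparated q
  have : CompactSpace W := QuasiCompact.compactSpace_of_compactSpace p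
  have : QuasiSeparatedSpace W := quasiSeparatedSpace_of_quasiSeparated p
  obtain ⟨Rs⟩ := Groth.Limits.exists_relSystem p
  obtain ⟨I, _, _, _, D, c, hc, hD, ⟨e⟩⟩ := Rs.exists_finite_fp_system
  have : ∀ i, IsFinite (D.obj i).hom := fun i => (hD i).1
  have : IsConnected Iᵒᵖ := IsCofiltered.isConnected _
  have : ∀ i, IsAffineHom (D.obj i).hom := fun i => inferInstance
  have hsep : ∀ i, IsSeparated (D.obj i).hom := fun i => inferInstance
  have hqc : ∀ i, QuasiCompact (D.obj i).hom := fun i => inferInstance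
  let c₁ := (Over.forget T).mapCone c
  have hc₁ : IsLimit c₁ := isLimitOfPreserves (Over.forget T) hc
  have : ∀ {i j : Iᵒᵖ} (a : i ⟶ j), IsAffineHom ((D ⋙ Over.forget T).map a) := fun {i j} a => by
    have : IsAffineHom ((D.map a).left ≫ (D.obj j).hom) := by rw [Over.w]; infer_instance
    exact .of_comp (D.map a).left (D.obj j).hom
  let w : c₁.pt ⟶ W := e.hom.left
  have : IsIso w := inferInstanceAs (IsIso e.hom.left)
  have : IrreducibleSpace c₁.pt := w.homeomorph.symm.surjective.irreducibleSpace w.homeomorph.symm.continuous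
  -- the projections are closed maps
  have hcl : ∀ j, IsClosedMap (c₁.π.app j) := fun j => by
    have h1 : (c₁.π.app j) ≫ (D.obj j).hom = w ≫ p := (Over.w (c.π.app j)).trans (Over.w e.hom).symm
    have : IsIntegralHom ((c₁.π.app j) ≫ (D.obj j).hom) := by rw [h1]; infer_instance
    have : IsIntegralHom (c₁.π.app j) := @IsIntegralHom.of_comp _ _ _ (c₁.π.app j) (D.obj j).hom _ (hsep j)
    exact (c₁.π.app j).isClosedMap
  let C : Set c₁.pt := w ⁻¹' (F ∩ C₁)
  let C' : Set c₁.pt := w ⁻¹' (F ∩ C₂)
  have hC : IsClosed C := (hF.inter hC₁).preimage w.continuous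
  have hC' : IsClosed C' := (hF.inter hC₂).preimage w.continuous
  let E : ∀ j, Set ((D ⋙ Over.forget T).obj j) := fun j => c₁.π.app j '' C ∩ c₁.π.app j '' C'
  by_cases hE : ∀ j, (E j).Nonempty
  · have : ∀ j, CompactSpace ((D ⋙ Over.forget T).obj j) := fun j =>
      @QuasiCompact.compactSpace_of_compactSpace _ _ (D.obj j).hom (hqc j) ‹CompactSpace T›
    obtain ⟨s, hs⟩ := exists_mem_of_isClosed_of_nonempty (D ⋙ Over.forget T) c₁ hc₁ E
      (fun j => (hcl j _ hC).inter (hcl j _ hC')) hE
      (fun j => ((hcl j _ hC).inter (hcl j _ hC')).isCompact)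
      (fun {j j'} a x hx => by
        obtain ⟨⟨y, hy, rfl⟩, ⟨y', hy', e'⟩⟩ := hx
        refine ⟨⟨y, hy, ?_⟩, ⟨y', hy', ?_⟩⟩
        · exact (congr($(c₁.w a) y)).symm
        · exact ((congr($(c₁.w a) y')).symm).trans
            (congrArg ((D ⋙ Over.forget T).map a) e'))
    have hmem : ∀ (Q : Set c₁.pt), IsClosed Q → (∀ j, c₁.π.app j s ∈ c₁.π.app j '' Q) → s ∈ Q := by
      intro Q hQ h
      by_contra hsQ
      obtain ⟨j, V, hsV, hV⟩ := Groth.Limits.exists_preimage_π_subset_of_isOpen (D ⋙ Over.forget T) c₁ hc₁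
        hQ.isOpen_compl hsQ
      obtain ⟨y, hy, hye⟩ := h j
      exact hV y (Set.mem_of_eq_of_mem hye hsV) hy
    have h1 := hmem C hC fun j => (hs j).1
    have h2 := hmem C' hC' fun j => (hs j).2
    exact Set.eq_empty_iff_forall_notMem.1 hne (w s) ⟨h1.1, h1.2, h2.2⟩
  · simp only [not_forall, Set.not_nonempty_iff_eq_empty] at hE
    obtain ⟨j, hj⟩ := hE
    let π := c₁.π.app j
    have hπ : π ≫ (D.obj j).hom = w ≫ p := (Over.w (c.π.app j)).trans (Over.w e.hom).symm
    let S : Closeds ((D.obj j).left) := ⟨Set.range π, (hcl j).isClosed_range⟩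
    let J := Scheme.IdealSheafData.vanishingIdeal S
    have hr : Set.range J.subschemeι = Set.range π := Groth.PropsBasic2.range_vanishingIdeal_subschemeι S
    have hemb : Topology.IsEmbedding J.subschemeι := J.subschemeι.isClosedEmbedding.isEmbedding
    have hirr : IsIrreducible (Set.univ : Set J.subscheme) := by
      have h1 : IsIrreducible (Set.range π) := by
        rw [← Set.image_univ]
        exact (IrreducibleSpace.isIrreducible_univ c₁.pt).image π π.continuous.continuousOn
      refine ⟨?_, fun U V hU hV ⟨a, _, ha⟩ ⟨b, _, hb⟩ => ?_⟩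
      · obtain ⟨x, hx⟩ := h1.nonempty
        obtain ⟨y, -⟩ := hr.ge hx
        exact ⟨y, trivial⟩
      obtain ⟨U', hU', rfl⟩ := hemb.isInducing.isOpen_iff.1 hU
      obtain ⟨V', hV', rfl⟩ := hemb.isInducing.isOpen_iff.1 hV
      obtain ⟨x, hx, hx'⟩ := h1.2 U' V' hU' hV' ⟨_, hr.le ⟨a, rfl⟩, ha⟩ ⟨_, hr.le ⟨b, rfl⟩, hb⟩
      obtain ⟨y, rfl⟩ := hr.ge hx
      exact ⟨y, trivial, hx'⟩
    have : IrreducibleSpace J.subscheme := (irreducibleSpace_def _).2 hirr
    let f := (J.subschemeι ≫ (D.obj j).hom) ≫ q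
    have : IsProper f := inferInstance
    have key : ∀ s, q ((D.obj j).hom (π s)) = (p ≫ q) (w s) := fun s =>
      congrArg q (congr($hπ s))
    have hcompl : ∀ s, w s ∈ F → s ∈ C ∨ s ∈ C' := fun s hs =>
      (hcov hs).imp (fun h => ⟨hs, h⟩) (fun h => ⟨hs, h⟩)
    have hsur : ∀ y : W, ∃ s, w s = y := fun y => w.surjective y
    refine false_of_split_proper f (J.subschemeι ⁻¹' (π '' C)) (J.subschemeι ⁻¹' (π '' C'))
      ((hcl j _ hC).preimage J.subschemeι.continuous) ((hcl j _ hC').preimage J.subschemeι.continuous)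
      ?_ ?_ ?_ ?_
    · rw [← Set.preimage_inter]
      exact (congrArg (J.subschemeι ⁻¹' ·) hj).trans Set.preimage_empty
    · ext y
      obtain ⟨s, hs⟩ := hr.le ⟨y, rfl⟩
      constructor
      · rintro (⟨t, ht, hty⟩ | ⟨t, ht, hty⟩) <;>
        · show q ((D.obj j).hom (J.subschemeι y)) ∈ ({closedPoint R} : Set _)
          rw [← hty]
          exact Set.mem_of_eq_of_mem (key t) ht.1
      · intro hy
        have : w s ∈ F := show (p ≫ q) (w s) ∈ ({closedPoint R} : Set _) from Set.mem_of_eq_of_mem
          ((key s).symm.trans (congrArg (fun z => q ((D.obj j).hom z)) hs)) hy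
        exact (hcompl s this).imp (fun h => ⟨s, h, hs⟩) (fun h => ⟨s, h, hs⟩)
    · obtain ⟨y, hy⟩ := hne₁
      obtain ⟨s, rfl⟩ := hsur y
      obtain ⟨z, hz⟩ := hr.ge ⟨s, rfl⟩
      exact ⟨z, s, hy, hz.symm⟩
    · obtain ⟨y, hy⟩ := hne₂
      obtain ⟨s, rfl⟩ := hsur y
      obtain ⟨z, hz⟩ := hr.ge ⟨s, rfl⟩
      exact ⟨z, s, hy, hz.symm⟩

/-- Base change of a preconnected scheme over a separably closed field is preconnected. -/
theorem preconnectedSpace_pullback_field {k L : Type u} [Field k] [IsSepClosed k] [Field L] (φ : k →+* L)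
    {Y : Scheme.{u}} (g : Y ⟶ Spec (CommRingCat.of k)) [PreconnectedSpace Y] :
    PreconnectedSpace ↥(pullback g (Spec.map (CommRingCat.ofHom φ))) := by
  let : Algebra k L := φ.toAlgebra
  let : Y.Over (Spec (CommRingCat.of k)) := ⟨g⟩
  rcases isEmpty_or_nonempty Y with h | h
  · have : IsEmpty ↥(pullback g (Spec.map (CommRingCat.ofHom φ))) :=
      ⟨fun z => h.elim (pullback.fst g (Spec.map (CommRingCat.ofHom φ)) z)⟩
    infer_instance
  have : ConnectedSpace Y := ⟨inferInstance⟩
  have h := (Groth.VarietyBC.isQuotientMap_bcFst (k := k) (X := Y) L).isCoinducing.isConnected_preimage_of_isClosed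
    (fun y => Groth.VarietyBC.isConnected_fibre L y) isClosed_univ isConnected_univ
  exact ⟨h.isPreconnected⟩

/-- **Connected geometric closed fibres.** -/
theorem preconnectedSpace_pullback_closedPoint [HenselianLocalRing R] [IsSepClosed (ResidueField R)]
    [IrreducibleSpace W] (p : W ⟶ T) [IsIntegralHom p] (q : T ⟶ Spec (CommRingCat.of R)) [IsProper q]
    {L : Type u} [Field L] (φ : R →+* L) [IsLocalHom φ] :
    PreconnectedSpace ↥(pullback (p ≫ q) (Spec.map (CommRingCat.ofHom φ))) := by
  let s : Spec (CommRingCat.of (ResidueField R)) ⟶ Spec (CommRingCat.of R) :=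
    Spec.map (CommRingCat.ofHom (residue R))
  let ψ : ResidueField R →+* L := ResidueField.lift φ
  have hψ : Spec.map (CommRingCat.ofHom ψ) ≫ s = Spec.map (CommRingCat.ofHom φ) := by
    rw [← Spec.map_comp, ← CommRingCat.ofHom_comp]
    rfl
  have hrs : Set.range s = {closedPoint R} := by
    refine Set.eq_singleton_iff_unique_mem.2 ⟨⟨closedPoint _, ?_⟩, ?_⟩
    · exact IsLocalRing.comap_closedPoint (residue R)
    · rintro _ ⟨z, rfl⟩
      rw [Subsingleton.elim z (closedPoint _)]
      exact IsLocalRing.comap_closedPoint (residue R)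
  have : IsClosedImmersion s := IsClosedImmersion.spec_of_surjective _ Ideal.Quotient.mk_surjective
  have : PreconnectedSpace ↥(pullback (p ≫ q) s) := by
    refine ⟨?_⟩
    rw [(pullback.fst (p ≫ q) s).isEmbedding.isInducing.isPreconnected_image.symm, Set.image_univ]
    erw [Scheme.Pullback.range_fst, hrs]
    exact isPreconnected_closedFibre p q
  have h := preconnectedSpace_pullback_field ψ (pullback.snd (p ≫ q) s)
  let i := pullbackLeftPullbackSndIso (p ≫ q) s (Spec.map (CommRingCat.ofHom ψ)) ≪≫ pullback.congrHom rfl hψ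
  exact i.hom.surjective.denseRange.preconnectedSpace i.hom.continuous

end Groth.EtaleShriek.ConnFibre
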