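import Groth.Agent.EtaleShriek.Criterion
import Groth.Agent.EtaleShriek.ConnFibre
import Groth.Agent.EtaleBase.Limit.StalkPush
import Groth.Agent.EtaleBase.Limit.StrictLocalization

/-!
Agreeing opens of étale schemes over a proper scheme near a geometric fibre descend to an étale
neighbourhood of the geometric point (the scheme-theoretic core of proper base change in degree zero).
-/

set_option autoImplicit false

universe u

open CategoryTheory CategoryTheory.Limits AlgebraicGeometry Opposite TopologicalSpace IsLocalRing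

namespace Groth.EtaleShriek.BCStage

open Groth.EtaleBase (openObj openHom fiberPoint)
open Groth.EtaleBase.EtLimit (nbhdSystem localCone isLimitLocalCone localCone_hom bcCone isLimitBcCone
  schemes struct exists_affine_system)
open Groth.AlgSpEt.StrictLocal (toEtale exists_openLift)
open Groth.EtaleBase.EtLocalRing (ev gm)

attribute [local simp] pullback.lift_fst pullback.lift_snd pullback.lift_fst_assoc pullback.lift_snd_assoc

section Maps

variable {M N A S : Scheme.{u}}

/-- Base change along `s` of a morphism over `S`. -/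
noncomputable def mb (m : M ⟶ N) (g : N ⟶ S) (s : A ⟶ S) : pullback (m ≫ g) s ⟶ pullback g s :=
  pullback.lift (pullback.fst _ _ ≫ m) (pullback.snd _ _) ((Category.assoc _ _ _).trans pullback.condition)

/-- Base change along `v` of a morphism over `S`, base on the left. -/
noncomputable def mv (m : M ⟶ N) (g : N ⟶ S) (v : A ⟶ S) {g' : M ⟶ S} (h : m ≫ g = g') :
    pullback v g' ⟶ pullback v g :=
  pullback.lift (pullback.fst _ _) (pullback.snd _ _ ≫ m)
    (pullback.condition.trans ((congrArg (_ ≫ ·) h.symm).trans (Category.assoc _ _ _).symm))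

lemma isPullback_mb (m : M ⟶ N) (g : N ⟶ S) (s : A ⟶ S) :
    IsPullback (pullback.fst (m ≫ g) s) (mb m g s) m (pullback.fst g s) := by
  refine IsPullback.of_bot ?_ (pullback.lift_fst _ _ _).symm (IsPullback.of_hasPullback g s)
  simp only [mb, pullback.lift_snd]
  exact IsPullback.of_hasPullback (m ≫ g) s

instance etale_mb (m : M ⟶ N) [Etale m] (g : N ⟶ S) (s : A ⟶ S) : Etale (mb m g s) :=
  MorphismProperty.of_isPullback (isPullback_mb m g s) ‹_›

instance separated_mb (m : M ⟶ N) [IsSeparated m] (g : N ⟶ S) (s : A ⟶ S) : IsSeparated (mb m g s) :=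
  MorphismProperty.of_isPullback (isPullback_mb m g s) ‹_›

instance quasiCompact_mb (m : M ⟶ N) [QuasiCompact m] (g : N ⟶ S) (s : A ⟶ S) : QuasiCompact (mb m g s) :=
  MorphismProperty.of_isPullback (isPullback_mb m g s) ‹_›

variable {A' : Scheme.{u}}

/-- Change of the base. -/
noncomputable def bt {v : A ⟶ S} {v' : A' ⟶ S} (w : A' ⟶ A) (hw : w ≫ v = v') (g : N ⟶ S) :
    pullback v' g ⟶ pullback v g :=
  pullback.lift (pullback.fst _ _ ≫ w) (pullback.snd _ _)
    ((Category.assoc _ _ _).trans ((congrArg (_ ≫ ·) hw).trans pullback.condition))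

lemma bt_mv (m : M ⟶ N) (g : N ⟶ S) {g' : M ⟶ S} (hg : m ≫ g = g') {v : A ⟶ S} {v' : A' ⟶ S}
    (w : A' ⟶ A) (hw : w ≫ v = v') :
    bt w hw g' ≫ mv m g v hg = mv m g v' hg ≫ bt w hw g := by
  apply pullback.hom_ext <;> simp [bt, mv]

lemma bt_snd {v : A ⟶ S} {v' : A' ⟶ S} (w : A' ⟶ A) (hw : w ≫ v = v') (g : N ⟶ S) :
    bt w hw g ≫ pullback.snd v g = pullback.snd v' g := pullback.lift_snd _ _ _

/-- The projection from the base change to a cone point. -/
noncomputable def bp {v : A ⟶ S} {v' : A' ⟶ S} (w : A' ⟶ A) (hw : w ≫ v = v') (g : N ⟶ S) :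
    pullback g v' ⟶ pullback v g :=
  pullback.lift (pullback.snd _ _ ≫ w) (pullback.fst _ _)
    ((Category.assoc _ _ _).trans ((congrArg (_ ≫ ·) hw).trans pullback.condition.symm))

lemma bp_fst {v : A ⟶ S} {v' : A' ⟶ S} (w : A' ⟶ A) (hw : w ≫ v = v') (g : N ⟶ S) :
    bp w hw g ≫ pullback.fst v g = pullback.snd g v' ≫ w := pullback.lift_fst _ _ _

lemma bp_snd {v : A ⟶ S} {v' : A' ⟶ S} (w : A' ⟶ A) (hw : w ≫ v = v') (g : N ⟶ S) :
    bp w hw g ≫ pullback.snd v g = pullback.fst g v' := pullback.lift_snd _ _ _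

lemma bp_mv (m : M ⟶ N) (g : N ⟶ S) {g' : M ⟶ S} (hg : m ≫ g = g') {v : A ⟶ S} {v' : A' ⟶ S}
    (w : A' ⟶ A) (hw : w ≫ v = v') (h) :
    pullback.lift (pullback.fst g' v' ≫ m) (pullback.snd g' v') h ≫ bp w hw g =
      bp w hw g' ≫ mv m g v hg := by
  apply pullback.hom_ext <;> simp [bp, mv]

/-- A point of a scheme in terms of its global functions. -/
lemma specMap_appTop {K : CommRingCat.{u}} {Y : Scheme.{u}} (a : Spec K ⟶ Y) :
    Spec.map (a.appTop ≫ (Scheme.ΓSpecIso K).hom) = a ≫ Y.toSpecΓ := by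
  rw [Scheme.toSpecΓ_naturality, Spec.map_comp, SpecMap_ΓSpecIso_hom]

end Maps

variable {X S : Scheme.{u}} (f : X ⟶ S) {Ω : Type u} [Field Ω] [IsAlgClosed Ω]
  (η : Spec (CommRingCat.of Ω) ⟶ S) {ι : Type u} {U : ι → Scheme.{u}} (u : ∀ j, U j ⟶ X)
  (A : ∀ j k, (pullback (u j) (u k)).Opens) (O : ∀ j, (pullback (u j) (pullback.fst f η)).Opens)

/-- The geometric fibre over a neighbourhood of `η`. -/
noncomputable def fibreLift (V : S.Etale) (t : (Scheme.pointSmallEtale η).fiber.obj V) (j : ι) :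
    pullback (u j) (pullback.fst f η) ⟶ pullback V.hom (u j ≫ f) :=
  pullback.lift (pullback.snd _ _ ≫ pullback.snd f η ≫ t.left) (pullback.fst _ _)
    ((Category.assoc _ _ _).trans ((congrArg (pullback.snd (u j) (pullback.fst f η) ≫ ·)
      ((Category.assoc _ _ _).trans ((congrArg (pullback.snd f η ≫ ·) (Over.w t)).trans
        pullback.condition.symm))).trans (pullback.condition_assoc f).symm))

set_option maxHeartbeats 1600000 in
/-- **Descent of agreeing opens.** -/
theorem exists_nbhd_opens [IsProper f] [Finite ι] [∀ j, Etale (u j)] [∀ j, IsSeparated (u j)]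
    [∀ j, QuasiCompact (u j)]
    (hOc : ∀ j, IsCompact (O j : Set ↥(pullback (u j) (pullback.fst f η))))
    (htrans : ∀ (j k l : ι) (q : ↥(pullback (pullback.snd (u j) (u k)) (pullback.fst (u k) (u l)))),
      pullback.fst (pullback.snd (u j) (u k)) (pullback.fst (u k) (u l)) q ∈ A j k →
        pullback.snd (pullback.snd (u j) (u k)) (pullback.fst (u k) (u l)) q ∈ A k l →
          Criterion.p13 u j k l q ∈ A j l)
    (hsymm : ∀ (j k : ι) (p : ↥(pullback (u j) (u k))), p ∈ A j k →
      (pullbackSymmetry (u j) (u k)).hom p ∈ A k j)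
    (hOA : ∀ (j k : ι) (d : ↥(pullback (pullback.snd (u j) (pullback.fst f η))
        (pullback.snd (u k) (pullback.fst f η)))),
      pullback.fst (pullback.snd (u j) (pullback.fst f η)) (pullback.snd (u k) (pullback.fst f η)) d ∈ O j →
      pullback.snd (pullback.snd (u j) (pullback.fst f η)) (pullback.snd (u k) (pullback.fst f η)) d ∈ O k →
        Criterion.pairY (pullback.fst f η) u j k d ∈ A j k)
    (hOcov : ∀ y, ∃ j, ∃ o ∈ O j, pullback.snd (u j) (pullback.fst f η) o = y) :
    ∃ (V : S.Etale) (t : (Scheme.pointSmallEtale η).fiber.obj V)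
      (D : ∀ j, (pullback V.hom (u j ≫ f)).Opens),
      (∀ x : ↥(pullback V.hom f), ∃ j, ∃ d ∈ D j, mv (u j) f V.hom rfl d = x) ∧
      (∀ j, ∀ o ∈ O j, fibreLift f η u V t j o ∈ D j) ∧
      ∀ (j k : ι) (q : ↥(pullback (mv (u j) f V.hom rfl) (mv (u k) f V.hom rfl))),
        pullback.fst (mv (u j) f V.hom rfl) (mv (u k) f V.hom rfl) q ∈ D j →
        pullback.snd (mv (u j) f V.hom rfl) (mv (u k) f V.hom rfl) q ∈ D k →
        pullback.map (mv (u j) f V.hom rfl) (mv (u k) f V.hom rfl) (u j) (u k) (pullback.snd _ _)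
          (pullback.snd _ _) (pullback.snd _ _) (pullback.lift_snd _ _ _) (pullback.lift_snd _ _ _) q ∈ A j k := by
  classical
  -- the strict localization
  obtain ⟨J, _, _, _, K, _, hK⟩ := exists_affine_system η
  let R : Type u := EtBase.etaleLocalRing η
  obtain ⟨hhens, hsep⟩ := Groth.EtaleBase.EtLocalRing.isStrictlyHenselian η
  let ρ : R →+* Ω := (ev η).hom
  have hρ : IsLocalHom ρ :=
    ⟨fun a ha => (Groth.EtaleBase.EtLocalRing.isUnit_iff_ev_ne_zero η a).2 ha.ne_zero⟩
  let σ : Spec (CommRingCat.of R) ⟶ S := Spec.map (toEtale η) ≫ S.fromSpecStalk (η default)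
  let Vs := nbhdSystem η K
  let tt : ∀ i : J, (Scheme.pointSmallEtale η).fiber.obj (Vs.obj (op i)) := fun i => (K.obj i).unop.2
  let lc := localCone η K
  have hlc : IsLimit lc := isLimitLocalCone η K
  have hσ : ∀ i : J, lc.π.app (op i) ≫ struct Vs i = σ := fun i => localCone_hom η K i
  have hρπ : ∀ i : J, Spec.map (CommRingCat.ofHom ρ) ≫ lc.π.app (op i) = (tt i).left := fun i => by
    let U₀ := (K.obj i).unop.1
    let t₀ := (K.obj i).unop.2
    have hproj : lc.π.app (op i) = Spec.map (gm η U₀ t₀) ≫ U₀.left.isoSpec.inv := rfl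
    have h1 : gm η U₀ t₀ ≫ CommRingCat.ofHom ρ = t₀.left.appTop ≫ (Scheme.ΓSpecIso (CommRingCat.of Ω)).hom := by
      ext σ'
      exact Groth.EtaleBase.EtLocalRing.ev_gm η U₀ t₀ σ'
    have h2 : Spec.map (CommRingCat.ofHom ρ) ≫ Spec.map (gm η U₀ t₀) = t₀.left ≫ U₀.left.toSpecΓ := by
      refine (Spec.map_comp _ _).symm.trans ?_
      exact (congrArg Spec.map h1).trans (specMap_appTop t₀.left)
    refine (congrArg (_ ≫ ·) hproj).trans ((Category.assoc _ _ _).symm.trans
      ((congrArg (· ≫ U₀.left.isoSpec.inv) h2).trans ((Category.assoc _ _ _).trans ?_)))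
    exact (congrArg (t₀.left ≫ ·) U₀.left.isoSpec.hom_inv_id).trans (Category.comp_id _)
  have hρσ : Spec.map (CommRingCat.ofHom ρ) ≫ σ = η := by
    obtain ⟨i⟩ := ‹Nonempty J›
    exact (congrArg (_ ≫ ·) (hσ i).symm).trans ((Category.assoc _ _ _).symm.trans
      ((congrArg (· ≫ struct Vs i) (hρπ i)).trans (Over.w (tt i))))
  -- the base change to the strict localization
  let T := pullback f σ
  let uT : ∀ j, pullback (u j ≫ f) σ ⟶ T := fun j => mb (u j) f σ
  let toU : ∀ j k, pullback (uT j) (uT k) ⟶ pullback (u j) (u k) := fun j k =>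
    pullback.map _ _ _ _ (pullback.fst _ _) (pullback.fst _ _) (pullback.fst f σ)
      (pullback.lift_fst _ _ _) (pullback.lift_fst _ _ _)
  let h : pullback f η ⟶ T := pullback.lift (pullback.fst f η) (pullback.snd f η ≫ Spec.map (CommRingCat.ofHom ρ))
    (by rw [Category.assoc, hρσ, pullback.condition])
  let AT : ∀ j k, (pullback (uT j) (uT k)).Opens := fun j k => toU j k ⁻¹ᵁ A j k
  let toO : ∀ j, pullback (uT j) h ⟶ pullback (u j) (pullback.fst f η) := fun j =>
    pullback.lift (pullback.fst _ _ ≫ pullback.fst _ _) (pullback.snd _ _) (by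
      have h1 := congrArg (· ≫ pullback.fst f σ) (pullback.condition (f := uT j) (g := h))
      simpa [uT, mb, h] using h1)
  let ofO : ∀ j, pullback (u j) (pullback.fst f η) ⟶ pullback (uT j) h := fun j =>
    pullback.lift (pullback.lift (pullback.fst _ _)
        (pullback.snd _ _ ≫ pullback.snd f η ≫ Spec.map (CommRingCat.ofHom ρ)) (by
          simp only [Category.assoc, hρσ]
          rw [← pullback.condition, ← Category.assoc, pullback.condition, Category.assoc]))
      (pullback.snd _ _) (by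
        apply pullback.hom_ext
        · simp [uT, mb, h, pullback.condition]
        · simp [uT, mb, h])
  have htoOid : ∀ j, toO j ≫ ofO j = 𝟙 _ := fun j => by
    have e2 : pullback.fst (uT j) h ≫ pullback.snd (u j ≫ f) σ =
        pullback.snd (uT j) h ≫ pullback.snd f η ≫ Spec.map (CommRingCat.ofHom ρ) := by
      have := congrArg (· ≫ pullback.snd f σ) (pullback.condition (f := uT j) (g := h))
      simpa [uT, mb, h] using this
    apply pullback.hom_ext
    · apply pullback.hom_ext
      · simp [toO, ofO]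
      · simp only [Category.assoc, toO, ofO, pullback.lift_fst_assoc, pullback.lift_snd, pullback.lift_snd_assoc, Category.id_comp]
        exact e2.symm
    · simp [toO, ofO]
  have hofOid : ∀ j, ofO j ≫ toO j = 𝟙 _ := fun j => by
    apply pullback.hom_ext <;> simp [toO, ofO]
  let OT : ∀ j, (pullback (uT j) h).Opens := fun j => toO j ⁻¹ᵁ O j
  have hOTc : ∀ j, IsCompact (OT j : Set ↥(pullback (uT j) h)) := fun j => by
    have e : (OT j : Set ↥(pullback (uT j) h)) = ofO j '' (O j : Set _) := by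
      refine Set.Subset.antisymm (fun x hx => ⟨toO j x, hx, ?_⟩) ?_
      · rw [← Scheme.Hom.comp_apply, htoOid]; rfl
      · rintro _ ⟨o, ho, rfl⟩
        show toO j (ofO j o) ∈ O j
        rw [← Scheme.Hom.comp_apply, hofOid]
        exact ho
    rw [e]
    exact (hOc j).image (ofO j).continuous
  have hTc : CompactSpace T := QuasiCompact.compactSpace_of_compactSpace (pullback.snd f σ)
  have hTq : QuasiSeparatedSpace T := quasiSeparatedSpace_of_quasiSeparated (pullback.snd f σ)
  obtain ⟨D₀, -, hD₀O, hD₀A⟩ := Criterion.exists_opens h uT AT OT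
    (fun j k l q h1 h2 => by
      let m : pullback (pullback.snd (uT j) (uT k)) (pullback.fst (uT k) (uT l)) ⟶
          pullback (pullback.snd (u j) (u k)) (pullback.fst (u k) (u l)) :=
        pullback.map _ _ _ _ (toU j k) (toU k l) (pullback.fst _ _) (pullback.lift_snd _ _ _).symm
          (pullback.lift_fst _ _ _).symm
      have e : m ≫ Criterion.p13 u j k l = Criterion.p13 uT j k l ≫ toU j l := by
        apply pullback.hom_ext <;> simp [m, Criterion.p13, toU]
      show toU j l (Criterion.p13 uT j k l q) ∈ A j l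
      rw [← Scheme.Hom.comp_apply, ← e, Scheme.Hom.comp_apply]
      refine htrans j k l _ ?_ ?_
      · rw [← Scheme.Hom.comp_apply, pullback.lift_fst, Scheme.Hom.comp_apply]; exact h1
      · rw [← Scheme.Hom.comp_apply, pullback.lift_snd, Scheme.Hom.comp_apply]; exact h2)
    (fun j k d h1 h2 => by
      let m : pullback (pullback.snd (uT j) h) (pullback.snd (uT k) h) ⟶
          pullback (pullback.snd (u j) (pullback.fst f η)) (pullback.snd (u k) (pullback.fst f η)) :=
        pullback.map _ _ _ _ (toO j) (toO k) (𝟙 _) (by simp [toO]) (by simp [toO])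
      have e : m ≫ Criterion.pairY (pullback.fst f η) u j k = Criterion.pairY h uT j k ≫ toU j k := by
        apply pullback.hom_ext <;> simp [m, Criterion.pairY, toU, toO]
      show toU j k (Criterion.pairY h uT j k d) ∈ A j k
      rw [← Scheme.Hom.comp_apply, ← e, Scheme.Hom.comp_apply]
      refine hOA j k _ ?_ ?_
      · rw [← Scheme.Hom.comp_apply, pullback.lift_fst, Scheme.Hom.comp_apply]; exact h1
      · rw [← Scheme.Hom.comp_apply, pullback.lift_snd, Scheme.Hom.comp_apply]; exact h2)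
    (fun y => by
      obtain ⟨j, o, ho, hoy⟩ := hOcov y
      refine ⟨j, ofO j o, ?_, ?_⟩
      · show toO j (ofO j o) ∈ O j
        rw [← Scheme.Hom.comp_apply, hofOid]; exact ho
      · rw [← Scheme.Hom.comp_apply, pullback.lift_snd]; exact hoy)
    (fun Z _ p _ => by
      have := hsep
      have hpre := ConnFibre.preconnectedSpace_pullback_closedPoint p (pullback.snd f σ) ρ
      let fwd : pullback (p ≫ pullback.snd f σ) (Spec.map (CommRingCat.ofHom ρ)) ⟶ pullback p h :=
        pullback.lift (pullback.fst _ _)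
          (pullback.lift (pullback.fst _ _ ≫ p ≫ pullback.fst f σ) (pullback.snd _ _) (by
            refine Eq.trans ?_ (congrArg (_ ≫ ·) hρσ)
            refine Eq.trans ?_ (pullback.condition_assoc σ)
            simp only [Category.assoc, pullback.condition]))
          (by
            apply pullback.hom_ext
            · simp [h]
            · simp [h, pullback.condition])
      let bwd : pullback p h ⟶ pullback (p ≫ pullback.snd f σ) (Spec.map (CommRingCat.ofHom ρ)) :=
        pullback.lift (pullback.fst _ _) (pullback.snd _ _ ≫ pullback.snd f η) (by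
          rw [← Category.assoc, pullback.condition]
          simp [h])
      have e : bwd ≫ fwd = 𝟙 _ := by
        have e2 : pullback.fst p h ≫ p ≫ pullback.fst f σ = pullback.snd p h ≫ pullback.fst f η := by
          have := congrArg (· ≫ pullback.fst f σ) (pullback.condition (f := p) (g := h))
          simpa [h] using this
        apply pullback.hom_ext
        · simp [fwd, bwd]
        · apply pullback.hom_ext
          · simp only [Category.assoc, fwd, bwd, pullback.lift_fst, pullback.lift_snd, pullback.lift_fst_assoc, Category.id_comp]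
            exact e2
          · simp [fwd, bwd]
      have hs : Function.Surjective fwd := fun x => ⟨bwd x, by rw [← Scheme.Hom.comp_apply, e]; rfl⟩
      exact hs.denseRange.preconnectedSpace fwd.continuous)
    hOTc
    (fun j k p hp => by
      have e : (pullbackSymmetry (uT j) (uT k)).hom ≫ toU k j =
          toU j k ≫ (pullbackSymmetry (u j) (u k)).hom := by
        apply pullback.hom_ext <;>
          simp [toU, pullbackSymmetry_hom_comp_fst_assoc, pullbackSymmetry_hom_comp_snd_assoc]
      show toU k j ((pullbackSymmetry (uT j) (uT k)).hom p) ∈ A k j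
      rw [← Scheme.Hom.comp_apply, e, Scheme.Hom.comp_apply]
      exact hsymm j k _ hp)
    (fun x => by
      obtain ⟨y, hxy, hy⟩ : ∃ y, x ⤳ y ∧ pullback.snd f σ y = closedPoint R := by
        have hc := (pullback.snd f σ).isClosedMap _ (isClosed_closure (s := ({x} : Set T)))
        obtain ⟨y, hy, hy'⟩ := (IsLocalRing.specializes_closedPoint (pullback.snd f σ x)).mem_closed hc
          ⟨x, subset_closure rfl, rfl⟩
        exact ⟨y, specializes_iff_mem_closure.2 hy, hy'⟩
      obtain ⟨z, hz₁, -⟩ := Scheme.Pullback.exists_preimage_pullback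
        (f := pullback.snd f σ) (g := Spec.map (CommRingCat.ofHom ρ)) y default (by
          rw [hy, show (default : Spec (CommRingCat.of Ω)) = closedPoint Ω from Subsingleton.elim _ _]
          exact (IsLocalRing.comap_closedPoint ρ).symm)
      let m : pullback (pullback.snd f σ) (Spec.map (CommRingCat.ofHom ρ)) ⟶ pullback f η :=
        pullback.lift (pullback.fst _ _ ≫ pullback.fst f σ) (pullback.snd _ _) (by
          refine Eq.trans ?_ (congrArg (_ ≫ ·) hρσ)
          refine Eq.trans ?_ (pullback.condition_assoc σ)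
          simp only [Category.assoc, pullback.condition])
      have em : m ≫ h = pullback.fst _ _ := by
        apply pullback.hom_ext
        · simp [m, h]
        · simp [m, h, pullback.condition]
      refine ⟨m z, ?_⟩
      rw [← Scheme.Hom.comp_apply, em, hz₁]
      exact hxy)
  -- quasi-compact opens
  have hD₁ : ∀ j, ∃ D₁ : (pullback (u j ≫ f) σ).Opens, IsCompact (D₁ : Set ↥(pullback (u j ≫ f) σ)) ∧ D₁ ≤ D₀ j ∧
      pullback.fst (uT j) h '' (OT j : Set _) ⊆ D₁ := fun j => by
    obtain ⟨D₁, hc, ho, h1, h2⟩ := PrespectralSpace.exists_isCompact_and_isOpen_between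
      ((hOTc j).image (pullback.fst (uT j) h).continuous) (D₀ j).isOpen (hD₀O j)
    exact ⟨⟨D₁, ho⟩, hc, h2, h1⟩
  choose D₁ hD₁c hD₁le hD₁O using hD₁
  -- the system
  have hVaff : ∀ p : Jᵒᵖ, IsAffine (Vs.obj p).left := fun p => hK p.unop
  let cU : ∀ j, Cone (schemes (Vs ⋙ EtCoh.bc (u j ≫ f))) := fun j => bcCone (u j ≫ f) Vs lc σ hσ
  have hcU : ∀ j, IsLimit (cU j) := fun j => isLimitBcCone (u j ≫ f) Vs lc σ hσ hlc
  choose i₁ E₁ hE₁c hE₁ using fun j => exists_preimage_eq (schemes (Vs ⋙ EtCoh.bc (u j ≫ f))) (cU j)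
    (hcU j) (D₁ j) (hD₁c j)
  obtain ⟨i₀, hi₀⟩ := Finite.exists_le fun j => (i₁ j).unop
  let tr : ∀ (g : Scheme.{u}) (gS : g ⟶ S) {a b : J}, a ≤ b →
      (pullback (Vs.obj (op b)).hom gS ⟶ pullback (Vs.obj (op a)).hom gS) := fun g gS a b hab =>
    bt (Vs.map (homOfLE hab).op).left (MorphismProperty.Over.w _) gS
  have htr : ∀ (g : Scheme.{u}) (gS : g ⟶ S) {a b : J} (hab : a ≤ b),
      (schemes (Vs ⋙ EtCoh.bc gS)).map (homOfLE hab).op = tr g gS hab := fun g gS a b hab => by
    apply pullback.hom_ext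
    · exact (pullback.lift_fst _ _ _).trans (pullback.lift_fst _ _ _).symm
    · exact (pullback.lift_snd _ _ _).trans (pullback.lift_snd _ _ _).symm
  have hcw : ∀ (g : Scheme.{u}) (gS : g ⟶ S) {a b : J} (hab : a ≤ b),
      (bcCone gS Vs lc σ hσ).π.app (op b) ≫ tr g gS hab = (bcCone gS Vs lc σ hσ).π.app (op a) :=
    fun g gS a b hab => (congrArg (_ ≫ ·) (htr g gS hab).symm).trans
      ((bcCone gS Vs lc σ hσ).w (homOfLE hab).op)
  have htrqc : ∀ (g : Scheme.{u}) (gS : g ⟶ S) {a b : J} (hab : a ≤ b), IsAffineHom (tr g gS hab) :=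
    fun g gS a b hab => by
      have : IsAffineHom ((schemes (Vs ⋙ EtCoh.bc gS)).map (homOfLE hab).op) :=
        Groth.EtaleBase.EtLimit.isAffineHom_bc gS Vs _ _ _
      exact htr g gS hab ▸ this
  have hmv : ∀ {M N : Scheme.{u}} (m : M ⟶ N) (g : N ⟶ S) (g' : M ⟶ S) (hg : m ≫ g = g') {a b : J}
      (hab : a ≤ b), tr M g' hab ≫ mv m g (Vs.obj (op a)).hom hg =
        mv m g (Vs.obj (op b)).hom hg ≫ tr N g hab := by
    intro M N m g g' hg a b hab
    exact bt_mv m g hg _ _
  let pi : ∀ (g : Scheme.{u}) (gS : g ⟶ S) (a : J), pullback gS σ ⟶ pullback (Vs.obj (op a)).hom gS :=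
    fun g gS a => bp (lc.π.app (op a)) (hσ a) gS
  have hpw : ∀ (g : Scheme.{u}) (gS : g ⟶ S) {a b : J} (hab : a ≤ b),
      pi g gS b ≫ tr g gS hab = pi g gS a := fun g gS a b hab => hcw g gS hab
  let E₀ : ∀ j, (pullback (Vs.obj (op i₀)).hom (u j ≫ f)).Opens := fun j => tr _ _ (hi₀ j) ⁻¹ᵁ E₁ j
  have hE₀c : ∀ j, IsCompact (E₀ j : Set ↥(pullback (Vs.obj (op i₀)).hom (u j ≫ f))) := fun j => by
    have := htrqc _ (u j ≫ f) (hi₀ j)
    exact QuasiCompact.isCompact_preimage (f := tr _ _ (hi₀ j)) _ (E₁ j).isOpen (hE₁c j)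
  have hE₀ : ∀ j, pi _ (u j ≫ f) i₀ ⁻¹ᵁ E₀ j = D₁ j := fun j => by
    refine ((Scheme.Hom.comp_preimage (pi _ (u j ≫ f) i₀) (tr _ _ (hi₀ j)) (E₁ j)).symm.trans ?_).trans (hE₁ j)
    exact congrArg (· ⁻¹ᵁ E₁ j) (hpw _ (u j ≫ f) (hi₀ j))
  -- the pairs
  let gP : ∀ j k, pullback (u j) (u k) ⟶ S := fun j k => pullback.fst (u j) (u k) ≫ u j ≫ f
  have hgP : ∀ j k, pullback.snd (u j) (u k) ≫ u k ≫ f = gP j k := fun j k => by
    simp only [gP, ← Category.assoc, pullback.condition]
  have hPqc : ∀ j k, QuasiCompact (gP j k) := fun j k => inferInstance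
  have hPqs : ∀ j k, QuasiSeparated (gP j k) := fun j k => inferInstance
  have hpairs : ∀ p : ι × ι, ∃ i : J, ∃ hi : i₀ ≤ i,
      ∀ q : ↥(pullback (Vs.obj (op i)).hom (gP p.1 p.2)),
        mv (pullback.fst (u p.1) (u p.2)) (u p.1 ≫ f) (Vs.obj (op i)).hom rfl q ∈ tr _ _ hi ⁻¹ᵁ E₀ p.1 →
        mv (pullback.snd (u p.1) (u p.2)) (u p.2 ≫ f) (Vs.obj (op i)).hom (hgP p.1 p.2) q ∈
            tr _ _ hi ⁻¹ᵁ E₀ p.2 →
          pullback.snd (Vs.obj (op i)).hom (gP p.1 p.2) q ∈ A p.1 p.2 := by
    rintro ⟨j, k⟩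
    let cP := bcCone (gP j k) Vs lc σ hσ
    let F := schemes (Vs ⋙ EtCoh.bc (gP j k))
    have hcP : IsLimit cP := isLimitBcCone (gP j k) Vs lc σ hσ hlc
    let m₁ := mv (pullback.fst (u j) (u k)) (u j ≫ f) (Vs.obj (op i₀)).hom rfl
    let m₂ := mv (pullback.snd (u j) (u k)) (u k ≫ f) (Vs.obj (op i₀)).hom (hgP j k)
    let G : (pullback (Vs.obj (op i₀)).hom (gP j k)).Opens := m₁ ⁻¹ᵁ E₀ j ⊓ m₂ ⁻¹ᵁ E₀ k
    let B : (pullback (Vs.obj (op i₀)).hom (gP j k)).Opens := pullback.snd (Vs.obj (op i₀)).hom (gP j k) ⁻¹ᵁ A j k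
    have hcs : CompactSpace ↥(pullback (Vs.obj (op i₀)).hom (gP j k)) := Groth.EtaleBase.EtLimit.compactSpace_bc' (gP j k) Vs _
    have hqs : QuasiSeparatedSpace ↥(pullback (Vs.obj (op i₀)).hom (gP j k)) :=
      Groth.EtaleBase.EtLimit.quasiSeparatedSpace_bc' (gP j k) Vs _
    have hG : IsCompact (G : Set ↥(pullback (Vs.obj (op i₀)).hom (gP j k))) := by
      have h1 : QuasiCompact m₁ := by
        have : QuasiSeparatedSpace ↥(pullback (Vs.obj (op i₀)).hom (u j ≫ f)) :=
          Groth.EtaleBase.EtLimit.quasiSeparatedSpace_bc' (u j ≫ f) Vs _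
        exact quasiCompact_of_compactSpace m₁
      have h2 : QuasiCompact m₂ := by
        have : QuasiSeparatedSpace ↥(pullback (Vs.obj (op i₀)).hom (u k ≫ f)) :=
          Groth.EtaleBase.EtLimit.quasiSeparatedSpace_bc' (u k ≫ f) Vs _
        exact quasiCompact_of_compactSpace m₂
      exact IsCompact.inter_of_isOpen (QuasiCompact.isCompact_preimage (f := m₁) _ (E₀ j).isOpen (hE₀c j))
        (QuasiCompact.isCompact_preimage (f := m₂) _ (E₀ k).isOpen (hE₀c k))
        (m₁ ⁻¹ᵁ E₀ j).isOpen (m₂ ⁻¹ᵁ E₀ k).isOpen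
    have hle : pi _ (gP j k) i₀ ⁻¹ᵁ G ≤ pi _ (gP j k) i₀ ⁻¹ᵁ B := by
      rintro (e : ↥(pullback (gP j k) σ)) ⟨h1, h2⟩
      let e1 : pullback (gP j k) σ ⟶ pullback (u j ≫ f) σ :=
        pullback.lift (pullback.fst _ _ ≫ pullback.fst _ _) (pullback.snd _ _) (by
          simp only [gP, Category.assoc]
          exact pullback.condition)
      let e2 : pullback (gP j k) σ ⟶ pullback (u k ≫ f) σ :=
        pullback.lift (pullback.fst _ _ ≫ pullback.snd _ _) (pullback.snd _ _) (by
          rw [Category.assoc, hgP]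
          exact pullback.condition)
      let κ : pullback (gP j k) σ ⟶ pullback (uT j) (uT k) := pullback.lift e1 e2 (by
        apply pullback.hom_ext
        · simp [e1, e2, uT, mb, pullback.condition]
        · simp [e1, e2, uT, mb])
      have c1 : e1 ≫ pi _ (u j ≫ f) i₀ = pi _ (gP j k) i₀ ≫ m₁ :=
        bp_mv (pullback.fst (u j) (u k)) (u j ≫ f) rfl _ _ _
      have c2 : e2 ≫ pi _ (u k ≫ f) i₀ = pi _ (gP j k) i₀ ≫ m₂ :=
        bp_mv (pullback.snd (u j) (u k)) (u k ≫ f) (hgP j k) _ _ _
      have k1 : e1 e ∈ D₁ j := by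
        rw [← hE₀ j]
        show pi _ (u j ≫ f) i₀ (e1 e) ∈ E₀ j
        rw [← Scheme.Hom.comp_apply, c1]; exact h1
      have k2 : e2 e ∈ D₁ k := by
        rw [← hE₀ k]
        show pi _ (u k ≫ f) i₀ (e2 e) ∈ E₀ k
        rw [← Scheme.Hom.comp_apply, c2]; exact h2
      have k3 : toU j k (κ e) ∈ A j k := by
        refine hD₀A j k (κ e) (hD₁le j ?_) (hD₁le k ?_)
        · rw [← Scheme.Hom.comp_apply, pullback.lift_fst]; exact k1
        · rw [← Scheme.Hom.comp_apply, pullback.lift_snd]; exact k2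
      have c3 : κ ≫ toU j k = pullback.fst (gP j k) σ := by
        apply pullback.hom_ext <;> simp [κ, e1, e2, toU]
      have c4 : pi _ (gP j k) i₀ ≫ pullback.snd (Vs.obj (op i₀)).hom (gP j k) = pullback.fst (gP j k) σ :=
        bp_snd _ _ _
      show (pi _ (gP j k) i₀ ≫ pullback.snd (Vs.obj (op i₀)).hom (gP j k)) e ∈ A j k
      rw [c4, ← c3, Scheme.Hom.comp_apply]
      exact k3
    obtain ⟨⟨i⟩, a, ha⟩ := exists_map_preimage_le_map_preimage F cP hcP hG hle
    refine ⟨i, leOfHom a.unop, fun q h1 h2 => ?_⟩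
    have hq : tr _ (gP j k) (leOfHom a.unop) q ∈ G := by
      refine ⟨?_, ?_⟩
      · show m₁ (tr _ (gP j k) (leOfHom a.unop) q) ∈ E₀ j
        rw [← Scheme.Hom.comp_apply, hmv (pullback.fst (u j) (u k)) (u j ≫ f) (gP j k) rfl (leOfHom a.unop),
          Scheme.Hom.comp_apply]
        exact h1
      · show m₂ (tr _ (gP j k) (leOfHom a.unop) q) ∈ E₀ k
        rw [← Scheme.Hom.comp_apply, hmv (pullback.snd (u j) (u k)) (u k ≫ f) (gP j k) (hgP j k) (leOfHom a.unop),
          Scheme.Hom.comp_apply]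
        exact h2
    have hB : pullback.snd _ (gP j k) (tr _ (gP j k) (leOfHom a.unop) q) ∈ A j k := by
      have ea : F.map a = tr _ (gP j k) (leOfHom a.unop) := htr _ (gP j k) (leOfHom a.unop)
      have hq' : q ∈ F.map a ⁻¹ᵁ G := by rw [ea]; exact hq
      have := ha hq'
      rw [ea] at this
      exact this
    have esnd : tr _ (gP j k) (leOfHom a.unop) ≫ pullback.snd _ (gP j k) = pullback.snd _ (gP j k) :=
      pullback.lift_snd _ _ _
    rwa [← Scheme.Hom.comp_apply, esnd] at hB
  choose ip hip hP using hpairs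
  obtain ⟨i', hi'⟩ := Finite.exists_le ip
  obtain ⟨i, hii', hii₀⟩ := exists_ge_ge i' i₀
  let D : ∀ j, (pullback (Vs.obj (op i)).hom (u j ≫ f)).Opens := fun j => tr _ _ hii₀ ⁻¹ᵁ E₀ j
  let V := Vs.obj (op i)
  have hpairV : ∀ (j k : ι) (q : ↥(pullback (mv (u j) f V.hom rfl) (mv (u k) f V.hom rfl))),
      pullback.fst (mv (u j) f V.hom rfl) (mv (u k) f V.hom rfl) q ∈ D j →
      pullback.snd (mv (u j) f V.hom rfl) (mv (u k) f V.hom rfl) q ∈ D k →
      pullback.map (mv (u j) f V.hom rfl) (mv (u k) f V.hom rfl) (u j) (u k) (pullback.snd _ _)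
        (pullback.snd _ _) (pullback.snd _ _) (pullback.lift_snd _ _ _) (pullback.lift_snd _ _ _) q ∈ A j k := by
    intro j k q h1 h2
    let μ : pullback (mv (u j) f V.hom rfl) (mv (u k) f V.hom rfl) ⟶ pullback V.hom (gP j k) :=
      pullback.lift (pullback.fst _ _ ≫ pullback.fst _ _)
        (pullback.map (mv (u j) f V.hom rfl) (mv (u k) f V.hom rfl) (u j) (u k) (pullback.snd _ _)
          (pullback.snd _ _) (pullback.snd _ _) (pullback.lift_snd _ _ _) (pullback.lift_snd _ _ _)) (by
        simp [gP, pullback.condition])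
    have c1 : μ ≫ mv (pullback.fst (u j) (u k)) (u j ≫ f) V.hom rfl = pullback.fst _ _ := by
      apply pullback.hom_ext <;> simp [μ, mv]
    have c2 : μ ≫ mv (pullback.snd (u j) (u k)) (u k ≫ f) V.hom (hgP j k) = pullback.snd _ _ := by
      have e := congrArg (· ≫ pullback.fst V.hom f)
        (pullback.condition (f := mv (u j) f V.hom rfl) (g := mv (u k) f V.hom rfl))
      simp [mv] at e
      apply pullback.hom_ext <;> simp [μ, mv, e]
    have hjk : ip (j, k) ≤ i := (hi' (j, k)).trans hii'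
    let q' := tr _ (gP j k) hjk (μ q)
    have hsnd : pullback.snd _ (gP j k) q' =
        pullback.map (mv (u j) f V.hom rfl) (mv (u k) f V.hom rfl) (u j) (u k) (pullback.snd _ _)
          (pullback.snd _ _) (pullback.snd _ _) (pullback.lift_snd _ _ _) (pullback.lift_snd _ _ _) q := by
      have e1 : tr _ (gP j k) hjk ≫ pullback.snd _ (gP j k) = pullback.snd _ (gP j k) :=
        pullback.lift_snd _ _ _
      rw [← Scheme.Hom.comp_apply, e1, ← Scheme.Hom.comp_apply, pullback.lift_snd]
    rw [← hsnd]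
    have htt : ∀ (M : Scheme.{u}) (g : M ⟶ S),
        tr M g hjk ≫ tr M g (hip (j, k)) = tr M g hii₀ := fun M g => by
      rw [← htr, ← htr, ← htr]
      exact ((schemes (Vs ⋙ EtCoh.bc g)).map_comp (homOfLE hjk).op (homOfLE (hip (j, k))).op).symm
    refine hP (j, k) q' ?_ ?_
    · show tr _ _ (hip (j, k)) (mv (pullback.fst (u j) (u k)) (u j ≫ f) _ rfl (tr _ (gP j k) hjk (μ q))) ∈ E₀ j
      rw [← Scheme.Hom.comp_apply (tr _ (gP j k) hjk), hmv (pullback.fst (u j) (u k)) (u j ≫ f) (gP j k) rfl hjk,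
        Scheme.Hom.comp_apply, ← Scheme.Hom.comp_apply μ, c1, ← Scheme.Hom.comp_apply, htt]
      exact h1
    · show tr _ _ (hip (j, k)) (mv (pullback.snd (u j) (u k)) (u k ≫ f) _ (hgP j k) (tr _ (gP j k) hjk (μ q))) ∈ E₀ k
      rw [← Scheme.Hom.comp_apply (tr _ (gP j k) hjk),
        hmv (pullback.snd (u j) (u k)) (u k ≫ f) (gP j k) (hgP j k) hjk,
        Scheme.Hom.comp_apply, ← Scheme.Hom.comp_apply μ, c2, ← Scheme.Hom.comp_apply, htt]
      exact h2
  -- the fibre
  have hO : ∀ j, ∀ o ∈ O j, fibreLift f η u V (tt i) j o ∈ D j := by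
    intro j o ho
    let r : pullback (u j) (pullback.fst f η) ⟶ pullback (u j ≫ f) σ := ofO j ≫ pullback.fst (uT j) h
    have hr : r o ∈ D₁ j := by
      rw [Scheme.Hom.comp_apply]
      exact hD₁O j ⟨_, show toO j (ofO j o) ∈ O j by rw [← Scheme.Hom.comp_apply, hofOid]; exact ho, rfl⟩
    rw [← hE₀ j] at hr
    have e : r ≫ pi _ (u j ≫ f) i = fibreLift f η u V (tt i) j := by
      have a1 : r ≫ pullback.snd (u j ≫ f) σ =
          pullback.snd _ _ ≫ pullback.snd f η ≫ Spec.map (CommRingCat.ofHom ρ) := by simp [r, ofO]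
      have a2 : r ≫ pullback.fst (u j ≫ f) σ = pullback.fst _ _ := by simp [r, ofO]
      apply pullback.hom_ext
      · refine (Category.assoc _ _ _).trans ((congrArg (r ≫ ·) (bp_fst _ _ _)).trans
          ((Category.assoc _ _ _).symm.trans ((congrArg (· ≫ lc.π.app (op i)) a1).trans ?_)))
        refine ((Category.assoc _ _ _).trans (congrArg (_ ≫ ·) ((Category.assoc _ _ _).trans
          (congrArg (_ ≫ ·) (hρπ i))))).trans ?_
        exact (pullback.lift_fst _ _ _).symm
      · exact (Category.assoc _ _ _).trans ((congrArg (r ≫ ·) (bp_snd _ _ _)).trans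
          (a2.trans (pullback.lift_snd _ _ _).symm))
    show tr _ _ hii₀ (fibreLift f η u V (tt i) j o) ∈ E₀ j
    rw [← e, ← Scheme.Hom.comp_apply, Category.assoc, Scheme.Hom.comp_apply]
    exact Set.mem_of_eq_of_mem (congrArg (fun (m : pullback (u j ≫ f) σ ⟶ _) => m (r o)) (hpw _ (u j ≫ f) hii₀)) hr
  let M : Set ↥(pullback V.hom f) := ⋃ j, mv (u j) f V.hom rfl '' (D j : Set _)
  have hMo : IsOpen M := by
    refine isOpen_iUnion fun j => ?_
    have hpb : IsPullback (pullback.snd V.hom (u j ≫ f)) (mv (u j) f V.hom rfl) (u j)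
        (pullback.snd V.hom f) := by
      refine IsPullback.of_bot ?_ (pullback.lift_snd _ _ _).symm (IsPullback.of_hasPullback V.hom f).flip
      simp only [mv, pullback.lift_fst]
      exact (IsPullback.of_hasPullback V.hom (u j ≫ f)).flip
    have : Etale (mv (u j) f V.hom rfl) := MorphismProperty.of_isPullback hpb inferInstance
    exact (mv (u j) f V.hom rfl).isOpenMap _ (D j).isOpen
  let fV := pullback.fst V.hom f
  have hfib : ∀ x, fV x = fiberPoint η (tt i) → x ∈ M := by
    intro x hx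
    obtain ⟨z, hz₁, -⟩ := Scheme.Pullback.exists_preimage_pullback
      (f := fV) (g := (tt i).left) x (default : Spec (CommRingCat.of Ω)) hx
    let m : pullback fV (tt i).left ⟶ pullback f η :=
      pullback.lift (pullback.fst _ _ ≫ pullback.snd _ _) (pullback.snd _ _) (by
        rw [Category.assoc, ← pullback.condition (f := V.hom), ← Category.assoc, pullback.condition,
          Category.assoc]
        exact congrArg (_ ≫ ·) (Over.w (tt i)))
    obtain ⟨j, o, ho, hoy⟩ := hOcov (m z)
    refine Set.mem_iUnion.2 ⟨j, _, hO j o ho, ?_⟩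
    let lη : pullback f η ⟶ pullback V.hom f :=
      pullback.lift (pullback.snd f η ≫ (tt i).left) (pullback.fst f η) (by
        rw [Category.assoc]
        exact (congrArg (_ ≫ ·) (Over.w (tt i))).trans pullback.condition.symm)
    have e1 : fibreLift f η u V (tt i) j ≫ mv (u j) f V.hom rfl = pullback.snd _ _ ≫ lη := by
      apply pullback.hom_ext <;> simp [fibreLift, mv, lη, pullback.condition]
    have e2 : m ≫ lη = pullback.fst fV (tt i).left := by
      apply pullback.hom_ext
      · simp [m, lη]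
        exact pullback.condition.symm
      · simp [m, lη]
    rw [← Scheme.Hom.comp_apply, e1, Scheme.Hom.comp_apply, hoy, ← Scheme.Hom.comp_apply, e2, hz₁]
  -- shrink
  let W : V.left.Opens := ⟨(fV '' Mᶜ)ᶜ, (fV.isClosedMap _ hMo.isClosed_compl).isOpen_compl⟩
  have hW : fiberPoint η (tt i) ∈ W := by
    rintro ⟨x, hx, hxt⟩
    exact hx (hfib x hxt)
  obtain ⟨t', ht'⟩ := exists_openLift η (tt i) W hW
  let V' := openObj V W
  let β : ∀ {N : Scheme.{u}} (g : N ⟶ S), pullback V'.hom g ⟶ pullback V.hom g := fun g =>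
    pullback.map V'.hom g V.hom g (openHom V W).left (𝟙 _) (𝟙 _)
      (by rw [Category.comp_id]; exact (Over.w (openHom V W).hom).symm) (by simp)
  have hβ : ∀ j, β (u j ≫ f) ≫ mv (u j) f V.hom rfl = mv (u j) f V'.hom rfl ≫ β f := fun j => by
    apply pullback.hom_ext <;> simp [β, mv]
  have hβinj : Function.Injective (β f) := by
    have hpb : IsPullback (β f) (pullback.fst V'.hom f) (pullback.fst V.hom f) (openHom V W).left := by
      refine (IsPullback.of_bot (h₁₁ := pullback.fst V'.hom f) (v₁₁ := β f) (v₁₂ := (openHom V W).left)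
        (h₂₁ := pullback.fst V.hom f) (v₂₁ := pullback.snd V.hom f) (v₂₂ := V.hom) (h₃₁ := f) ?_ ?_
        (IsPullback.of_hasPullback V.hom f)).flip
      · have h1 : β f ≫ pullback.snd V.hom f = pullback.snd V'.hom f := by simp [β]
        rw [h1]
        exact IsPullback.of_hasPullback V'.hom f
      · simp [β]
    exact fun a b hab => by
      have : IsOpenImmersion (openHom V W).left := inferInstanceAs (IsOpenImmersion W.ι)
      have : IsOpenImmersion (β f) := MorphismProperty.of_isPullback hpb.flip this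
      exact (β f).isOpenEmbedding.injective hab
  refine ⟨V', t', fun j => β (u j ≫ f) ⁻¹ᵁ D j, ?_, ?_, ?_⟩
  · intro x
    have hx : β f x ∈ M := by
      by_contra hn
      have h1 : fV (β f x) ∈ W := by
        rw [← Scheme.Hom.comp_apply, pullback.lift_fst, Scheme.Hom.comp_apply]
        exact (pullback.fst V'.hom f x).2
      exact h1 ⟨_, hn, rfl⟩
    obtain ⟨j, d, hd, hdx⟩ := Set.mem_iUnion.1 hx |>.imp fun j hj => hj
    obtain ⟨z, hz₁, hz₂⟩ := Scheme.Pullback.exists_preimage_pullback
      (f := mv (u j) f V.hom rfl) (g := β f) d x hdx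
    let m : pullback (mv (u j) f V.hom rfl) (β f) ⟶ pullback V'.hom (u j ≫ f) :=
      pullback.lift (pullback.snd _ _ ≫ pullback.fst _ _) (pullback.fst _ _ ≫ pullback.snd _ _) (by
        have e := congrArg (· ≫ pullback.snd V.hom f) (pullback.condition (f := mv (u j) f V.hom rfl) (g := β f))
        have e' : pullback.fst (mv (u j) f V.hom rfl) (β f) ≫ pullback.snd V.hom (u j ≫ f) ≫ u j =
            pullback.snd (mv (u j) f V.hom rfl) (β f) ≫ pullback.snd V'.hom f := by simpa [mv, β] using e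
        have e'' := congrArg (· ≫ f) e'
        simp only [Category.assoc] at e'' ⊢
        refine Eq.trans ?_ e''.symm
        exact congrArg (pullback.snd (mv (u j) f V.hom rfl) (β f) ≫ ·) pullback.condition)
    have e1 : m ≫ β (u j ≫ f) = pullback.fst _ _ := by
      have e := congrArg (· ≫ pullback.fst V.hom f) (pullback.condition (f := mv (u j) f V.hom rfl) (g := β f))
      apply pullback.hom_ext
      · have e' : pullback.snd (mv (u j) f V.hom rfl) (β f) ≫ pullback.fst V'.hom f ≫ (openHom V W).left =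
            pullback.fst (mv (u j) f V.hom rfl) (β f) ≫ pullback.fst V.hom (u j ≫ f) := by
          simpa [mv, β] using e.symm
        simp only [m, β, Category.assoc, pullback.lift_fst, pullback.lift_fst_assoc]
        exact e'
      · simp [m, β]
    refine ⟨j, m z, ?_, hβinj ?_⟩
    · show β (u j ≫ f) (m z) ∈ D j
      rw [← Scheme.Hom.comp_apply, e1, hz₁]; exact hd
    · rw [← Scheme.Hom.comp_apply, ← hβ, Scheme.Hom.comp_apply, ← Scheme.Hom.comp_apply m, e1, hz₁, hdx]
  · intro j o ho
    have e : fibreLift f η u V' t' j ≫ β (u j ≫ f) = fibreLift f η u V (tt i) j := by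
      have et : t'.left ≫ (openHom V W).left = (tt i).left := congrArg CommaMorphism.left ht'
      apply pullback.hom_ext
      · simp only [fibreLift, β, Category.assoc, pullback.lift_fst, pullback.lift_fst_assoc]
        exact congrArg (pullback.snd (u j) (pullback.fst f η) ≫ pullback.snd f η ≫ ·) et
      · simp [fibreLift, β]
    show β (u j ≫ f) (fibreLift f η u V' t' j o) ∈ D j
    rw [← Scheme.Hom.comp_apply, e]
    exact hO j o ho
  · intro j k q h1 h2
    let m : pullback (mv (u j) f V'.hom rfl) (mv (u k) f V'.hom rfl) ⟶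
        pullback (mv (u j) f V.hom rfl) (mv (u k) f V.hom rfl) :=
      pullback.map _ _ _ _ (β (u j ≫ f)) (β (u k ≫ f)) (β f) (hβ j).symm (hβ k).symm
    have h3 := hpairV j k (m q)
      (by rw [← Scheme.Hom.comp_apply, pullback.lift_fst, Scheme.Hom.comp_apply]; exact h1)
      (by rw [← Scheme.Hom.comp_apply, pullback.lift_snd, Scheme.Hom.comp_apply]; exact h2)
    rw [← Scheme.Hom.comp_apply] at h3
    have em : m ≫ pullback.map (mv (u j) f V.hom rfl) (mv (u k) f V.hom rfl) (u j) (u k) (pullback.snd _ _)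
          (pullback.snd _ _) (pullback.snd _ _) (pullback.lift_snd _ _ _) (pullback.lift_snd _ _ _) =
        pullback.map (mv (u j) f V'.hom rfl) (mv (u k) f V'.hom rfl) (u j) (u k) (pullback.snd _ _)
          (pullback.snd _ _) (pullback.snd _ _) (pullback.lift_snd _ _ _) (pullback.lift_snd _ _ _) := by
      apply pullback.hom_ext <;> simp [m, β]
    rwa [em] at h3

end Groth.EtaleShriek.BCStage
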