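import Groth.Agent.EtaleShriek.BCStage

/-!
Agreeing opens descend to an étale neighbourhood, for affine étale schemes over the preimage of an
affine open of the base.
-/

set_option autoImplicit false

universe u

open CategoryTheory CategoryTheory.Limits AlgebraicGeometry Opposite TopologicalSpace

namespace Groth.EtaleShriek.BCStageLocal

open Groth.EtaleShriek.BCStage (mv fibreLift exists_nbhd_opens)

attribute [local simp] pullback.lift_fst pullback.lift_snd pullback.lift_fst_assoc pullback.lift_snd_assoc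

variable {X S : Scheme.{u}} (f : X ⟶ S) {Ω : Type u} [Field Ω] [IsAlgClosed Ω]
  (η : Spec (CommRingCat.of Ω) ⟶ S) {ι : Type u} {U : ι → Scheme.{u}} (u : ∀ j, U j ⟶ X)
  (A : ∀ j k, (pullback (u j) (u k)).Opens) (O : ∀ j, (pullback (u j) (pullback.fst f η)).Opens)

/-- **Descent of agreeing opens**, local form. -/
theorem exists_nbhd_opens_local [IsProper f] [Finite ι] [∀ j, Etale (u j)] [∀ j, IsAffine (U j)]
    (S₀ : S.Opens) (hS₀ : IsAffineOpen S₀) (hη : η default ∈ S₀) (hU : ∀ j (v : U j), f (u j v) ∈ S₀)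
    (hOc : ∀ j, IsCompact (O j : Set ↥(pullback (u j) (pullback.fst f η))))
    (htrans : ∀ (j k l : ι) (q : ↥(pullback (pullback.snd (u j) (u k)) (pullback.fst (u k) (u l)))),
      pullback.fst (pullback.snd (u j) (u k)) (pullback.fst (u k) (u l)) q ∈ A j k →
        pullback.snd (pullback.snd (u j) (u k)) (pullback.fst (u k) (u l)) q ∈ A k l →
          Criterion.p13 u j k l q ∈ A j l)
    (hsymm : ∀ (j k : ι) (p : ↥(pullback (u j) (u k))), p ∈ A j k →
      (pullbackSymmetry (u j) (u k)).hom p ∈ A k j)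
    (hOA : ∀ (j k : ι) (d : ↥(pullback (pullback.snd (u j) (pullback.fst f η))
        (pullback.snd (u k) (pullback.fst f η)))),
      pullback.fst (pullback.snd (u j) (pullback.fst f η)) (pullback.snd (u k) (pullback.fst f η)) d ∈ O j →
      pullback.snd (pullback.snd (u j) (pullback.fst f η)) (pullback.snd (u k) (pullback.fst f η)) d ∈ O k →
        Criterion.pairY (pullback.fst f η) u j k d ∈ A j k)
    (hOcov : ∀ y, ∃ j, ∃ o ∈ O j, pullback.snd (u j) (pullback.fst f η) o = y) :
    ∃ (V : S.Etale) (t : (Scheme.pointSmallEtale η).fiber.obj V)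
      (D : ∀ j, (pullback V.hom (u j ≫ f)).Opens),
      (∀ x : ↥(pullback V.hom f), ∃ j, ∃ d ∈ D j, mv (u j) f V.hom rfl d = x) ∧
      (∀ j, ∀ o ∈ O j, fibreLift f η u V t j o ∈ D j) ∧
      ∀ (j k : ι) (q : ↥(pullback (mv (u j) f V.hom rfl) (mv (u k) f V.hom rfl))),
        pullback.fst (mv (u j) f V.hom rfl) (mv (u k) f V.hom rfl) q ∈ D j →
        pullback.snd (mv (u j) f V.hom rfl) (mv (u k) f V.hom rfl) q ∈ D k →
        pullback.map (mv (u j) f V.hom rfl) (mv (u k) f V.hom rfl) (u j) (u k) (pullback.snd _ _)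
          (pullback.snd _ _) (pullback.snd _ _) (pullback.lift_snd _ _ _) (pullback.lift_snd _ _ _) q ∈ A j k := by
  have : IsAffine (S₀ : Scheme.{u}) := hS₀
  let f₀ := f ∣_ S₀
  let ιX := (f ⁻¹ᵁ S₀).ι
  have hX₀f : f₀ ≫ S₀.ι = ιX ≫ f := morphismRestrict_ι f S₀
  have hηr : Set.range η ⊆ Set.range S₀.ι := by
    rintro _ ⟨a, rfl⟩
    rw [Scheme.Opens.range_ι, Subsingleton.elim a default]
    exact hη
  let η₀ := IsOpenImmersion.lift S₀.ι η hηr
  have hη₀ : η₀ ≫ S₀.ι = η := IsOpenImmersion.lift_fac _ _ _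
  have hur : ∀ j, Set.range (u j) ⊆ Set.range ιX := by
    rintro j _ ⟨a, rfl⟩
    rw [Scheme.Opens.range_ι]
    exact hU j a
  let u₀ : ∀ j, U j ⟶ (f ⁻¹ᵁ S₀ : Scheme.{u}) := fun j => IsOpenImmersion.lift ιX (u j) (hur j)
  have hu₀ : ∀ j, u₀ j ≫ ιX = u j := fun j => IsOpenImmersion.lift_fac _ _ _
  have hu₀f : ∀ j, u₀ j ≫ f₀ ≫ S₀.ι = u j ≫ f := fun j => by
    rw [hX₀f, ← Category.assoc, hu₀]
  have : ∀ j, Etale (u₀ j) := fun j => by
    have : Etale (u₀ j ≫ ιX) := by rw [hu₀]; infer_instance
    exact Etale.of_comp (u₀ j) ιX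
  have : CompactSpace ↥(S₀ : Scheme.{u}) := inferInstance
  have : QuasiSeparatedSpace ↥(f ⁻¹ᵁ S₀ : Scheme.{u}) := quasiSeparatedSpace_of_quasiSeparated f₀
  have : ∀ j, QuasiCompact (u₀ j) := fun j => quasiCompact_of_compactSpace (u₀ j)
  have : IsProper f₀ := inferInstance
  have : ∀ j, IsSeparated (u₀ j) := fun j => inferInstance
  let cm : ∀ j k, pullback (u₀ j) (u₀ k) ⟶ pullback (u j) (u k) := fun j k =>
    pullback.map _ _ _ _ (𝟙 _) (𝟙 _) ιX (by rw [hu₀, Category.id_comp]) (by rw [hu₀, Category.id_comp])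
  let mη : pullback f₀ η₀ ⟶ pullback f η :=
    pullback.map _ _ _ _ ιX (𝟙 _) S₀.ι hX₀f (by rw [hη₀, Category.id_comp])
  let co : ∀ j, pullback (u₀ j) (pullback.fst f₀ η₀) ⟶ pullback (u j) (pullback.fst f η) := fun j =>
    pullback.map _ _ _ _ (𝟙 _) mη ιX (by rw [hu₀, Category.id_comp]) (pullback.lift_fst _ _ _).symm
  let co' : ∀ j, pullback (u j) (pullback.fst f η) ⟶ pullback (u₀ j) (pullback.fst f₀ η₀) := fun j =>
    pullback.lift (pullback.fst _ _)
      (pullback.lift (pullback.fst _ _ ≫ u₀ j) (pullback.snd _ _ ≫ pullback.snd f η) (by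
        rw [← cancel_mono S₀.ι]
        simp only [Category.assoc, hη₀, hu₀f]
        rw [pullback.condition_assoc, pullback.condition]))
      (pullback.lift_fst _ _ _).symm
  have hco : ∀ j, co' j ≫ co j = 𝟙 _ := fun j => by
    apply pullback.hom_ext
    · simp [co, co']
    · apply pullback.hom_ext
      · simp [co, co', mη, hu₀, pullback.condition]
      · simp [co, co', mη]
  have hco' : ∀ j, co j ≫ co' j = 𝟙 _ := fun j => by
    apply pullback.hom_ext
    · simp [co, co']
    · apply pullback.hom_ext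
      · simp [co, co', mη, pullback.condition]
      · simp [co, co', mη]
  obtain ⟨V₀, t₀, D₀, hcov, hO, hA⟩ := exists_nbhd_opens f₀ η₀ u₀ (fun j k => cm j k ⁻¹ᵁ A j k)
    (fun j => co j ⁻¹ᵁ O j)
    (fun j => by
      have e : ((co j ⁻¹ᵁ O j : _) : Set ↥(pullback (u₀ j) (pullback.fst f₀ η₀))) = co' j '' (O j : Set _) := by
        refine Set.Subset.antisymm (fun x hx => ⟨co j x, hx, ?_⟩) ?_
        · rw [← Scheme.Hom.comp_apply, hco']; rfl
        · rintro _ ⟨o, ho, rfl⟩
          show co j (co' j o) ∈ O j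
          rw [← Scheme.Hom.comp_apply, hco]
          exact ho
      rw [e]
      exact (hOc j).image (co' j).continuous)
    (fun j k l q h1 h2 => by
      let m : pullback (pullback.snd (u₀ j) (u₀ k)) (pullback.fst (u₀ k) (u₀ l)) ⟶
          pullback (pullback.snd (u j) (u k)) (pullback.fst (u k) (u l)) :=
        pullback.map _ _ _ _ (cm j k) (cm k l) (𝟙 _) (by simp [cm]) (by simp [cm])
      have e : m ≫ Criterion.p13 u j k l = Criterion.p13 u₀ j k l ≫ cm j l := by
        apply pullback.hom_ext <;> simp [m, Criterion.p13, cm]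
      show cm j l (Criterion.p13 u₀ j k l q) ∈ A j l
      rw [← Scheme.Hom.comp_apply, ← e, Scheme.Hom.comp_apply]
      refine htrans j k l _ ?_ ?_
      · rw [← Scheme.Hom.comp_apply, pullback.lift_fst, Scheme.Hom.comp_apply]; exact h1
      · rw [← Scheme.Hom.comp_apply, pullback.lift_snd, Scheme.Hom.comp_apply]; exact h2)
    (fun j k p hp => by
      have e : (pullbackSymmetry (u₀ j) (u₀ k)).hom ≫ cm k j = cm j k ≫ (pullbackSymmetry (u j) (u k)).hom := by
        apply pullback.hom_ext <;> simp [cm]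
      show cm k j ((pullbackSymmetry (u₀ j) (u₀ k)).hom p) ∈ A k j
      rw [← Scheme.Hom.comp_apply, e, Scheme.Hom.comp_apply]
      exact hsymm j k _ hp)
    (fun j k d h1 h2 => by
      let m : pullback (pullback.snd (u₀ j) (pullback.fst f₀ η₀)) (pullback.snd (u₀ k) (pullback.fst f₀ η₀)) ⟶
          pullback (pullback.snd (u j) (pullback.fst f η)) (pullback.snd (u k) (pullback.fst f η)) :=
        pullback.map _ _ _ _ (co j) (co k) mη (pullback.lift_snd _ _ _).symm (pullback.lift_snd _ _ _).symm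
      have e : m ≫ Criterion.pairY (pullback.fst f η) u j k = Criterion.pairY (pullback.fst f₀ η₀) u₀ j k ≫ cm j k := by
        apply pullback.hom_ext <;> simp [m, Criterion.pairY, cm, co]
      show cm j k (Criterion.pairY (pullback.fst f₀ η₀) u₀ j k d) ∈ A j k
      rw [← Scheme.Hom.comp_apply, ← e, Scheme.Hom.comp_apply]
      refine hOA j k _ ?_ ?_
      · rw [← Scheme.Hom.comp_apply, pullback.lift_fst, Scheme.Hom.comp_apply]; exact h1
      · rw [← Scheme.Hom.comp_apply, pullback.lift_snd, Scheme.Hom.comp_apply]; exact h2)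
    (fun y => by
      obtain ⟨j, o, ho, hoy⟩ := hOcov (mη y)
      refine ⟨j, co' j o, ?_, ?_⟩
      · show co j (co' j o) ∈ O j
        rw [← Scheme.Hom.comp_apply, hco]; exact ho
      · let mη' : pullback f η ⟶ pullback f₀ η₀ :=
          pullback.lift (IsOpenImmersion.lift ιX (pullback.fst f η) (by
            rintro _ ⟨a, rfl⟩
            rw [Scheme.Opens.range_ι]
            show f (pullback.fst f η a) ∈ S₀
            rw [← Scheme.Hom.comp_apply, pullback.condition, Scheme.Hom.comp_apply,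
              Subsingleton.elim (pullback.snd f η a) default]
            exact hη)) (pullback.snd f η) (by
            rw [← cancel_mono S₀.ι]
            simp only [Category.assoc, hη₀, hX₀f, IsOpenImmersion.lift_fac_assoc, pullback.condition])
        have e : mη ≫ mη' = 𝟙 _ := by
          apply pullback.hom_ext
          · rw [← cancel_mono ιX]
            simp [mη, mη', IsOpenImmersion.lift_fac]
          · simp [mη, mη']
        have e1 : co' j ≫ pullback.snd (u₀ j) (pullback.fst f₀ η₀) = pullback.snd _ _ ≫ mη' := by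
          apply pullback.hom_ext
          · rw [← cancel_mono ιX]
            simp [co', mη', hu₀, IsOpenImmersion.lift_fac, pullback.condition]
          · simp [co', mη']
        rw [← Scheme.Hom.comp_apply, e1, Scheme.Hom.comp_apply, hoy, ← Scheme.Hom.comp_apply, e]
        rfl)
  have : Etale V₀.hom := V₀.prop
  let V : S.Etale := Scheme.Etale.mk (V₀.hom ≫ S₀.ι)
  let t : (Scheme.pointSmallEtale η).fiber.obj V := Over.homMk t₀.left
    ((Category.assoc _ _ _).symm.trans ((congrArg (· ≫ S₀.ι) (Over.w t₀)).trans hη₀))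
  let δ : ∀ j, pullback V.hom (u j ≫ f) ⟶ pullback V₀.hom (u₀ j ≫ f₀) := fun j =>
    pullback.lift (pullback.fst _ _) (pullback.snd _ _) (by
      rw [← cancel_mono S₀.ι]
      simp only [Category.assoc, hu₀f]
      exact pullback.condition)
  let δf : pullback V.hom f ⟶ pullback V₀.hom f₀ :=
    pullback.lift (pullback.fst _ _) (IsOpenImmersion.lift ιX (pullback.snd V.hom f) (by
      rintro _ ⟨a, rfl⟩
      rw [Scheme.Opens.range_ι]
      show f (pullback.snd V.hom f a) ∈ S₀
      rw [← Scheme.Hom.comp_apply, ← pullback.condition, Scheme.Hom.comp_apply]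
      exact (V₀.hom _).2)) (by
      rw [← cancel_mono S₀.ι]
      simp only [Category.assoc, hX₀f, IsOpenImmersion.lift_fac_assoc]
      exact pullback.condition)
  have hδmv : ∀ j, δ j ≫ mv (u₀ j) f₀ V₀.hom rfl = mv (u j) f V.hom rfl ≫ δf := fun j => by
    apply pullback.hom_ext
    · simp [δ, δf, mv]
      exact (pullback.lift_fst _ _ _).symm
    · rw [← cancel_mono ιX]
      simp [δ, δf, mv, hu₀, IsOpenImmersion.lift_fac]
  have hδf : Function.Injective δf := by
    let back : pullback V₀.hom f₀ ⟶ pullback V.hom f :=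
      pullback.lift (pullback.fst _ _) (pullback.snd _ _ ≫ ιX) (by
        rw [Category.assoc, ← hX₀f]
        exact pullback.condition_assoc S₀.ι)
    have e : δf ≫ back = 𝟙 _ := by
      apply pullback.hom_ext
      · simp [δf, back]
        exact pullback.lift_fst _ _ _
      · simp [δf, back, IsOpenImmersion.lift_fac]
    intro a b hab
    have := congrArg back hab
    rwa [← Scheme.Hom.comp_apply, ← Scheme.Hom.comp_apply, e] at this
  refine ⟨V, t, fun j => δ j ⁻¹ᵁ D₀ j, fun x => ?_, fun j o ho => ?_, fun j k q h1 h2 => ?_⟩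
  · obtain ⟨j, d, hd, hdx⟩ := hcov (δf x)
    let δ' : pullback V₀.hom (u₀ j ≫ f₀) ⟶ pullback V.hom (u j ≫ f) :=
      pullback.lift (pullback.fst _ _) (pullback.snd _ _) (by
        rw [← hu₀f j, ← Category.assoc (u₀ j)]
        exact pullback.condition_assoc S₀.ι)
    have e : δ' ≫ δ j = 𝟙 _ := by
      apply pullback.hom_ext
      · simp [δ, δ']
        exact pullback.lift_fst _ _ _
      · simp [δ, δ']
    refine ⟨j, δ' d, ?_, hδf ?_⟩
    · show δ j (δ' d) ∈ D₀ j
      rw [← Scheme.Hom.comp_apply, e]; exact hd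
    · rw [← Scheme.Hom.comp_apply, ← hδmv, ← Scheme.Hom.comp_apply, ← Category.assoc, e, Category.id_comp]
      exact hdx
  · have e : fibreLift f η u V t j ≫ δ j = co' j ≫ fibreLift f₀ η₀ u₀ V₀ t₀ j := by
      have et : t.left = t₀.left := rfl
      apply pullback.hom_ext
      · simp only [fibreLift, δ, co', Category.assoc, pullback.lift_fst, pullback.lift_fst_assoc,
          pullback.lift_snd_assoc, et]
        exact pullback.lift_fst _ _ _
      · simp [fibreLift, δ, co']
    show δ j (fibreLift f η u V t j o) ∈ D₀ j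
    rw [← Scheme.Hom.comp_apply, e, Scheme.Hom.comp_apply]
    refine hO j _ ?_
    show co j (co' j o) ∈ O j
    rw [← Scheme.Hom.comp_apply, hco]; exact ho
  · let m : pullback (mv (u j) f V.hom rfl) (mv (u k) f V.hom rfl) ⟶
        pullback (mv (u₀ j) f₀ V₀.hom rfl) (mv (u₀ k) f₀ V₀.hom rfl) :=
      pullback.map _ _ _ _ (δ j) (δ k) δf (hδmv j).symm (hδmv k).symm
    have h3 := hA j k (m q)
      (by rw [← Scheme.Hom.comp_apply, pullback.lift_fst, Scheme.Hom.comp_apply]; exact h1)
      (by rw [← Scheme.Hom.comp_apply, pullback.lift_snd, Scheme.Hom.comp_apply]; exact h2)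
    have em : m ≫ pullback.map (mv (u₀ j) f₀ V₀.hom rfl) (mv (u₀ k) f₀ V₀.hom rfl) (u₀ j) (u₀ k)
          (pullback.snd _ _) (pullback.snd _ _) (pullback.snd _ _) (pullback.lift_snd _ _ _)
          (pullback.lift_snd _ _ _) ≫ cm j k =
        pullback.map (mv (u j) f V.hom rfl) (mv (u k) f V.hom rfl) (u j) (u k) (pullback.snd _ _)
          (pullback.snd _ _) (pullback.snd _ _) (pullback.lift_snd _ _ _) (pullback.lift_snd _ _ _) := by
      apply pullback.hom_ext <;> simp [m, δ, cm]
    rw [← em, Scheme.Hom.comp_apply, Scheme.Hom.comp_apply]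
    exact h3

end Groth.EtaleShriek.BCStageLocal
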