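import Groth.Agent.EtaleShriek.Sheaf
import Groth.Agent.EtaleBase.RpushExact
import Groth.Prelude.Def_EtBC2

/-!
`f_!` as the subsheaf of `f_*` of sections with proper support: sections, lifting, left exactness.
-/

set_option autoImplicit false

universe u

open CategoryTheory CategoryTheory.Limits AlgebraicGeometry Opposite

namespace Groth.EtaleShriek

variable {X Y : Scheme.{u}} (f : X ⟶ Y) [LocallyOfFiniteType f]

/-- The unit from sections with proper support to `f_!`. -/
noncomputable abbrev toShriek (F : EtCoh.Ab X) :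
    EtShriek.lowerShriekPre f F ⟶ ((EtShriek.lowerShriek f).obj F).obj :=
  (sheafificationAdjunction Y.smallEtaleTopology AddCommGrpCat.{u + 1}).unit.app (EtShriek.lowerShriekPre f F)

omit [LocallyOfFiniteType f] in
set_option backward.isDefEq.respectTransparency.types false in
lemma toShriek_toPush (F : EtCoh.Ab X) :
    toShriek f F ≫ (EtShriek.lowerShriekToPush f F).hom = EtShriek.lowerShriekPreι f F :=
  (((sheafificationAdjunction Y.smallEtaleTopology AddCommGrpCat.{u + 1}).homEquiv_unit _ _ _).symm.trans
    (Equiv.apply_symm_apply _ _) :)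

instance isIso_toShriek (F : EtCoh.Ab X) : IsIso (toShriek f F) :=
  isIso_toSheafify _ (isSheaf_lowerShriekPre f F)

lemma toShriek_bijective (F : EtCoh.Ab X) (V : Y.Etale) :
    Function.Bijective ((toShriek f F).app (op V)) :=
  ConcreteCategory.bijective_of_isIso _

lemma toPush_toShriek_apply (F : EtCoh.Ab X) (V : Y.Etale) (a : (EtShriek.lowerShriekPre f F).obj (op V)) :
    (EtShriek.lowerShriekToPush f F).hom.app (op V) ((toShriek f F).app (op V) a) = a.1 :=
  ConcreteCategory.congr_hom (NatTrans.congr_app (toShriek_toPush f F) (op V)) a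

lemma toPush_injective (F : EtCoh.Ab X) (V : Y.Etale) :
    Function.Injective ((EtShriek.lowerShriekToPush f F).hom.app (op V)) := by
  intro a b h
  obtain ⟨a, rfl⟩ := (toShriek_bijective f F V).2 a
  obtain ⟨b, rfl⟩ := (toShriek_bijective f F V).2 b
  rw [toPush_toShriek_apply, toPush_toShriek_apply] at h
  rw [Subtype.ext h]

lemma exists_toPush_eq_iff (F : EtCoh.Ab X) (V : Y.Etale) (s : EtCoh.sect F ((EtCoh.bc f).obj V)) :
    (∃ a, (EtShriek.lowerShriekToPush f F).hom.app (op V) a = s) ↔ PS f F V s := by
  rw [← mem_shriekSubgroup]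
  constructor
  · rintro ⟨a, rfl⟩
    obtain ⟨a, rfl⟩ := (toShriek_bijective f F V).2 a
    rw [toPush_toShriek_apply]
    exact a.2
  · intro hs
    exact ⟨(toShriek f F).app (op V) ⟨s, hs⟩, toPush_toShriek_apply f F V ⟨s, hs⟩⟩

lemma ps_toPush (F : EtCoh.Ab X) (V : Y.Etale) (a : ((EtShriek.lowerShriek f).obj F).obj.obj (op V)) :
    PS f F V ((EtShriek.lowerShriekToPush f F).hom.app (op V) a) :=
  (exists_toPush_eq_iff f F V _).1 ⟨a, rfl⟩

instance mono_toPush (F : EtCoh.Ab X) : Mono (EtShriek.lowerShriekToPush f F) := by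
  have : ∀ V, Mono ((EtShriek.lowerShriekToPush f F).hom.app V) := fun V =>
    (AddCommGrpCat.mono_iff_injective _).2 (toPush_injective f F V.unop)
  have : Mono (EtShriek.lowerShriekToPush f F).hom := NatTrans.mono_of_mono_app _
  exact (sheafToPresheaf _ _).mono_of_mono_map this

set_option backward.isDefEq.respectTransparency.types false in
lemma toPush_naturality {F G : EtCoh.Ab X} (α : F ⟶ G) :
    (EtShriek.lowerShriek f).map α ≫ EtShriek.lowerShriekToPush f G =
      EtShriek.lowerShriekToPush f F ≫ (EtCoh.push f).map α := by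
  refine ObjectProperty.hom_ext _ ((cancel_epi (toShriek f F)).1 ?_)
  change toShriek f F ≫ ((EtShriek.lowerShriek f).map α).hom ≫ (EtShriek.lowerShriekToPush f G).hom =
    toShriek f F ≫ (EtShriek.lowerShriekToPush f F).hom ≫ ((EtCoh.push f).map α).hom
  have hn : toShriek f F ≫ ((EtShriek.lowerShriek f).map α).hom =
      (EtShriek.lowerShriekPreFunctor f).map α ≫ toShriek f G :=
    ((sheafificationAdjunction Y.smallEtaleTopology AddCommGrpCat.{u + 1}).unit.naturality
      ((EtShriek.lowerShriekPreFunctor f).map α)).symm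
  erw [← Category.assoc, hn, Category.assoc, toShriek_toPush, ← Category.assoc, toShriek_toPush]
  ext V t
  rfl

/-- `f_! ⟶ f_*`. -/
noncomputable def toPushNat : EtShriek.lowerShriek f ⟶ EtCoh.push f where
  app F := EtShriek.lowerShriekToPush f F
  naturality _ _ α := toPush_naturality f α

section lift

variable {G : EtCoh.Ab Y} {F : EtCoh.Ab X} (α : G ⟶ (EtCoh.push f).obj F)
  (hα : ∀ (V : Y.Etale) (t : G.obj.obj (op V)), PS f F V (α.hom.app (op V) t))

/-- The presheaf form of `liftShriek`. -/
noncomputable def liftPre : G.obj ⟶ EtShriek.lowerShriekPre f F where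
  app V := AddCommGrpCat.ofHom ((α.hom.app V).hom.codRestrict (EtShriek.shriekSubgroup f F V.unop)
    fun t => (mem_shriekSubgroup f F V.unop _).2 (hα V.unop t))
  naturality V W g := by
    ext t
    exact Subtype.ext (NatTrans.naturality_apply α.hom g t)

/-- A morphism to `f_*` with values having proper support factors through `f_!`. -/
noncomputable def liftShriek : G ⟶ (EtShriek.lowerShriek f).obj F :=
  ⟨liftPre f α hα ≫ toShriek f F⟩

lemma liftShriek_toPush : liftShriek f α hα ≫ EtShriek.lowerShriekToPush f F = α := by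
  refine ObjectProperty.hom_ext _ ?_
  change (liftPre f α hα ≫ toShriek f F) ≫ (EtShriek.lowerShriekToPush f F).hom = α.hom
  rw [Category.assoc, toShriek_toPush]
  ext V t
  rfl

end lift

instance additive_lowerShriek : (EtShriek.lowerShriek f).Additive where
  map_add {F G α β} := by
    rw [← cancel_mono (EtShriek.lowerShriekToPush f G), Preadditive.add_comp, toPush_naturality,
      toPush_naturality, toPush_naturality, Functor.map_add, Preadditive.comp_add]

/-- Maps into `f_!` killed by the image of `S.g` factor through the image of `S.f`. -/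
lemma exists_lift_kernel (S : ShortComplex (EtCoh.Ab X)) [Mono S.f] [Mono (S.map (EtCoh.push f)).f]
    (hP : (S.map (EtCoh.push f)).Exact) {A : EtCoh.Ab Y} (k : A ⟶ (EtShriek.lowerShriek f).obj S.X₂)
    (hk : k ≫ (EtShriek.lowerShriek f).map S.g = 0) :
    ∃ l : A ⟶ (EtShriek.lowerShriek f).obj S.X₁, l ≫ (EtShriek.lowerShriek f).map S.f = k := by
  have h0 : (k ≫ EtShriek.lowerShriekToPush f S.X₂) ≫ (EtCoh.push f).map S.g = 0 := by
    rw [Category.assoc, ← toPush_naturality, ← Category.assoc, hk, zero_comp]
  let w : A ⟶ (EtCoh.push f).obj S.X₁ := hP.lift (k ≫ EtShriek.lowerShriekToPush f S.X₂) h0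
  have hw : w ≫ (EtCoh.push f).map S.f = k ≫ EtShriek.lowerShriekToPush f S.X₂ := hP.lift_f _ _
  have hps : ∀ (V : Y.Etale) (t : A.obj.obj (op V)), PS f S.X₁ V (w.hom.app (op V) t) := by
    intro V t
    have e : S.f.hom.app (op ((EtCoh.bc f).obj V)) (w.hom.app (op V) t) =
        (EtShriek.lowerShriekToPush f S.X₂).hom.app (op V) (k.hom.app (op V) t) :=
      ConcreteCategory.congr_hom (congrArg (fun m => m.hom.app (op V)) hw) t
    have hp := ps_toPush f S.X₂ V (k.hom.app (op V) t)
    rw [PS, ← e, sectSupp_app S.f] at hp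
    exact hp
  refine ⟨liftShriek f w hps, ?_⟩
  rw [← cancel_mono (EtShriek.lowerShriekToPush f S.X₂), Category.assoc, toPush_naturality,
    ← Category.assoc, liftShriek_toPush, hw]

/-- `f_!` is left exact. -/
theorem preservesFiniteLimits_lowerShriek : PreservesFiniteLimits (EtShriek.lowerShriek f) := by
  rw [((Functor.preservesFiniteLimits_tfae (EtShriek.lowerShriek f)).out 3 1 :)]
  intro S ⟨hS, hmono⟩
  have := hmono
  let ιs := EtShriek.lowerShriekToPush f
  obtain ⟨hP, hPm⟩ := ((Functor.preservesFiniteLimits_tfae (EtCoh.push f)).out 3 1 :).1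
    (inferInstance) S ⟨hS, hmono⟩
  have : Mono ((S.map (EtCoh.push f)).f) := hPm
  have hm : Mono ((S.map (EtShriek.lowerShriek f)).f) := by
    change Mono ((EtShriek.lowerShriek f).map S.f)
    have : Mono ((EtShriek.lowerShriek f).map S.f ≫ ιs S.X₂) := by
      rw [toPush_naturality]
      have : Mono ((EtCoh.push f).map S.f) := hPm
      infer_instance
    exact mono_of_mono _ (ιs S.X₂)
  refine ⟨?_, hm⟩
  apply ShortComplex.exact_of_f_is_kernel
  exact KernelFork.IsLimit.ofι' _ _ fun {A} k hk =>
    ⟨(exists_lift_kernel f S hP k hk).choose, (exists_lift_kernel f S hP k hk).choose_spec⟩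

end Groth.EtaleShriek
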