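import Groth.Agent.EtaleShriek.Basic
import Groth.Agent.EtaleBase.DisjointGlue
import Groth.Agent.EtaleBase.BaseChange0
import Groth.Agent.S0788

/-!
Composition of `f_!`.
-/

set_option autoImplicit false

universe u

open CategoryTheory CategoryTheory.Limits AlgebraicGeometry Opposite

namespace Groth.EtaleShriek

namespace ProperOver

variable {A B W : Scheme.{u}}

theorem isClosed {f : A ⟶ B} {Z : Set A} (h : ClSub.IsProperOver f Z) : IsClosed Z := h.1

theorem isClosed_image (q : A ⟶ B) [LocallyOfFiniteType q] {Z : Set A} (h : ClSub.IsProperOver q Z) :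
    IsClosed (q.base '' Z) :=
  (Groth.Agent.S0788.result q (𝟙 B) q (Category.comp_id q) Z h).1

/-- Properness over a composite. -/
theorem comp_iff (q : A ⟶ B) (r : B ⟶ W) [LocallyOfFiniteType q] [LocallyOfFiniteType r] [IsSeparated r]
    (Z : Set A) :
    ClSub.IsProperOver (q ≫ r) Z ↔
      ClSub.IsProperOver q Z ∧ ClSub.IsProperOver r (q.base '' Z) := by
  constructor
  · intro h
    refine ⟨?_, Groth.Agent.S0788.result (q ≫ r) r q rfl Z h⟩
    have hc := h.1
    let I := Scheme.IdealSheafData.vanishingIdeal (⟨Z, hc⟩ : TopologicalSpace.Closeds A)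
    have hp : IsProper ((I.subschemeι ≫ q) ≫ r) := by rw [Category.assoc]; exact h.2
    exact ⟨hc, IsProper.of_comp (I.subschemeι ≫ q) r⟩
  · rintro ⟨⟨hc, hp⟩, hc', hp'⟩
    let i := (Scheme.IdealSheafData.vanishingIdeal (⟨Z, hc⟩ : TopologicalSpace.Closeds A)).subschemeι
    let j := (Scheme.IdealSheafData.vanishingIdeal
      (⟨q.base '' Z, hc'⟩ : TopologicalSpace.Closeds B)).subschemeι
    have hi : Set.range i = Z := by
      rw [Scheme.IdealSheafData.range_subschemeι, Scheme.IdealSheafData.coe_support_vanishingIdeal]; rfl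
    have hj : Set.range j = q.base '' Z := by
      rw [Scheme.IdealSheafData.range_subschemeι, Scheme.IdealSheafData.coe_support_vanishingIdeal]; rfl
    have : IsProper (i ≫ q) := hp
    have : IsProper (j ≫ r) := hp'
    have : IsClosedImmersion (pullback.fst (i ≫ q) j ≫ i) := inferInstance
    have hr : Set.range (pullback.fst (i ≫ q) j ≫ i) = Z := by
      refine subset_antisymm ?_ fun x hx => ?_
      · rintro _ ⟨y, rfl⟩
        rw [Scheme.Hom.comp_apply]
        exact hi.le ⟨_, rfl⟩
      · obtain ⟨t, rfl⟩ := hi.ge hx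
        obtain ⟨y, rfl⟩ := (Scheme.Pullback.range_fst (i ≫ q) j).ge
          (show t ∈ (i ≫ q).base ⁻¹' Set.range j from
            hj.ge ⟨i.base t, hx, (Scheme.Hom.comp_apply _ _ _).symm⟩)
        exact ⟨y, Scheme.Hom.comp_apply _ _ _⟩
    refine (iff_isProper (q ≫ r) hc _ hr).2 ?_
    have e : (pullback.fst (i ≫ q) j ≫ i) ≫ q ≫ r = pullback.snd (i ≫ q) j ≫ j ≫ r := by
      rw [← Category.assoc, ← Category.assoc, ← pullback.condition]
      simp only [Category.assoc]
    rw [e]
    infer_instance

end ProperOver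

variable {X Y Z : Scheme.{u}}

set_option backward.isDefEq.respectTransparency.types false in
lemma mem_sectSupp_push (f : X ⟶ Y) (F : EtCoh.Ab X) (V : Y.Etale) (s : EtCoh.sect F ((EtCoh.bc f).obj V)) :
    (EtShriek.prV f V).base '' EtShriek.sectSupp F ((EtCoh.bc f).obj V) s ⊆
      EtShriek.sectSupp ((EtCoh.push f).obj F) V s := by
  rintro _ ⟨x, hx, rfl⟩ W k ⟨w, hw⟩ hz
  obtain ⟨z, hz1, -⟩ := Scheme.Pullback.exists_preimage_pullback (f := EtShriek.prV f V) (g := k.left) x w hw.symm
  refine ((map_eq_zero_iff F ((EtCoh.bc f).map k) s).1 hz).le_bot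
    (show x ∈ _ ⊓ _ from ⟨⟨(EtCoh.isPullback_bc_map f k).isoPullback.inv.base z, ?_⟩, hx⟩)
  rw [← hz1, ← Scheme.Hom.comp_apply, (EtCoh.isPullback_bc_map f k).isoPullback_inv_fst]

set_option backward.isDefEq.respectTransparency.types false in
lemma sectSupp_push_eq (f : X ⟶ Y) (F : EtCoh.Ab X) (V : Y.Etale) (s : EtCoh.sect F ((EtCoh.bc f).obj V))
    (hc : IsClosed ((EtShriek.prV f V).base '' EtShriek.sectSupp F ((EtCoh.bc f).obj V) s)) :
    EtShriek.sectSupp ((EtCoh.push f).obj F) V s =
      (EtShriek.prV f V).base '' EtShriek.sectSupp F ((EtCoh.bc f).obj V) s := by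
  refine subset_antisymm (fun y hy => ?_) (mem_sectSupp_push f F V s)
  by_contra hy'
  let U : V.left.Opens := ⟨_, hc.isOpen_compl⟩
  refine hy (Groth.EtaleBase.openObj V U) (Groth.EtaleBase.openHom V U) ⟨⟨y, hy'⟩, rfl⟩ ?_
  refine (map_eq_zero_iff F ((EtCoh.bc f).map (Groth.EtaleBase.openHom V U)) s).2 ?_
  rw [Set.disjoint_left]
  rintro _ ⟨p, rfl⟩ hp
  have hu := ((EtShriek.prV f (Groth.EtaleBase.openObj V U)).base p).2
  refine hu ⟨_, hp, ?_⟩
  rw [← Scheme.Hom.comp_apply]
  erw [(EtCoh.isPullback_bc_map f (Groth.EtaleBase.openHom V U)).w, Scheme.Hom.comp_apply]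
  rfl

variable (h : X ⟶ Y) (g : Y ⟶ Z)

/-- The comparison of the base change along a composite with the iterated base change. -/
noncomputable abbrev bcComp (W : Z.Etale) :
    (EtCoh.bc (h ≫ g)).obj W ≅ (EtCoh.bc h).obj ((EtCoh.bc g).obj W) :=
  (MorphismProperty.Over.pullbackComp (P := EtCoh.etaleMP) (Q := ⊤) h g).app W

set_option backward.isDefEq.respectTransparency.types false in
lemma bcComp_prV (W : Z.Etale) :
    (bcComp h g W).hom.left ≫ EtShriek.prV h ((EtCoh.bc g).obj W) ≫ EtShriek.prV g W =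
      EtShriek.prV (h ≫ g) W :=
  MorphismProperty.Over.pullbackComp_left_fst_fst (P := EtCoh.etaleMP) (Q := ⊤) h g W

variable [LocallyOfFiniteType h] [LocallyOfFiniteType g] [IsSeparated g]

instance isSeparated_prV (W : Z.Etale) : IsSeparated (EtShriek.prV g W) :=
  inferInstanceAs (IsSeparated (pullback.fst W.hom g))

omit [IsSeparated g] in
set_option backward.isDefEq.respectTransparency.types false in
lemma ps_comp_iff (F : EtCoh.Ab X) (W : Z.Etale)
    (s : EtCoh.sect F ((EtCoh.bc h).obj ((EtCoh.bc g).obj W))) :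
    PS (h ≫ g) F W (F.obj.map (bcComp h g W).hom.op s) ↔
      ClSub.IsProperOver (EtShriek.prV h ((EtCoh.bc g).obj W) ≫ EtShriek.prV g W)
        (EtShriek.sectSupp F ((EtCoh.bc h).obj ((EtCoh.bc g).obj W)) s) := by
  let m := (bcComp h g W).hom.left
  have : IsIso m := ⟨(bcComp h g W).inv.left,
    congrArg (fun k => k.left) (bcComp h g W).hom_inv_id,
    congrArg (fun k => k.left) (bcComp h g W).inv_hom_id⟩
  rw [PS, sectSupp_map]
  constructor
  · intro hp
    have h2 := ProperOver.preimage (EtShriek.prV (h ≫ g) W) (g := 𝟙 W.left) (g' := inv m)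
      (f' := EtShriek.prV h ((EtCoh.bc g).obj W) ≫ EtShriek.prV g W)
      (IsPullback.of_horiz_isIso ⟨by rw [IsIso.inv_comp_eq, Category.comp_id]; exact (bcComp_prV h g W).symm⟩) hp
    rwa [← Set.preimage_comp, show (m.base ∘ (inv m).base) = id from funext fun x => by
      rw [Function.comp_apply, ← Scheme.Hom.comp_apply, IsIso.inv_hom_id]; rfl, Set.preimage_id] at h2
  · exact ProperOver.preimage (EtShriek.prV h ((EtCoh.bc g).obj W) ≫ EtShriek.prV g W) (g := 𝟙 W.left)
      (g' := m) (f' := EtShriek.prV (h ≫ g) W)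
      (IsPullback.of_horiz_isIso ⟨by rw [Category.comp_id]; exact bcComp_prV h g W⟩)

/-- The map from the iterated `!`-image to the direct image along the composite. -/
noncomputable def compToPush (F : EtCoh.Ab X) :
    (EtShriek.lowerShriek g).obj ((EtShriek.lowerShriek h).obj F) ⟶ (EtCoh.push (h ≫ g)).obj F :=
  (EtShriek.lowerShriek g).map (EtShriek.lowerShriekToPush h F) ≫
    EtShriek.lowerShriekToPush g ((EtCoh.push h).obj F) ≫ (EtCoh.pushComp g h).hom.app F

instance mono_compToPush (F : EtCoh.Ab X) : Mono (compToPush h g F) := by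
  have := preservesFiniteLimits_lowerShriek g
  unfold compToPush
  infer_instance

omit [IsSeparated g] in
set_option backward.isDefEq.respectTransparency.types false in
lemma compToPush_app (F : EtCoh.Ab X) (W : Z.Etale)
    (a : ((EtShriek.lowerShriek g).obj ((EtShriek.lowerShriek h).obj F)).obj.obj (op W)) :
    (compToPush h g F).hom.app (op W) a = F.obj.map (bcComp h g W).hom.op
      ((EtShriek.lowerShriekToPush h F).hom.app (op ((EtCoh.bc g).obj W))
        ((EtShriek.lowerShriekToPush g ((EtShriek.lowerShriek h).obj F)).hom.app (op W) a)) := by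
  have e : compToPush h g F = EtShriek.lowerShriekToPush g ((EtShriek.lowerShriek h).obj F) ≫
      (EtCoh.push g).map (EtShriek.lowerShriekToPush h F) ≫ (EtCoh.pushComp g h).hom.app F := by
    unfold compToPush
    rw [← Category.assoc, toPush_naturality, Category.assoc]
  rw [e]
  exact ConcreteCategory.congr_hom (Groth.EtaleBase.pushComp_hom_app g h F W) _

/-- The values of `compToPush` are the sections with support proper over the base. -/
lemma exists_compToPush_eq_iff (F : EtCoh.Ab X) (W : Z.Etale)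
    (s : EtCoh.sect F ((EtCoh.bc (h ≫ g)).obj W)) :
    (∃ a, (compToPush h g F).hom.app (op W) a = s) ↔ PS (h ≫ g) F W s := by
  obtain ⟨s, rfl⟩ : ∃ s', F.obj.map (bcComp h g W).hom.op s' = s :=
    (ConcreteCategory.bijective_of_isIso (F.obj.map (bcComp h g W).hom.op)).2 s
  rw [ps_comp_iff, ProperOver.comp_iff]
  have hinj := (ConcreteCategory.bijective_of_isIso (F.obj.map (bcComp h g W).hom.op)).1
  constructor
  · rintro ⟨a, ha⟩
    rw [compToPush_app] at ha
    obtain rfl := hinj ha
    have h1 := ps_toPush h F _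
      ((EtShriek.lowerShriekToPush g ((EtShriek.lowerShriek h).obj F)).hom.app (op W) a)
    refine ⟨h1, ?_⟩
    have h2 := ps_toPush g ((EtShriek.lowerShriek h).obj F) W a
    rw [PS, ← sectSupp_app (EtShriek.lowerShriekToPush h F),
      sectSupp_push_eq h F _ _ (ProperOver.isClosed_image _ h1)] at h2
    exact h2
  · rintro ⟨h1, h2⟩
    obtain ⟨u, rfl⟩ := (exists_toPush_eq_iff h F _ s).2 h1
    have hu : PS g ((EtShriek.lowerShriek h).obj F) W u := by
      rw [PS, ← sectSupp_app (EtShriek.lowerShriekToPush h F),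
        sectSupp_push_eq h F _ _ (ProperOver.isClosed_image _ h1)]
      exact h2
    obtain ⟨a, rfl⟩ := (exists_toPush_eq_iff g _ W u).2 hu
    exact ⟨a, compToPush_app h g F W a⟩

/-- The comparison map. -/
noncomputable def compHom (F : EtCoh.Ab X) :
    (EtShriek.lowerShriek g).obj ((EtShriek.lowerShriek h).obj F) ⟶ (EtShriek.lowerShriek (h ≫ g)).obj F :=
  liftShriek (h ≫ g) (compToPush h g F) fun W t => (exists_compToPush_eq_iff h g F W _).1 ⟨t, rfl⟩

lemma compHom_toPush (F : EtCoh.Ab X) :
    compHom h g F ≫ EtShriek.lowerShriekToPush (h ≫ g) F = compToPush h g F :=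
  liftShriek_toPush _ _ _

instance isIso_compHom (F : EtCoh.Ab X) : IsIso (compHom h g F) := by
  have hinj : ∀ W, Function.Injective ((compToPush h g F).hom.app (op W)) := fun W => by
    have : Mono (compToPush h g F).hom := inferInstanceAs (Mono ((sheafToPresheaf _ _).map (compToPush h g F)))
    exact (AddCommGrpCat.mono_iff_injective _).1 inferInstance
  have e : ∀ W a, (EtShriek.lowerShriekToPush (h ≫ g) F).hom.app (op W) ((compHom h g F).hom.app (op W) a) =
      (compToPush h g F).hom.app (op W) a := fun W a =>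
    ConcreteCategory.congr_hom (congrArg (fun m => m.hom.app (op W)) (compHom_toPush h g F)) a
  have : ∀ V, IsIso ((compHom h g F).hom.app V) := fun ⟨W⟩ => by
    refine (ConcreteCategory.isIso_iff_bijective _).2 ⟨fun a b hab => hinj W ?_, fun b => ?_⟩
    · rw [← e W a, ← e W b, hab]
    · obtain ⟨a, ha⟩ := (exists_compToPush_eq_iff h g F W _).2 (ps_toPush (h ≫ g) F W b)
      exact ⟨a, toPush_injective (h ≫ g) F W ((e W a).trans ha)⟩
  have : IsIso ((sheafToPresheaf _ _).map (compHom h g F)) := NatIso.isIso_of_isIso_app (compHom h g F).hom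
  exact isIso_of_reflects_iso _ (sheafToPresheaf _ _)

/-- `compToPush` as a natural transformation. -/
noncomputable def compToPushNat :
    EtShriek.lowerShriek h ⋙ EtShriek.lowerShriek g ⟶ EtCoh.push (h ≫ g) :=
  Functor.whiskerRight (toPushNat h) (EtShriek.lowerShriek g) ≫
    Functor.whiskerLeft (EtCoh.push h) (toPushNat g) ≫ (EtCoh.pushComp g h).hom

/-- `(h ≫ g)_! ≅ h_! ⋙ g_!`. -/
noncomputable def compIso :
    EtShriek.lowerShriek (h ≫ g) ≅ EtShriek.lowerShriek h ⋙ EtShriek.lowerShriek g :=
  (NatIso.ofComponents (fun F => asIso (compHom h g F)) fun {F G} α => by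
    rw [← cancel_mono (EtShriek.lowerShriekToPush (h ≫ g) G)]
    simp only [asIso_hom, Category.assoc]
    rw [compHom_toPush, toPush_naturality, ← Category.assoc (compHom h g F), compHom_toPush]
    exact (compToPushNat h g).naturality α).symm

lemma compIso_hom_app (F : EtCoh.Ab X) :
    (compIso h g).hom.app F = inv (compHom h g F) := rfl

theorem existsUnique_compIso :
    ∃! φ : EtShriek.lowerShriek (h ≫ g) ≅ EtShriek.lowerShriek h ⋙ EtShriek.lowerShriek g,
      ∀ F : EtCoh.Ab X,
        φ.hom.app F ≫ (EtShriek.lowerShriek g).map (EtShriek.lowerShriekToPush h F) ≫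
            EtShriek.lowerShriekToPush g ((EtCoh.push h).obj F) =
          EtShriek.lowerShriekToPush (h ≫ g) F ≫ (EtCoh.pushComp g h).inv.app F := by
  have key : ∀ F, (compIso h g).hom.app F ≫ compToPush h g F = EtShriek.lowerShriekToPush (h ≫ g) F := by
    intro F
    rw [compIso_hom_app, IsIso.inv_comp_eq, compHom_toPush]
  refine ⟨compIso h g, fun F => ?_, fun φ hφ => Iso.ext (NatTrans.ext (funext fun F => ?_))⟩
  · rw [← key F]
    unfold compToPush
    simp
  · rw [← cancel_mono (compToPush h g F), key F]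
    unfold compToPush
    rw [← Category.assoc ((EtShriek.lowerShriek g).map _), ← Category.assoc, hφ F]
    simp

end Groth.EtaleShriek
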