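import Mathlib.CategoryTheory.Limits.Constructions.Filtered
import Mathlib.CategoryTheory.Limits.Preserves.Shapes.Products

/-!
Functors preserving finite coproducts and filtered colimits preserve coproducts.
-/

set_option autoImplicit false
set_option backward.isDefEq.respectTransparency false
set_option backward.defeqAttrib.useBackward true

universe w v₁ v₂ u₁ u₂

open CategoryTheory CategoryTheory.Limits

namespace Groth.EtaleShriek.Coproducts

variable {C : Type u₁} [Category.{v₁} C] {D : Type u₂} [Category.{v₂} D] (G : C ⥤ D)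
  [HasFiniteCoproducts C] [HasFiniteCoproducts D] [PreservesFiniteCoproducts G] (α : Type w)
  [HasColimitsOfShape (Finset (Discrete α)) C] [HasColimitsOfShape (Discrete α) C]
  [HasColimitsOfShape (Discrete α) D] [PreservesColimitsOfShape (Finset (Discrete α)) G]

open CoproductsFromFiniteFiltered in
theorem isIso_sigmaComparison (f : α → C) : IsIso (sigmaComparison G f) := by
  classical
  let hc := isColimitOfPreserves G (isColimitFiniteSubproductsCocone f)
  let e : ∀ S : Finset (Discrete α),
      (∐ fun x : S => G.obj (f x.val.as)) ≅ G.obj (∐ fun x : S => f x.val.as) := fun S =>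
    asIso (sigmaComparison G fun x : S => f x.val.as)
  have he : ∀ (S : Finset (Discrete α)) (x : S),
      G.map (Sigma.ι (fun x : S => f x.val.as) x) ≫ (e S).inv =
        Sigma.ι (fun x : S => G.obj (f x.val.as)) x := fun S x => by
    rw [Iso.comp_inv_eq]
    exact (ι_comp_sigmaComparison _ _ x).symm
  let app : ∀ S : Finset (Discrete α),
      G.obj (∐ fun x : S => f x.val.as) ⟶ ∐ fun a => G.obj (f a) := fun S =>
    (e S).inv ≫ Sigma.desc fun x : S => Sigma.ι (fun a => G.obj (f a)) x.val.as
  have happ : ∀ (S : Finset (Discrete α)) (x : S),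
      G.map (Sigma.ι (fun x : S => f x.val.as) x) ≫ app S = Sigma.ι (fun a => G.obj (f a)) x.val.as :=
    fun S x => by simp only [app, ← Category.assoc, he, Sigma.ι_desc]
  let s : Cocone (liftToFinsetObj (Discrete.functor f) ⋙ G) :=
    { pt := ∐ fun a => G.obj (f a)
      ι :=
        { app := fun S => app S
          naturality := fun S T h => by
            refine Eq.trans ?_ (Category.comp_id _).symm
            refine (cancel_epi (e S).hom).1 (Sigma.hom_ext _ _ fun x => ?_)
            have h1 : Sigma.ι (fun x : S => G.obj (f x.val.as)) x ≫ (e S).hom =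
                G.map (Sigma.ι (fun x : S => f x.val.as) x) := ι_comp_sigmaComparison _ _ x
            erw [reassoc_of% h1, reassoc_of% h1]
            refine Eq.trans ?_ (happ S x).symm
            dsimp [liftToFinsetObj]
            rw [← G.map_comp_assoc, Sigma.ι_desc]
            exact happ T ⟨x.val, h.down.down x.2⟩ } }
  refine ⟨hc.desc s, Sigma.hom_ext _ _ fun a => ?_, hc.hom_ext fun S => ?_⟩
  · rw [← Category.assoc, ι_comp_sigmaComparison, Category.comp_id]
    have h2 : Sigma.ι f a = Sigma.ι (fun x : ({⟨a⟩} : Finset (Discrete α)) => f x.val.as)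
        ⟨⟨a⟩, by simp⟩ ≫ (finiteSubcoproductsCocone f).ι.app {⟨a⟩} := by
      simp [finiteSubcoproductsCocone]
    rw [h2, G.map_comp, Category.assoc]
    exact (congrArg (_ ≫ ·) (hc.fac s {⟨a⟩})).trans (happ {⟨a⟩} ⟨⟨a⟩, by simp⟩)
  · rw [← Category.assoc, hc.fac]
    refine Eq.trans ?_ (Category.comp_id _).symm
    refine (cancel_epi (e S).hom).1 (Sigma.hom_ext _ _ fun x => ?_)
    have h1 : Sigma.ι (fun x : S => G.obj (f x.val.as)) x ≫ (e S).hom =
        G.map (Sigma.ι (fun x : S => f x.val.as) x) := ι_comp_sigmaComparison _ _ x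
    erw [reassoc_of% h1, reassoc_of% h1]
    show G.map _ ≫ app S ≫ _ = _
    rw [← Category.assoc, happ, ι_comp_sigmaComparison]
    dsimp [finiteSubcoproductsCocone]
    rw [← G.map_comp, Sigma.ι_desc]

theorem preservesColimitsOfShape_discrete : PreservesColimitsOfShape (Discrete α) G :=
  ⟨fun {K} => by
    have := isIso_sigmaComparison G α (fun a => K.obj ⟨a⟩)
    have : PreservesColimit (Discrete.functor fun a => K.obj ⟨a⟩) G :=
      PreservesCoproduct.of_iso_comparison G _
    have : PreservesColimit (Discrete.functor (K.obj ∘ Discrete.mk)) G := this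
    exact preservesColimit_of_iso_diagram G Discrete.natIsoFunctor.symm⟩

end Groth.EtaleShriek.Coproducts
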