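import Groth.Agent.EtaleBase.NormalEtale
import Groth.Agent.EtaleBase.Sections
import Groth.Agent.EtaleShriek.GeomNormal
import Groth.Agent.SpectralTopology.Spectral

/-!
Gluing criterion for proper base change in degree zero, purely on the level of points: given étale
schemes over `T` with an agreement relation and a covering of `Y → T` by agreeing opens, there are
opens covering `T` that agree, provided every normalization of `T` at a geometric point has connected
pullback to `Y` and every point of `T` specializes to the image of `Y`.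
-/

set_option autoImplicit false

universe u

open CategoryTheory CategoryTheory.Limits AlgebraicGeometry TopologicalSpace Topology

namespace Groth.EtaleShriek.Criterion

open Groth.EtaleBase.NormalEt (existsUnique_generic mem_comp)

attribute [local simp] pullback.lift_fst pullback.lift_snd pullback.lift_fst_assoc pullback.lift_snd_assoc

/-- Lifts of a preimmersed field point along an etale map are determined by their image. -/
theorem lift_unique {X Z : Scheme.{u}} (f : X ⟶ Z) [Etale f] {Ω : Type u} [Field Ω]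
    (s : Spec (CommRingCat.of Ω) ⟶ Z) [IsPreimmersion s] {l l' : Spec (CommRingCat.of Ω) ⟶ X}
    (hl : l ≫ f = s) (hl' : l' ≫ f = s) (he : l default = l' default) : l = l' := by
  let m := pullback.lift l (𝟙 _) (by rw [hl, Category.id_comp])
  let m' := pullback.lift l' (𝟙 _) (by rw [hl', Category.id_comp])
  have hm : m default = m' default := by
    refine (pullback.fst f s).isEmbedding.injective ?_
    rw [← Scheme.Hom.comp_apply, ← Scheme.Hom.comp_apply, pullback.lift_fst, pullback.lift_fst]
    exact he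
  have e : m = m' := Groth.EtaleBase.section_eq_of_range_eq (pullback.snd f s) m m' (pullback.lift_snd _ _ _)
    (pullback.lift_snd _ _ _) (by
      refine Set.Subset.antisymm ?_ ?_ <;>
      · rintro _ ⟨a, rfl⟩
        exact ⟨default, by rw [Subsingleton.elim a default]; first | exact hm | exact hm.symm⟩)
  exact ((pullback.lift_fst _ _ _).symm.trans (congrArg (· ≫ pullback.fst f s) e)).trans (pullback.lift_fst _ _ _)

variable {T Y : Scheme.{u}} (h : Y ⟶ T) {ι : Type u} {U : ι → Scheme.{u}} (u : ∀ j, U j ⟶ T)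

/-- The map `(U_j ×_T Y) ×_Y (U_k ×_T Y) ⟶ U_j ×_T U_k`. -/
noncomputable def pairY (j k : ι) :
    pullback (pullback.snd (u j) h) (pullback.snd (u k) h) ⟶ pullback (u j) (u k) :=
  pullback.lift (pullback.fst _ _ ≫ pullback.fst _ _) (pullback.snd _ _ ≫ pullback.fst _ _) (by
    simp only [Category.assoc, pullback.condition]
    simp only [← Category.assoc, pullback.condition])

/-- The projection of the triple product to the outer factors. -/
noncomputable def p13 (j k l : ι) :
    pullback (pullback.snd (u j) (u k)) (pullback.fst (u k) (u l)) ⟶ pullback (u j) (u l) :=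
  pullback.lift (pullback.fst _ _ ≫ pullback.fst _ _) (pullback.snd _ _ ≫ pullback.snd _ _) (by
    simp only [Category.assoc, pullback.condition]
    rw [← pullback.condition (f := u k) (g := u l), ← Category.assoc, pullback.condition, Category.assoc])

variable (A : ∀ j k, (pullback (u j) (u k)).Opens) (O : ∀ j, (pullback (u j) h).Opens)
variable [∀ j, Etale (u j)] [∀ j, IsSeparated (u j)]

variable
  (htrans : ∀ (j k l : ι) (q : ↥(pullback (pullback.snd (u j) (u k)) (pullback.fst (u k) (u l)))),
    pullback.fst (pullback.snd (u j) (u k)) (pullback.fst (u k) (u l)) q ∈ A j k →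
      pullback.snd (pullback.snd (u j) (u k)) (pullback.fst (u k) (u l)) q ∈ A k l → p13 u j k l q ∈ A j l)
  (hOA : ∀ (j k : ι) (d : ↥(pullback (pullback.snd (u j) h) (pullback.snd (u k) h))),
    pullback.fst (pullback.snd (u j) h) (pullback.snd (u k) h) d ∈ O j →
      pullback.snd (pullback.snd (u j) h) (pullback.snd (u k) h) d ∈ O k → pairY h u j k d ∈ A j k)
  (hOcov : ∀ y : Y, ∃ j, ∃ o ∈ O j, pullback.snd (u j) h o = y)
  (hconn : ∀ (Z : Scheme.{u}) [IsIntegral Z] (p : Z ⟶ T) [IsIntegralHom p],
    PreconnectedSpace ↥(pullback p h))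

omit [∀ j, IsSeparated (u j)] in
include htrans hOA hOcov hconn in
/-- The points of two of the schemes specializing into the given opens agree. -/
theorem mem_of_specializes [QuasiSeparatedSpace T] (j k : ι) (p : ↥(pullback (u j) (u k)))
    (oj : ↥(pullback (u j) h)) (hoj : oj ∈ O j)
    (hpj : pullback.fst (u j) (u k) p ⤳ pullback.fst (u j) h oj)
    (ok : ↥(pullback (u k) h)) (hok : ok ∈ O k)
    (hpk : pullback.snd (u j) (u k) p ⤳ pullback.fst (u k) h ok) : p ∈ A j k := by
  obtain ⟨Z, _, pz, _, hN, hsep, hx⟩ :=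
    GeomNormal.exists_normal_cover ((pullback.fst (u j) (u k) ≫ u j) p)
  have hW : PreconnectedSpace ↥(pullback pz h) := hconn Z pz
  let s : Spec (CommRingCat.of Z.functionField) ⟶ Z := Z.fromSpecStalk (genericPoint Z)
  have hspre : IsPreimmersion s := inferInstanceAs (IsPreimmersion (Z.fromSpecStalk (genericPoint Z)))
  have hs : ∀ a, s a = genericPoint Z := fun a => by
    rw [Subsingleton.elim a (IsLocalRing.closedPoint _)]
    exact Scheme.fromSpecStalk_closedPoint
  let El : Type u := Σ l : ι, {a : Spec (CommRingCat.of Z.functionField) ⟶ U l // a ≫ u l = s ≫ pz}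
  let genp : ∀ a : El, ↥(pullback (u a.1) pz) := fun a => pullback.lift a.2.1 s a.2.2 default
  have hgen : ∀ a : El, pullback.snd (u a.1) pz (genp a) = genericPoint Z := fun a => by
    rw [← Scheme.Hom.comp_apply, pullback.lift_snd]; exact hs _
  let Rel : El → El → Prop := fun a b =>
    pullback.lift (f := u a.1) (g := u b.1) a.2.1 b.2.1 (a.2.2.trans b.2.2.symm) default ∈ A a.1 b.1
  have htr : ∀ a b c, Rel a b → Rel b c → Rel a c := by
    intro a b c hab hbc
    let t : Spec (CommRingCat.of Z.functionField) ⟶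
        pullback (pullback.snd (u a.1) (u b.1)) (pullback.fst (u b.1) (u c.1)) :=
      pullback.lift (pullback.lift a.2.1 b.2.1 (a.2.2.trans b.2.2.symm))
        (pullback.lift b.2.1 c.2.1 (b.2.2.trans c.2.2.symm)) (by rw [pullback.lift_snd, pullback.lift_fst])
    have h1 := htrans a.1 b.1 c.1 (t default)
      (by rw [← Scheme.Hom.comp_apply, pullback.lift_fst]; exact hab)
      (by rw [← Scheme.Hom.comp_apply, pullback.lift_snd]; exact hbc)
    have e : t ≫ p13 u a.1 b.1 c.1 = pullback.lift a.2.1 c.2.1 (a.2.2.trans c.2.2.symm) := by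
      apply pullback.hom_ext
      · rw [Category.assoc, p13, pullback.lift_fst, ← Category.assoc, pullback.lift_fst, pullback.lift_fst,
          pullback.lift_fst]
      · rw [Category.assoc, p13, pullback.lift_snd, ← Category.assoc, pullback.lift_snd, pullback.lift_snd,
          pullback.lift_snd]
    show _ ∈ A a.1 c.1
    rw [← e]
    exact h1
  -- the pieces over `Z ×_T Y`
  let π : pullback pz h ⟶ T := pullback.fst pz h ≫ pz
  let toZ : ∀ l, pullback (u l) π ⟶ pullback (u l) pz := fun l =>
    pullback.lift (pullback.fst _ _) (pullback.snd _ _ ≫ pullback.fst pz h)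
      (pullback.condition.trans (Category.assoc _ _ _).symm)
  let toY : ∀ l, pullback (u l) π ⟶ pullback (u l) h := fun l =>
    pullback.lift (pullback.fst _ _) (pullback.snd _ _ ≫ pullback.snd pz h)
      ((pullback.condition.trans (congrArg (pullback.snd (u l) π ≫ ·) pullback.condition)).trans
        (Category.assoc _ _ _).symm)
  let Val : ↥(pullback pz h) → El → Prop := fun w a =>
    ∃ e : ↥(pullback (u a.1) π), pullback.snd (u a.1) π e = w ∧ toY a.1 e ∈ O a.1 ∧ genp a ⤳ toZ a.1 e
  have hne : ∀ w, ∃ a, Val w a := by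
    intro w
    obtain ⟨l, o, ho, hoy⟩ := hOcov (pullback.snd pz h w)
    obtain ⟨t, ht₁, ht₂⟩ := Scheme.Pullback.exists_preimage_pullback
      (f := pullback.snd (u l) h) (g := pullback.snd pz h) o w hoy
    let m : pullback (pullback.snd (u l) h) (pullback.snd pz h) ⟶ pullback (u l) π :=
      pullback.lift (pullback.fst _ _ ≫ pullback.fst _ _) (pullback.snd _ _) (by
        simp only [π, Category.assoc, pullback.condition]
        simp only [← Category.assoc, pullback.condition])
    have hm : m ≫ toY l = pullback.fst _ _ := by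
      apply pullback.hom_ext
      · simp [m, toY]
      · simp only [m, toY, Category.assoc, pullback.lift_snd]
        rw [← Category.assoc, pullback.lift_snd, ← pullback.condition]
    obtain ⟨g, ⟨hg, hgs⟩, -⟩ := existsUnique_generic hN (pullback.snd (u l) pz) (toZ l (m t))
    obtain ⟨a, ha, hag⟩ := Scheme.exists_fac_of_etale_of_isSepClosed (pullback.snd (u l) pz) s g
      (hg.trans (hs _).symm)
    refine ⟨⟨l, a ≫ pullback.fst _ _, by rw [Category.assoc, pullback.condition, ← Category.assoc, ha]⟩,
      m t, ?_, ?_, ?_⟩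
    · rw [← Scheme.Hom.comp_apply, pullback.lift_snd]; exact ht₂
    · rw [← Scheme.Hom.comp_apply, hm, ht₁]; exact ho
    · have : pullback.lift (a ≫ pullback.fst (u l) pz) s (by
          rw [Category.assoc, pullback.condition, ← Category.assoc, ha]) = a := by
        apply pullback.hom_ext <;> simp [ha]
      show pullback.lift (a ≫ pullback.fst (u l) pz) s _ default ⤳ _
      rw [this, hag]
      exact hgs
  have hpair : ∀ w a b, Val w a → Val w b → Rel a b := by
    rintro w a b ⟨e, he, heO, hea⟩ ⟨e', he', heO', heb⟩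
    obtain ⟨d, hd₁, hd₂⟩ := Scheme.Pullback.exists_preimage_pullback
      (f := pullback.snd (u a.1) π) (g := pullback.snd (u b.1) π) e e' (he.trans he'.symm)
    let R := pullback (pullback.snd (u a.1) π) (pullback.snd (u b.1) π)
    let P := pullback (u a.1) (u b.1)
    let pP : P ⟶ T := pullback.fst _ _ ≫ u a.1
    let pairU : R ⟶ P := pullback.lift (pullback.fst _ _ ≫ pullback.fst _ _)
      (pullback.snd _ _ ≫ pullback.fst _ _) (by
        simp only [Category.assoc, pullback.condition]
        simp only [← Category.assoc, pullback.condition])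
    let ψ : R ⟶ pullback pP pz := pullback.lift pairU (pullback.fst _ _ ≫ toZ a.1 ≫ pullback.snd _ _) (by
      simp only [pP, pairU, toZ, pullback.lift_fst_assoc, pullback.lift_snd, Category.assoc]
      exact congrArg (pullback.fst (pullback.snd (u a.1) π) (pullback.snd (u b.1) π) ≫ ·) pullback.condition)
    let q₁ : pullback pP pz ⟶ pullback (u a.1) pz :=
      pullback.lift (pullback.fst _ _ ≫ pullback.fst _ _) (pullback.snd _ _)
        ((Category.assoc _ _ _).trans pullback.condition)
    let q₂ : pullback pP pz ⟶ pullback (u b.1) pz :=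
      pullback.lift (pullback.fst _ _ ≫ pullback.snd _ _) (pullback.snd _ _)
        (((Category.assoc _ _ _).trans (congrArg (pullback.fst pP pz ≫ ·) pullback.condition.symm)).trans
          pullback.condition)
    have hψ₁ : ψ ≫ q₁ = pullback.fst _ _ ≫ toZ a.1 := by
      apply pullback.hom_ext <;> simp [ψ, q₁, pairU, toZ]
    have hψ₂ : ψ ≫ q₂ = pullback.snd _ _ ≫ toZ b.1 := by
      apply pullback.hom_ext
      · simp [ψ, q₂, pairU, toZ]
      · simp only [ψ, q₂, toZ, Category.assoc, pullback.lift_snd]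
        simp only [← Category.assoc, pullback.condition]
    obtain ⟨g, ⟨hg, hgs⟩, -⟩ := existsUnique_generic hN (pullback.snd pP pz) (ψ d)
    obtain ⟨lg, hlg, hlgg⟩ := Scheme.exists_fac_of_etale_of_isSepClosed (pullback.snd pP pz) s g
      (hg.trans (hs _).symm)
    have e₁ : lg ≫ q₁ = pullback.lift a.2.1 s a.2.2 := by
      refine lift_unique (pullback.snd (u a.1) pz) s (by rw [Category.assoc, pullback.lift_snd]; exact hlg)
        (pullback.lift_snd _ _ _) ?_
      rw [Scheme.Hom.comp_apply, hlgg]
      refine (existsUnique_generic hN (pullback.snd (u a.1) pz) (toZ a.1 e)).unique ⟨?_, ?_⟩ ⟨hgen a, hea⟩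
      · rw [← Scheme.Hom.comp_apply, pullback.lift_snd]; exact hg
      · have := hgs.map q₁.continuous
        rw [← Scheme.Hom.comp_apply, hψ₁, Scheme.Hom.comp_apply, hd₁] at this
        exact this
    have e₂ : lg ≫ q₂ = pullback.lift b.2.1 s b.2.2 := by
      refine lift_unique (pullback.snd (u b.1) pz) s (by rw [Category.assoc, pullback.lift_snd]; exact hlg)
        (pullback.lift_snd _ _ _) ?_
      rw [Scheme.Hom.comp_apply, hlgg]
      refine (existsUnique_generic hN (pullback.snd (u b.1) pz) (toZ b.1 e')).unique ⟨?_, ?_⟩ ⟨hgen b, heb⟩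
      · rw [← Scheme.Hom.comp_apply, pullback.lift_snd]; exact hg
      · have := hgs.map q₂.continuous
        rw [← Scheme.Hom.comp_apply, hψ₂, Scheme.Hom.comp_apply, hd₂] at this
        exact this
    have e₃ : lg ≫ pullback.fst pP pz = pullback.lift a.2.1 b.2.1 (a.2.2.trans b.2.2.symm) := by
      apply pullback.hom_ext
      · have := congrArg (· ≫ pullback.fst (u a.1) pz) e₁
        simpa [q₁] using this
      · have := congrArg (· ≫ pullback.fst (u b.1) pz) e₂
        simpa [q₂] using this
    show _ ∈ A a.1 b.1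
    rw [← e₃, Scheme.Hom.comp_apply, hlgg]
    refine (hgs.map (pullback.fst pP pz).continuous).mem_open (A a.1 b.1).isOpen ?_
    let d' : R ⟶ pullback (pullback.snd (u a.1) h) (pullback.snd (u b.1) h) :=
      pullback.map _ _ _ _ (toY a.1) (toY b.1) (pullback.snd pz h) (by simp [toY]) (by simp [toY])
    have hd' : d' ≫ pairY h u a.1 b.1 = ψ ≫ pullback.fst pP pz := by
      apply pullback.hom_ext <;> simp [d', ψ, pairU, pairY, toY]
    show pullback.fst pP pz (ψ d) ∈ A a.1 b.1
    rw [← Scheme.Hom.comp_apply, ← hd', Scheme.Hom.comp_apply]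
    refine hOA a.1 b.1 _ ?_ ?_
    · rw [← Scheme.Hom.comp_apply, pullback.lift_fst, Scheme.Hom.comp_apply, hd₁]; exact heO
    · rw [← Scheme.Hom.comp_apply, pullback.lift_snd, Scheme.Hom.comp_apply, hd₂]; exact heO'
  -- the classes are open
  have hopen : ∀ w a, Val w a → ∃ N : Set ↥(pullback pz h), IsOpen N ∧ w ∈ N ∧ ∀ w' ∈ N, Val w' a := by
    rintro w a ⟨e, he, heO, hea⟩
    refine ⟨pullback.snd (u a.1) π '' ((toY a.1) ⁻¹' (O a.1 : Set _) ∩
      (toZ a.1) ⁻¹' (Groth.EtaleBase.NormalEt.comp hN (pullback.snd (u a.1) pz) ⟨genp a, hgen a⟩ : Set _)),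
      (pullback.snd (u a.1) π).isOpenMap _ (((O a.1).isOpen.preimage (toY a.1).continuous).inter
        ((Groth.EtaleBase.NormalEt.comp hN _ _).isOpen.preimage (toZ a.1).continuous)),
      ?_, ?_⟩
    · exact ⟨e, ⟨heO, (mem_comp hN _).2 hea⟩, he⟩
    rintro _ ⟨e', ⟨h1, h2⟩, rfl⟩
    exact ⟨e', rfl, h1, (mem_comp hN _).1 h2⟩
  -- where the schemes meet the given opens
  have hmeet : ∀ (a : El) (o : ↥(pullback (u a.1) h)), o ∈ O a.1 →
      a.2.1 default ⤳ pullback.fst (u a.1) h o → ∃ w, Val w a := by
    intro a o ho hao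
    let fU := pullback.fst (u a.1) pz
    have hcl : IsClosedMap fU := fU.isClosedMap
    have hfg : fU (genp a) = a.2.1 default := by
      rw [← Scheme.Hom.comp_apply, pullback.lift_fst]
    obtain ⟨c, hc, hco⟩ : pullback.fst (u a.1) h o ∈ fU '' closure {genp a} :=
      hao.mem_closed (hcl _ isClosed_closure) ⟨genp a, subset_closure rfl, hfg⟩
    obtain ⟨t, ht₁, ht₂⟩ := Scheme.Pullback.exists_preimage_pullback
      (f := fU) (g := pullback.fst (u a.1) h) c o hco
    let mw : pullback fU (pullback.fst (u a.1) h) ⟶ pullback pz h :=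
      pullback.lift (pullback.fst _ _ ≫ pullback.snd _ _) (pullback.snd _ _ ≫ pullback.snd _ _) (by
        rw [Category.assoc, Category.assoc, ← pullback.condition (f := u a.1) (g := pz),
          ← pullback.condition (f := u a.1) (g := h)]
        exact pullback.condition_assoc (f := fU) (g := pullback.fst (u a.1) h) (u a.1))
    let m : pullback fU (pullback.fst (u a.1) h) ⟶ pullback (u a.1) π :=
      pullback.lift (pullback.fst _ _ ≫ fU) mw (by
        simp only [π, mw, pullback.lift_fst_assoc, Category.assoc]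
        exact congrArg (pullback.fst fU (pullback.fst (u a.1) h) ≫ ·) pullback.condition)
    have hmZ : m ≫ toZ a.1 = pullback.fst _ _ := by
      apply pullback.hom_ext <;> simp [m, mw, toZ, fU]
    have hmY : m ≫ toY a.1 = pullback.snd _ _ := by
      apply pullback.hom_ext
      · simp only [m, toY, Category.assoc, pullback.lift_fst]
        exact pullback.condition
      · simp [m, mw, toY]
    refine ⟨_, m t, rfl, ?_, ?_⟩
    · rw [← Scheme.Hom.comp_apply, hmY, ht₂]; exact ho
    · rw [← Scheme.Hom.comp_apply, hmZ, ht₁]; exact specializes_iff_mem_closure.2 hc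
  -- the point `p`
  obtain ⟨lp, hlp, hlpp⟩ := Scheme.exists_fac_of_etale_of_isSepClosed (pullback.fst (u j) (u k) ≫ u j)
    (s ≫ pz) p (by rw [Scheme.Hom.comp_apply s pz, hs]; exact hx.symm)
  let a : El := ⟨j, lp ≫ pullback.fst _ _, by rw [Category.assoc]; exact hlp⟩
  let b : El := ⟨k, lp ≫ pullback.snd _ _, by rw [Category.assoc, ← pullback.condition]; exact hlp⟩
  obtain ⟨z₁, hz₁⟩ := hmeet a oj hoj (by
    show (lp ≫ pullback.fst (u j) (u k)) default ⤳ _
    rw [Scheme.Hom.comp_apply, hlpp]; exact hpj)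
  obtain ⟨z₂, hz₂⟩ := hmeet b ok hok (by
    show (lp ≫ pullback.snd (u j) (u k)) default ⤳ _
    rw [Scheme.Hom.comp_apply, hlpp]; exact hpk)
  let P : Set ↥(pullback pz h) := {w | ∃ el, Val w el ∧ Rel a el}
  have hP : IsClopen P := by
    refine ⟨⟨isOpen_iff_mem_nhds.2 fun w hw => ?_⟩, isOpen_iff_mem_nhds.2 ?_⟩
    · obtain ⟨el, hel⟩ := hne w
      obtain ⟨N, hN', hwN, hNV⟩ := hopen w el hel
      refine Filter.mem_of_superset (hN'.mem_nhds hwN) fun w' hw' => fun ⟨el', hel', hr⟩ => hw ?_
      exact ⟨el, hel, htr _ _ _ hr (hpair w' el' el hel' (hNV w' hw'))⟩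
    · rintro w ⟨el, hel, hr⟩
      obtain ⟨N, hN', hwN, hNV⟩ := hopen w el hel
      exact Filter.mem_of_superset (hN'.mem_nhds hwN) fun w' hw' => ⟨el, hNV w' hw', hr⟩
  have hz2P : z₂ ∈ P := by
    rw [hP.eq_univ ⟨z₁, a, hz₁, hpair z₁ a a hz₁ hz₁⟩]; trivial
  obtain ⟨el, hel, hr⟩ := hz2P
  have hab : Rel a b := htr _ _ _ hr (hpair z₂ el b hel hz₂)
  have e : pullback.lift (f := u j) (g := u k) (lp ≫ pullback.fst _ _) (lp ≫ pullback.snd _ _)
      (by rw [Category.assoc, Category.assoc, pullback.condition]) = lp := by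
    apply pullback.hom_ext <;> simp
  have hab' : pullback.lift (f := u j) (g := u k) (lp ≫ pullback.fst _ _) (lp ≫ pullback.snd _ _)
      (by rw [Category.assoc, Category.assoc, pullback.condition]) default ∈ A j k := hab
  rwa [e, hlpp] at hab'

include htrans hOA hOcov hconn in
/-- **Gluing criterion.** -/
theorem exists_opens [Finite ι] [CompactSpace T] [QuasiSeparatedSpace T] [∀ j, QuasiCompact (u j)]
    (hOc : ∀ j, IsCompact (O j : Set ↥(pullback (u j) h)))
    (hsymm : ∀ (j k : ι) (p : ↥(pullback (u j) (u k))), p ∈ A j k → (pullbackSymmetry (u j) (u k)).hom p ∈ A k j)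
    (hspec : ∀ x : T, ∃ y : Y, x ⤳ h y) :
    ∃ D : ∀ j, (U j).Opens, (∀ x : T, ∃ j, ∃ v ∈ D j, u j v = x) ∧
      (∀ j, pullback.fst (u j) h '' (O j : Set _) ⊆ D j) ∧
      ∀ (j k : ι) (p : ↥(pullback (u j) (u k))),
        pullback.fst (u j) (u k) p ∈ D j → pullback.snd (u j) (u k) p ∈ D k → p ∈ A j k := by
  have : ∀ j, CompactSpace (U j) := fun j => QuasiCompact.compactSpace_of_compactSpace (u j)
  have : ∀ j, QuasiSeparatedSpace (U j) := fun j => quasiSeparatedSpace_of_quasiSeparated (u j)
  have hspU : ∀ j, SpectralSpace (U j) := fun j => {}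
  let S : ∀ j, Set (U j) := fun j => pullback.fst (u j) h '' (O j : Set _)
  let G : ∀ j, Set (U j) := fun j => {v | ∃ w ∈ S j, v ⤳ w}
  have hGct : ∀ j, IsClosed[constructibleTopology (U j)] (G j) := by
    intro j
    have hK : IsCompact (S j) := (hOc j).image (pullback.fst (u j) h).continuous
    have : G j = ⋂ (V : Set (U j)) (_ : IsOpen V ∧ IsCompact V ∧ S j ⊆ V), V := by
      refine Set.Subset.antisymm (fun y ⟨w, hw, hyw⟩ => Set.mem_iInter₂.2 fun V hV =>
        hyw.mem_open hV.1 (hV.2.2 hw)) fun y hy => ?_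
      by_contra hne
      obtain ⟨V, hVc, hVo, h1, h2⟩ := PrespectralSpace.exists_isCompact_and_isOpen_between hK
        (isClosed_closure (s := ({y} : Set (U j)))).isOpen_compl (by
          intro w hw hwy
          exact hne ⟨w, hw, specializes_iff_mem_closure.2 hwy⟩)
      exact h2 (Set.mem_iInter₂.1 hy V ⟨hVo, hVc, h1⟩) (subset_closure rfl)
    rw [this]
    exact @isClosed_iInter (U j) _ (constructibleTopology (U j)) _ fun V =>
      @isClosed_iInter (U j) _ (constructibleTopology (U j)) _ fun hV => SpectralTopology.isClosed_ct hV.1 hV.2.1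
  let B : ∀ j, Set (U j) := fun j =>
    ⋃ k, pullback.fst (u j) (u k) '' (pullback.snd (u j) (u k) ⁻¹' G k ∩ (A j k : Set _)ᶜ)
  have hBct : ∀ j, IsClosed[constructibleTopology (U j)] (B j) := by
    intro j
    refine @isClosed_iUnion_of_finite (U j) _ (constructibleTopology (U j)) _ _ fun k => ?_
    have : CompactSpace ↥(pullback (u j) (u k)) :=
      QuasiCompact.compactSpace_of_compactSpace (pullback.fst (u j) (u k))
    have : QuasiSeparatedSpace ↥(pullback (u j) (u k)) :=
      quasiSeparatedSpace_of_quasiSeparated (pullback.fst (u j) (u k))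
    have : SpectralSpace ↥(pullback (u j) (u k)) := {}
    have hfs : IsSpectralMap (pullback.fst (u j) (u k)) := (pullback.fst (u j) (u k)).isSpectralMap
    have hsn : IsSpectralMap (pullback.snd (u j) (u k)) := (pullback.snd (u j) (u k)).isSpectralMap
    have hE : IsClosed[constructibleTopology ↥(pullback (u j) (u k))]
        (pullback.snd (u j) (u k) ⁻¹' G k ∩ (A j k : Set _)ᶜ) :=
      @IsClosed.inter _ _ _ (constructibleTopology _)
        (@IsClosed.preimage _ _ (constructibleTopology _) (constructibleTopology _) _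
          (SpectralTopology.continuous_ct hsn) _ (hGct k))
        (SpectralTopology.isClosed_ct_of_isClosed (A j k).isOpen.isClosed_compl)
    exact @IsCompact.isClosed (U j) (constructibleTopology (U j)) SpectralTopology.t2Space_ct _
      (@IsCompact.image _ _ (constructibleTopology _) (constructibleTopology _) _ _
        (SpectralTopology.isCompact_ct_of_isClosed_ct hE) (SpectralTopology.continuous_ct hfs))
  let D : ∀ j, (U j).Opens := fun j => ⟨(closure (B j))ᶜ, isClosed_closure.isOpen_compl⟩
  have hGD : ∀ j v, v ∈ G j → v ∈ D j := by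
    rintro j v ⟨w, hw, hvw⟩ hv
    obtain ⟨e, he, hev⟩ := SpectralTopology.exists_specializes_of_mem_closure (hBct j) hv
    obtain ⟨k, p, ⟨hpk, hpA⟩, rfl⟩ := Set.mem_iUnion.1 he
    obtain ⟨oj, hoj, rfl⟩ := hw
    obtain ⟨w', ⟨ok, hok, rfl⟩, hpw'⟩ := hpk
    exact hpA (mem_of_specializes h u A O htrans hOA hOcov hconn j k p oj hoj (hev.trans hvw) ok hok hpw')
  have hDA : ∀ j k (p : ↥(pullback (u j) (u k))), pullback.fst (u j) (u k) p ∈ D j →
      pullback.snd (u j) (u k) p ∈ G k → p ∈ A j k := fun j k p hp hpk => by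
    by_contra hne
    exact hp (subset_closure (Set.mem_iUnion.2 ⟨k, p, ⟨hpk, hne⟩, rfl⟩))
  have hG : ∀ x : T, ∃ j, ∃ v ∈ G j, u j v = x := by
    intro x
    obtain ⟨y, hy⟩ := hspec x
    obtain ⟨l, o, ho, hoy⟩ := hOcov y
    have hu : u l (pullback.fst (u l) h o) = h y := by
      rw [← Scheme.Hom.comp_apply, pullback.condition, Scheme.Hom.comp_apply, hoy]
    obtain ⟨v, hv, hvx⟩ := Flat.generalizingMap (u l) (a := pullback.fst (u l) h o) (Eq.subst (motive := fun z => x ⤳ z) hu.symm hy)
    exact ⟨l, v, ⟨_, ⟨o, ho, rfl⟩, hv⟩, hvx⟩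
  refine ⟨D, fun x => ?_, fun j w hw => hGD j w ⟨w, hw, specializes_rfl⟩, fun j k p hpj hpk => ?_⟩
  · obtain ⟨j, v, hv, hvx⟩ := hG x
    exact ⟨j, v, hGD j v hv, hvx⟩
  obtain ⟨l, v, hv, hvx⟩ := hG (u j (pullback.fst (u j) (u k) p))
  -- a point of the triple product
  obtain ⟨t, ht₁, ht₂⟩ := Scheme.Pullback.exists_preimage_pullback
    (f := pullback.fst (u j) (u k) ≫ u j) (g := u l) p v hvx.symm
  let P := pullback (pullback.fst (u j) (u k) ≫ u j) (u l)
  let m₁ : P ⟶ pullback (u j) (u l) :=
    pullback.lift (pullback.fst _ _ ≫ pullback.fst _ _) (pullback.snd _ _)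
      ((Category.assoc _ _ _).trans pullback.condition)
  let m₂ : P ⟶ pullback (u k) (u l) :=
    pullback.lift (pullback.fst _ _ ≫ pullback.snd _ _) (pullback.snd _ _)
      (((Category.assoc _ _ _).trans (congrArg (pullback.fst _ _ ≫ ·) pullback.condition.symm)).trans
        pullback.condition)
  let m : P ⟶ pullback (pullback.snd (u j) (u l)) (pullback.fst (u l) (u k)) :=
    pullback.lift m₁ (m₂ ≫ (pullbackSymmetry (u k) (u l)).hom) (by
      simp [m₁, m₂, pullbackSymmetry_hom_comp_fst])
  have hm : m ≫ p13 u j l k = pullback.fst _ _ := by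
    apply pullback.hom_ext <;>
      simp [m, m₁, m₂, p13, pullbackSymmetry_hom_comp_snd]
  have h₁ : m₁ t ∈ A j l := by
    refine hDA j l _ ?_ ?_
    · rw [← Scheme.Hom.comp_apply, pullback.lift_fst, Scheme.Hom.comp_apply, ht₁]; exact hpj
    · rw [← Scheme.Hom.comp_apply, pullback.lift_snd, ht₂]; exact hv
  have h₂ : m₂ t ∈ A k l := by
    refine hDA k l _ ?_ ?_
    · rw [← Scheme.Hom.comp_apply, pullback.lift_fst, Scheme.Hom.comp_apply, ht₁]; exact hpk
    · rw [← Scheme.Hom.comp_apply, pullback.lift_snd, ht₂]; exact hv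
  have h₃ := htrans j l k (m t) (by rw [← Scheme.Hom.comp_apply, pullback.lift_fst]; exact h₁)
    (by rw [← Scheme.Hom.comp_apply, pullback.lift_snd, Scheme.Hom.comp_apply]; exact hsymm k l _ h₂)
  rwa [← Scheme.Hom.comp_apply, hm, ht₁] at h₃

end Groth.EtaleShriek.Criterion
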