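import Groth.Agent.EtaleShriek.BCCriterion

/-!
Base change in degree zero is local for the etale topology.
-/

set_option autoImplicit false
set_option backward.isDefEq.respectTransparency.types false

universe u

open CategoryTheory CategoryTheory.Limits AlgebraicGeometry Opposite

namespace Groth.EtaleShriek.FlatConnBC

attribute [local simp] pullback.lift_fst pullback.lift_snd pullback.lift_fst_assoc pullback.lift_snd_assoc

open Groth.EtaleBase (fiberPoint geomPoint geomPoint_apply)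
open Groth.DescentBase (shStalk shStalkPullIso shGerm_eq_iff_mem shSection_ext isIso_of_acPoints acPoint)
open Groth.EtaleShriek.BCSets (sg sg_res)

variable {X S Y T : Scheme.{u}}

lemma comp_cond {A U X' V S' T' Yi : Scheme.{u}} {t : T' ⟶ A} {gi : T' ⟶ V} {v : V ⟶ S'} {g : A ⟶ S'}
    {ei : Yi ⟶ T'} {hi : Yi ⟶ U} {a : U ⟶ V} {uh : U ⟶ X'} {f : X' ⟶ S'} (hT : t ≫ g = gi ≫ v)
    (hY : ei ≫ gi = hi ≫ a) (ha : a ≫ v = uh ≫ f) : (ei ≫ t) ≫ g = (hi ≫ uh) ≫ f := by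
  rw [Category.assoc, hT, reassoc_of% hY, ha, Category.assoc]

lemma fst3 {Z P A B C D : Scheme.{u}} {p : B ⟶ D} {q : C ⟶ D} (k : Z ⟶ P) (f₁ : P ⟶ A) (a : A ⟶ B)
    (b : P ⟶ C) (w : (f₁ ≫ a) ≫ p = b ≫ q) :
    (k ≫ pullback.lift (f₁ ≫ a) b w) ≫ pullback.fst p q = (k ≫ f₁) ≫ a := by
  simp

lemma snd3 {Z P A B C D : Scheme.{u}} {p : B ⟶ D} {q : C ⟶ D} (k : Z ⟶ P) (a : P ⟶ B) (f₂ : P ⟶ A)
    (b : A ⟶ C) (w : a ≫ p = (f₂ ≫ b) ≫ q) :
    (k ≫ pullback.lift a (f₂ ≫ b) w) ≫ pullback.snd p q = (k ≫ f₂) ≫ b := by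
  simp

lemma mu_assoc {f : X ⟶ S} {g : T ⟶ S} {h : Y ⟶ X} {e : Y ⟶ T} (c : IsPullback e h g f)
    {W U : X.Etale} {V : S.Etale} (r : U ⟶ W) (a : W.left ⟶ V.left) (ha : a ≫ V.hom = W.hom ≫ f)
    (ha' : (r.left ≫ a) ≫ V.hom = U.hom ≫ f) :
    ((EtCoh.bc h).map r).left ≫ mu c a ha = mu c (r.left ≫ a) ha' := by
  apply pullback.hom_ext
  · refine ((Category.assoc _ _ _).trans (congrArg (_ ≫ ·) (pullback.lift_fst _ _ _))).trans
      (Eq.trans ?_ (pullback.lift_fst _ _ _).symm)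
    exact ((Category.assoc _ _ _).symm.trans (congrArg (· ≫ a) (pullback.lift_fst _ _ _))).trans
      (Category.assoc _ _ _)
  · refine ((Category.assoc _ _ _).trans (congrArg (_ ≫ ·) (pullback.lift_snd _ _ _))).trans
      (Eq.trans ?_ (pullback.lift_snd _ _ _).symm)
    exact (Category.assoc _ _ _).symm.trans
      (congrArg (· ≫ e) (MorphismProperty.Over.w ((EtCoh.bc h).map r)))

section local_

variable {f : X ⟶ S} {g : T ⟶ S} {h : Y ⟶ X} {e : Y ⟶ T} (c : IsPullback e h g f) (F : EtDesc.Sh T)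
  {Ui : X.Etale} {Vi : S.Etale} {ai : Ui.left ⟶ Vi.left} (hai : ai ≫ Vi.hom = Ui.hom ≫ f)
  {Ti Yi : Scheme.{u}} {gi : Ti ⟶ Vi.left} {ti : Ti ⟶ T} (cT : IsPullback ti gi g Vi.hom)
  {hi : Yi ⟶ Ui.left} {ei : Yi ⟶ Ti} (cY : IsPullback ei hi gi ai)
  {Ω : Type u} [Field Ω] [IsAlgClosed Ω] {η : Spec (CommRingCat.of Ω) ⟶ X}
  (η' : Spec (CommRingCat.of Ω) ⟶ Ui.left) (hη : η' ≫ Ui.hom = η)

include hai cT cY hη in
set_option maxHeartbeats 1600000 in
lemma inj_of_local (H : Inj cY ((EtDesc.pullSh ti).obj F) η') : Inj c F η := by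
  intro W V a ha w σ₁ σ₂ hval
  subst hη
  have : Etale Vi.hom := Vi.prop
  have : Etale V.hom := V.prop
  let y : Yi ⟶ Y := c.lift (ei ≫ ti) (hi ≫ Ui.hom) (comp_cond cT.w cY.w hai)
  have hy₁ : y ≫ e = ei ≫ ti := c.lift_fst _ _ _
  have hy₂ : y ≫ h = hi ≫ Ui.hom := c.lift_snd _ _ _
  let Wi : Ui.left.Etale := (EtCoh.bc Ui.hom).obj W
  let wi : (Scheme.pointSmallEtale η').fiber.obj Wi :=
    Over.homMk (pullback.lift w.left η' (Over.w w)) (pullback.lift_snd _ _ _)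
  let Vi' : Vi.left.Etale := (EtCoh.bc Vi.hom).obj V
  let a' : Wi.left ⟶ Vi'.left := pullback.lift (pullback.fst W.hom Ui.hom ≫ a)
    (pullback.snd W.hom Ui.hom ≫ ai) (square_aux pullback.condition ha hai)
  have ha' : a' ≫ Vi'.hom = Wi.hom ≫ ai := pullback.lift_snd _ _ _
  let P : Ti.Etale := (EtCoh.bc gi).obj Vi'
  let π : P.left ⟶ ((EtCoh.bc g).obj V).left :=
    pullback.lift (pullback.fst Vi'.hom gi ≫ pullback.fst V.hom Vi.hom) (pullback.snd Vi'.hom gi ≫ ti)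
      (square_aux (f := Vi.hom) (g := g) (e := ti) (h := gi) pullback.condition
        (show pullback.fst V.hom Vi.hom ≫ V.hom = pullback.snd V.hom Vi.hom ≫ Vi.hom from pullback.condition)
        cT.w)
  let d : P ⟶ (EtCoh.bc ti).obj ((EtCoh.bc g).obj V) :=
    MorphismProperty.Over.homMk (pullback.lift π P.hom (pullback.lift_snd _ _ _)) (pullback.lift_snd _ _ _)
  let ys : F.obj.obj (op ((EtCoh.bc g).obj V)) → ((EtDesc.pullSh ti).obj F).obj.obj (op P) :=
    fun σ => ((EtDesc.pullSh ti).obj F).obj.map d.op (un ti F _ σ)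
  have hys : ∀ σ (K : Type u) [Field K] [IsSepClosed K] (p : Spec (CommRingCat.of K) ⟶ P.left),
      Rel ti F (ys σ) p ((EtCoh.bc g).obj V) (p ≫ π) σ := fun σ K _ _ p => by
    have := rel_map d σ p
    rwa [show d.left ≫ pullback.fst ((EtCoh.bc g).obj V).hom ti = π from pullback.lift_fst _ _ _] at this
  obtain ⟨V'', d'', s'', hs'', hd''⟩ := H Wi Vi' a' ha' wi (ys σ₁) (ys σ₂) fun K _ _ m => by
    let p := m ≫ mu cY a' ha'
    obtain ⟨l₁, r₁⟩ := hys σ₁ K p
    obtain ⟨l₂, r₂⟩ := hys σ₂ K p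
    let m₀ : Spec (CommRingCat.of K) ⟶ ((EtCoh.bc h).obj W).left :=
      pullback.lift ((m ≫ pullback.fst Wi.hom hi) ≫ pullback.fst W.hom Ui.hom)
        ((m ≫ pullback.snd Wi.hom hi) ≫ y)
        (square_aux (f := Ui.hom) (g := h) (e := y) (h := hi)
          ((Category.assoc _ _ _).trans ((congrArg (m ≫ ·) pullback.condition).trans (Category.assoc _ _ _).symm))
          (show pullback.fst W.hom Ui.hom ≫ W.hom = pullback.snd W.hom Ui.hom ≫ Ui.hom from pullback.condition)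
          hy₂)
    have hm₀ : m₀ ≫ mu c a ha = p ≫ π := by
      apply pullback.hom_ext
      · refine ((fst3 m₀ _ _ _ _).trans (congrArg (· ≫ a) (pullback.lift_fst _ _ _))).trans ?_
        refine Eq.trans ?_ (fst3 p _ _ _ _).symm
        refine Eq.trans ?_ (congrArg (· ≫ pullback.fst V.hom Vi.hom) (fst3 m _ a' _ _)).symm
        exact (fst3 (m ≫ pullback.fst Wi.hom hi) _ _ _ _).symm
      · refine ((snd3 m₀ _ _ _ _).trans (congrArg (· ≫ e) (pullback.lift_snd _ _ _))).trans ?_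
        refine Eq.trans ?_ (snd3 p _ _ _ _).symm
        refine Eq.trans ?_ (congrArg (· ≫ ti) (snd3 m _ _ ei _)).symm
        exact ((Category.assoc _ _ _).trans (congrArg ((m ≫ pullback.snd Wi.hom hi) ≫ ·) hy₁)).trans
          (Category.assoc _ _ _).symm
    refine r₁.trans (Eq.trans ?_ r₂.symm)
    rw [← stalkPullIso_sg, ← stalkPullIso_sg]
    refine congrArg ((shStalkPullIso ti (p ≫ P.hom)).hom.app F) ?_
    refine (sg_eq_iff_of_point_eq F l₁ _ _ rfl rfl l₁ l₁ σ₁ σ₂).1 ?_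
    rw [← hm₀]
    exact hval K m₀
  let V' : S.Etale := Scheme.Etale.mk (V''.hom ≫ Vi.hom)
  have : Etale V''.hom := V''.prop
  have hdw : d''.left ≫ pullback.fst V.hom Vi.hom ≫ V.hom = V''.hom ≫ Vi.hom :=
    (congrArg (d''.left ≫ ·) pullback.condition).trans
      ((Category.assoc _ _ _).symm.trans (congrArg (· ≫ Vi.hom) (MorphismProperty.Over.w d'')))
  let dd : V' ⟶ V := MorphismProperty.Over.homMk (d''.left ≫ pullback.fst V.hom Vi.hom)
    ((Category.assoc _ _ _).trans hdw)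
  have hsw : s''.left ≫ V''.hom = η' ≫ ai := Over.w s''
  let s' : (Scheme.pointSmallEtale ((η' ≫ Ui.hom) ≫ f)).fiber.obj V' := Over.homMk s''.left (by
    show s''.left ≫ V''.hom ≫ Vi.hom = (η' ≫ Ui.hom) ≫ f
    rw [reassoc_of% hsw, hai, Category.assoc])
  refine ⟨V', dd, s', Over.OverMorphism.ext ?_, ?_⟩
  · show s''.left ≫ d''.left ≫ pullback.fst V.hom Vi.hom = w.left ≫ a
    have h1 : s''.left ≫ d''.left = wi.left ≫ a' := congrArg (fun t => t.left) hs''
    refine (Category.assoc _ _ _).symm.trans ((congrArg (· ≫ pullback.fst V.hom Vi.hom) h1).trans ?_)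
    refine (Category.assoc _ _ _).trans ((congrArg (wi.left ≫ ·) (pullback.lift_fst _ _ _)).trans ?_)
    exact (Category.assoc _ _ _).symm.trans (congrArg (· ≫ a) (pullback.lift_fst _ _ _))
  refine shSection_ext F _ _ _ fun q => ?_
  let ζ := geomPoint q
  let Q := (EtCoh.bc g).obj V'
  have hq : (ζ ≫ pullback.snd V'.hom g) ≫ g = (ζ ≫ pullback.fst V'.hom g ≫ V''.hom) ≫ Vi.hom :=
    ((Category.assoc _ _ _).trans (congrArg (ζ ≫ ·) pullback.condition.symm)).trans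
      ((congrArg (ζ ≫ ·) (Category.assoc _ _ _).symm).trans (Category.assoc _ _ _).symm)
  let t := cT.lift (ζ ≫ pullback.snd V'.hom g) (ζ ≫ pullback.fst V'.hom g ≫ V''.hom) hq
  let p₂ : Spec (CommRingCat.of _) ⟶ ((EtCoh.bc gi).obj V'').left :=
    pullback.lift (ζ ≫ pullback.fst V'.hom g) t ((Category.assoc _ _ _).trans (cT.lift_snd _ _ _).symm)
  let p := p₂ ≫ ((EtCoh.bc gi).map d'').left
  have hp : p ≫ π = ζ ≫ ((EtCoh.bc g).map dd).left := by
    apply pullback.hom_ext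
    · refine ((fst3 p _ _ _ _).trans (congrArg (· ≫ pullback.fst V.hom Vi.hom) (fst3 p₂ _ _ _ _))).trans ?_
      refine (congrArg (fun k => (k ≫ d''.left) ≫ pullback.fst V.hom Vi.hom) (pullback.lift_fst _ _ _)).trans ?_
      refine Eq.trans ?_ (fst3 ζ _ _ _ _).symm
      exact Category.assoc _ _ _
    · refine ((snd3 p _ _ _ _).trans (congrArg (· ≫ ti) ?_)).trans (Eq.trans (cT.lift_fst _ _ hq) ?_)
      · exact (Category.assoc _ _ _).trans ((congrArg (p₂ ≫ ·)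
          (MorphismProperty.Over.w ((EtCoh.bc gi).map d''))).trans (pullback.lift_snd _ _ _))
      · exact ((Category.assoc _ _ _).trans (congrArg (ζ ≫ ·)
          (MorphismProperty.Over.w ((EtCoh.bc g).map dd)))).symm
  have hr₁ := (rel_src ((EtCoh.bc gi).map d'') (ys σ₁) p₂ (p ≫ π) σ₁).2 (hys σ₁ _ p)
  have hr₂ := (rel_src ((EtCoh.bc gi).map d'') (ys σ₂) p₂ (p ≫ π) σ₂).2 (hys σ₂ _ p)
  rw [hd''] at hr₁
  have hl : ((p ≫ π) ≫ ((EtCoh.bc g).obj V).hom : Spec (CommRingCat.of _) ⟶ T) = ζ ≫ Q.hom := by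
    rw [hp]
    exact (Category.assoc _ _ _).trans (congrArg (ζ ≫ ·) (MorphismProperty.Over.w ((EtCoh.bc g).map dd)))
  have e1 := hr₁.sg_eq hr₂ (ζ ≫ Q.hom) hl hl
  rw [← sg_res F (ζ ≫ Q.hom) ((EtCoh.bc g).map dd) ζ rfl (p ≫ π) hl hp.symm σ₁,
    ← sg_res F (ζ ≫ Q.hom) ((EtCoh.bc g).map dd) ζ rfl (p ≫ π) hl hp.symm σ₂] at e1
  have h2 := (shGerm_eq_iff_mem (ζ ≫ Q.hom) F Q _ _ (Over.homMk ζ rfl)).1 e1
  rw [show fiberPoint (ζ ≫ Q.hom) (Over.homMk ζ rfl : (Scheme.pointSmallEtale (ζ ≫ Q.hom)).fiber.obj Q) = q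
    from geomPoint_apply q _] at h2
  exact h2

include hai cT cY hη in
set_option maxHeartbeats 1600000 in
lemma surj_of_local (H : Surj cY ((EtDesc.pullSh ti).obj F) η') : Surj c F η := by
  intro W w x
  subst hη
  have : Etale Vi.hom := Vi.prop
  have : Etale W.hom := W.prop
  have : Etale Ui.hom := Ui.prop
  have : Etale ti := MorphismProperty.of_isPullback cT.flip ‹_›
  let y : Yi ⟶ Y := c.lift (ei ≫ ti) (hi ≫ Ui.hom) (comp_cond cT.w cY.w hai)
  have hy₁ : y ≫ e = ei ≫ ti := c.lift_fst _ _ _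
  have hy₂ : y ≫ h = hi ≫ Ui.hom := c.lift_snd _ _ _
  let Wi : Ui.left.Etale := (EtCoh.bc Ui.hom).obj W
  let wi : (Scheme.pointSmallEtale η').fiber.obj Wi :=
    Over.homMk (pullback.lift w.left η' (Over.w w)) (pullback.lift_snd _ _ _)
  let B' : Yi.Etale := (EtCoh.bc hi).obj Wi
  let q : B'.left ⟶ ((EtCoh.bc h).obj W).left :=
    pullback.lift (pullback.fst Wi.hom hi ≫ pullback.fst W.hom Ui.hom) (pullback.snd Wi.hom hi ≫ y)
      (square_aux (f := Ui.hom) (g := h) (e := y) (h := hi) pullback.condition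
        (show pullback.fst W.hom Ui.hom ≫ W.hom = pullback.snd W.hom Ui.hom ≫ Ui.hom from pullback.condition)
        hy₂)
  obtain ⟨x', hx'⟩ := exists_transfer y (ei ≫ ti) hy₁ ((EtCoh.bc h).obj W) x B' q (pullback.lift_snd _ _ _)
  obtain ⟨x₂, hx₂⟩ := exists_rel₂ ei (ei ≫ ti) rfl B' x'
  obtain ⟨U', r, u', V'', a'', ha'', τ, hu, hval⟩ := H Wi wi x₂
  have : Etale V''.hom := V''.prop
  have : Etale U'.hom := U'.prop
  let V : S.Etale := Scheme.Etale.mk (V''.hom ≫ Vi.hom)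
  let P : Ti.Etale := (EtCoh.bc gi).obj V''
  have hsq : IsPullback (pullback.snd V''.hom gi ≫ ti) (pullback.fst V''.hom gi) g (V''.hom ≫ Vi.hom) :=
    (IsPullback.of_hasPullback V''.hom gi).flip.paste_horiz cT
  let i : P.left ⟶ ((EtCoh.bc g).obj V).left := hsq.flip.isoPullback.hom
  have hi₁ : i ≫ pullback.fst V.hom g = pullback.fst V''.hom gi := hsq.flip.isoPullback_hom_fst
  have hi₂ : i ≫ pullback.snd V.hom g = pullback.snd V''.hom gi ≫ ti := hsq.flip.isoPullback_hom_snd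
  obtain ⟨σ, hσ⟩ := exists_etale_section ti F P τ ((EtCoh.bc g).obj V) i hi₂
  let U : X.Etale := Scheme.Etale.mk (U'.hom ≫ Ui.hom)
  let rr : U ⟶ W := MorphismProperty.Over.homMk (r.left ≫ pullback.fst W.hom Ui.hom)
    ((Category.assoc _ _ _).trans ((congrArg (r.left ≫ ·) pullback.condition).trans
      ((Category.assoc _ _ _).symm.trans (congrArg (· ≫ Ui.hom) (MorphismProperty.Over.w r)))))
  have huw : u'.left ≫ U'.hom = η' := Over.w u'
  let u : (Scheme.pointSmallEtale (η' ≫ Ui.hom)).fiber.obj U := Over.homMk u'.left (by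
    show u'.left ≫ U'.hom ≫ Ui.hom = η' ≫ Ui.hom
    rw [reassoc_of% huw])
  have ha : a'' ≫ V.hom = U.hom ≫ f := by
    show a'' ≫ V''.hom ≫ Vi.hom = (U'.hom ≫ Ui.hom) ≫ f
    rw [reassoc_of% ha'', hai, Category.assoc]
  refine ⟨U, rr, u, V, a'', ha, σ, Over.OverMorphism.ext ?_, fun K _ _ m => ?_⟩
  · show u'.left ≫ r.left ≫ pullback.fst W.hom Ui.hom = w.left
    have h1 : u'.left ≫ r.left = wi.left := congrArg (fun t => t.left) hu
    exact (Category.assoc _ _ _).symm.trans ((congrArg (· ≫ pullback.fst W.hom Ui.hom) h1).trans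
      (pullback.lift_fst _ _ _))
  let mX := m ≫ pullback.fst U.hom h
  let mY := m ≫ pullback.snd U.hom h
  have hcond : mX ≫ (U'.hom ≫ Ui.hom) = mY ≫ h :=
    (Category.assoc _ _ _).trans ((congrArg (m ≫ ·) pullback.condition).trans (Category.assoc _ _ _).symm)
  have hT : (mY ≫ e) ≫ g = ((mX ≫ U'.hom) ≫ ai) ≫ Vi.hom := by
    rw [Category.assoc, c.w, ← reassoc_of% hcond]
    simp only [Category.assoc, hai]
  let mT := cT.lift (mY ≫ e) ((mX ≫ U'.hom) ≫ ai) hT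
  let mYi := cY.lift mT (mX ≫ U'.hom) (cT.lift_snd _ _ _)
  have hmy : mYi ≫ y = mY := by
    apply c.hom_ext
    · rw [Category.assoc, hy₁, cY.lift_fst_assoc, cT.lift_fst]
    · rw [Category.assoc, hy₂, cY.lift_snd_assoc, Category.assoc, hcond]
  let m' : Spec (CommRingCat.of K) ⟶ ((EtCoh.bc hi).obj U').left :=
    pullback.lift mX mYi (cY.lift_snd _ _ _).symm
  have hq : (m' ≫ ((EtCoh.bc hi).map r).left) ≫ q = m ≫ ((EtCoh.bc h).map rr).left := by
    apply pullback.hom_ext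
    · refine ((fst3 _ _ _ _ _).trans (congrArg (· ≫ pullback.fst W.hom Ui.hom) (fst3 m' _ _ _ _))).trans ?_
      refine (congrArg (fun k => (k ≫ r.left) ≫ pullback.fst W.hom Ui.hom) (pullback.lift_fst _ _ _)).trans ?_
      refine Eq.trans ?_ (fst3 m _ _ _ _).symm
      exact Category.assoc _ _ _
    · refine ((snd3 _ _ _ _ _).trans (congrArg (· ≫ y) ?_)).trans (hmy.trans ?_)
      · exact (Category.assoc _ _ _).trans ((congrArg (m' ≫ ·)
          (MorphismProperty.Over.w ((EtCoh.bc hi).map r))).trans (pullback.lift_snd _ _ _))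
      · exact ((Category.assoc _ _ _).trans (congrArg (m ≫ ·)
          (MorphismProperty.Over.w ((EtCoh.bc h).map rr)))).symm
  have hp : (m' ≫ mu cY a'' ha'') ≫ i = m ≫ mu c (U := U) (V := V) a'' ha := by
    apply pullback.hom_ext
    · refine ((Category.assoc _ _ _).trans (congrArg (_ ≫ ·) hi₁)).trans ?_
      refine (fst3 m' _ _ _ _).trans ?_
      exact (congrArg (· ≫ a'') (pullback.lift_fst _ _ _)).trans (fst3 m _ _ _ _).symm
    · refine ((Category.assoc _ _ _).trans (congrArg (_ ≫ ·) hi₂)).trans ?_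
      refine ((Category.assoc _ _ _).symm.trans (congrArg (· ≫ ti) (snd3 m' _ _ _ _))).trans ?_
      refine (congrArg (fun k => (k ≫ ei) ≫ ti) (pullback.lift_snd _ _ _)).trans ?_
      refine Eq.trans ?_ (snd3 m _ _ _ _).symm
      exact (congrArg (· ≫ ti) (cY.lift_fst mT _ _)).trans (cT.lift_fst _ _ hT)
  -- compare with a representative of `x`
  obtain ⟨W₀, -, l₀, τ₀, -, hR⟩ := exists_rel x
    (V := Scheme.Etale.mk (𝟙 T)) (((EtCoh.bc h).obj W).hom ≫ e) (Category.comp_id _)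
    (m ≫ ((EtCoh.bc h).map rr).left)
  have h1 := hx₂ K (m' ≫ ((EtCoh.bc hi).map r).left) W₀ l₀ τ₀
    (hx' K _ W₀ l₀ τ₀ (hq.symm ▸ hR))
  have h2 := (hval K m').trans (hσ K (m' ≫ mu cY a'' ha''))
  rw [hp] at h2
  have h3 : Rel₂ ti F ei x₂ (m' ≫ ((EtCoh.bc hi).map r).left) ((EtCoh.bc g).obj V) (m ≫ mu c (U := U) (V := V) a'' ha) σ := h2
  exact hR.of_sg_eq _ hR.1 (h3.1.trans (h1.1.symm.trans hR.1))
    (h1.sg_eq h3 _ hR.1 (h3.1.trans (h1.1.symm.trans hR.1)))

include hai cT cY hη in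
lemma bijective_stalk_of_local
    (hiso : IsIso (EtBC.baseChange0Sh gi ai hi ei cY.w ((EtDesc.pullSh ti).obj F))) :
    Function.Bijective ((shStalk η).map (EtBC.baseChange0Sh g f h e c.w F)) := by
  have hb : Function.Bijective
      ((shStalk η').map (EtBC.baseChange0Sh gi ai hi ei cY.w ((EtDesc.pullSh ti).obj F))) :=
    (isIso_iff_bijective _).1 inferInstance
  exact ⟨(injective_iff_inj c F η).2
      (inj_of_local c F hai cT cY η' hη ((injective_iff_inj cY _ η').1 hb.1)),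
    (surjective_iff_surj c F η).2
      (surj_of_local c F hai cT cY η' hη ((surjective_iff_surj cY _ η').1 hb.2))⟩

end local_

end Groth.EtaleShriek.FlatConnBC
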