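import Groth.Agent.EtaleShriek.Supp
import Groth.Agent.EtaleBase.DisjointGlue
import Mathlib.CategoryTheory.Sites.SheafOfTypes

/-!
Excision for sections supported in a closed subset.
-/

set_option autoImplicit false

universe u

open CategoryTheory CategoryTheory.Limits AlgebraicGeometry Opposite

namespace Groth.EtaleShriek.Excision

open Groth.EtaleBase (germ germ_eq_zero_iff_mem mem_topology_iff exists_geomPoint_lift fiberPoint
  geomPoint openObj openHom)

/-- Field-valued points are equal if they agree after a map inducing an iso of residue fields. -/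
lemma point_eq_of_residue {A B : Scheme.{u}} (φ : A ⟶ B) {K : Type u} [Field K]
    (a b : Spec (CommRingCat.of K) ⟶ A)
    (hpt : a.base (IsLocalRing.closedPoint K) = b.base (IsLocalRing.closedPoint K))
    (hres : Function.Bijective (φ.residueFieldMap (a.base (IsLocalRing.closedPoint K))))
    (h : a ≫ φ = b ≫ φ) : a = b := by
  obtain ⟨⟨x, α⟩, rfl⟩ := (Scheme.SpecToEquivOfField K A).symm.surjective a
  obtain ⟨⟨y, β⟩, rfl⟩ := (Scheme.SpecToEquivOfField K A).symm.surjective b
  have hx : (Spec.map α ≫ A.fromSpecResidueField x).base (IsLocalRing.closedPoint K) = x := by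
    rw [Scheme.Hom.comp_apply]; exact A.fromSpecResidueField_apply x _
  have hy : (Spec.map β ≫ A.fromSpecResidueField y).base (IsLocalRing.closedPoint K) = y := by
    rw [Scheme.Hom.comp_apply]; exact A.fromSpecResidueField_apply y _
  obtain rfl : x = y := hx.symm.trans (hpt.trans hy)
  change Spec.map α ≫ A.fromSpecResidueField x = Spec.map β ≫ A.fromSpecResidueField x
  change (Spec.map α ≫ A.fromSpecResidueField x) ≫ φ = (Spec.map β ≫ A.fromSpecResidueField x) ≫ φ at h
  have hres' : Function.Bijective (φ.residueFieldMap x) := by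
    have key : ∀ z, z = x → Function.Bijective (φ.residueFieldMap z) → Function.Bijective (φ.residueFieldMap x) := by
      rintro z rfl hz; exact hz
    exact key _ hx hres
  have : IsIso (φ.residueFieldMap x) := (ConcreteCategory.isIso_iff_bijective _).2 hres'
  rw [Category.assoc, Category.assoc, ← Scheme.Hom.SpecMap_residueFieldMap_fromSpecResidueField,
    ← Category.assoc, ← Category.assoc, ← Spec.map_comp, ← Spec.map_comp, cancel_mono,
    Spec.map_inj, cancel_epi] at h
  rw [h]

variable {X : Scheme.{u}} (F : EtCoh.Ab X) {U U' : X.Etale} (φ : U' ⟶ U) (Z : Set ↥U.left)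

/-- Two restrictions of a section supported over `Z` that agree after `φ` are equal. -/
lemma map_eq_map (hinj : Set.InjOn φ.left.base (φ.left.base ⁻¹' Z))
    (hres : ∀ x ∈ φ.left.base ⁻¹' Z, Function.Bijective (φ.left.residueFieldMap x))
    (s' : EtCoh.sect F U') (hs' : EtShriek.sectSupp F U' s' ⊆ φ.left.base ⁻¹' Z) {W : X.Etale}
    (a b : W ⟶ U') (h : a ≫ φ = b ≫ φ) : F.obj.map a.op s' = F.obj.map b.op s' := by
  rw [← sub_eq_zero, eq_zero_iff, Set.eq_empty_iff_forall_notMem]
  intro w
  obtain ⟨t, ht⟩ := exists_geomPoint_lift W w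
  rw [notMem_sectSupp_iff]
  refine Set.mem_of_eq_of_mem ht.symm ((germ_eq_zero_iff_mem _ F W _ t).1 ?_)
  let Φ := Scheme.pointSmallEtale (geomPoint (W.hom.base w))
  rw [map_sub, sub_eq_zero]
  refine (Φ.toPresheafFiber_w_apply a t F.obj s').trans
    (Eq.trans ?_ (Φ.toPresheafFiber_w_apply b t F.obj s').symm)
  have hab : Φ.fiber.map φ (Φ.fiber.map a t) = Φ.fiber.map φ (Φ.fiber.map b t) := by
    rw [← Functor.map_comp_apply, ← Functor.map_comp_apply, h]
  generalize Φ.fiber.map a t = p at hab
  generalize Φ.fiber.map b t = q at hab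
  have hl : p.left ≫ φ.left = q.left ≫ φ.left := congrArg (fun m => m.left) hab
  have hpt : φ.left.base (fiberPoint _ p) = φ.left.base (fiberPoint _ q) :=
    (Scheme.Hom.comp_apply _ _ _).symm.trans ((congrArg (fun m : Spec (CommRingCat.of (SeparableClosure (X.residueField (W.hom.base w)))) ⟶ U.left => m.base default) hl).trans
      (Scheme.Hom.comp_apply _ _ _))
  by_cases hp : φ.left.base (fiberPoint _ p) ∈ Z
  · have e : fiberPoint _ p = fiberPoint _ q := hinj hp (show φ.left.base _ ∈ Z from hpt ▸ hp) hpt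
    have hd : (default : Spec (CommRingCat.of (SeparableClosure (X.residueField (W.hom.base w))))) =
        IsLocalRing.closedPoint _ := Subsingleton.elim _ _
    have h2 : p.left = q.left := point_eq_of_residue φ.left p.left q.left
      ((congrArg p.left.base hd).symm.trans (e.trans (congrArg q.left.base hd)))
      (hres _ (show φ.left.base (p.left.base _) ∈ Z from Set.mem_of_eq_of_mem
        (congrArg (fun z => φ.left.base (p.left.base z)) hd.symm) hp)) hl
    rw [Over.OverMorphism.ext h2]
  · exact ((germ_eq_zero_iff_mem _ F U' s' p).2 ((notMem_sectSupp_iff F U' s' _).1 fun hm => hp (hs' hm))).trans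
      ((germ_eq_zero_iff_mem _ F U' s' q).2 ((notMem_sectSupp_iff F U' s' _).1 fun hm => hp (hpt ▸ hs' hm))).symm

/-- Excision. -/
theorem bijOn (hZ : IsClosed Z) (hbij : Set.BijOn φ.left.base (φ.left.base ⁻¹' Z) Z)
    (hres : ∀ x ∈ φ.left.base ⁻¹' Z, Function.Bijective (φ.left.residueFieldMap x)) :
    Set.BijOn (F.obj.map φ.op) {s | EtShriek.sectSupp F U s ⊆ Z}
      {s' | EtShriek.sectSupp F U' s' ⊆ φ.left.base ⁻¹' Z} := by
  refine ⟨fun s hs => ?_, fun s hs t ht hst => ?_, fun s' hs' => ?_⟩
  · show EtShriek.sectSupp F U' (F.obj.map φ.op s) ⊆ _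
    rw [sectSupp_map]
    exact Set.preimage_mono hs
  · have hsub : EtShriek.sectSupp F U (s - t) ⊆ Z := by
      rw [sub_eq_add_neg]
      refine (sectSupp_add_subset F U s (-t)).trans (Set.union_subset hs ?_)
      rw [sectSupp_neg]
      exact ht
    refine sub_eq_zero.1 ((eq_zero_iff F U _).2 (Set.eq_empty_iff_forall_notMem.2 fun z hz => ?_))
    obtain ⟨z', -, rfl⟩ := hbij.2.2 (hsub hz)
    exact ((map_eq_zero_iff F φ (s - t)).1 (by rw [map_sub, hst, sub_self])).le_bot
      (show φ.left.base z' ∈ _ ⊓ _ from ⟨⟨z', rfl⟩, hz⟩)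
  · let V : U.left.Opens := ⟨Zᶜ, hZ.isOpen_compl⟩
    let W : ULift.{u} Bool → X.Etale := fun c => cond c.down U' (openObj U V)
    let π : ∀ c, W c ⟶ U := fun c => match c with
      | ⟨true⟩ => φ
      | ⟨false⟩ => openHom U V
    let x : ∀ c, F.obj.obj (op (W c)) := fun c => match c with
      | ⟨true⟩ => s'
      | ⟨false⟩ => 0
    have hR : Sieve.generate (Presieve.ofArrows W π) ∈ X.smallEtaleTopology U := by
      rw [mem_topology_iff]
      intro u
      by_cases hu : u ∈ Z
      · obtain ⟨z', -, hz'⟩ := hbij.2.2 hu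
        exact ⟨_, π ⟨true⟩, z', Sieve.le_generate _ _ _ (Presieve.ofArrows.mk (Y := W) (f := π) ⟨true⟩), hz'⟩
      · exact ⟨_, π ⟨false⟩, ⟨u, hu⟩, Sieve.le_generate _ _ _ (Presieve.ofArrows.mk (Y := W) (f := π) ⟨false⟩), rfl⟩
    have hsheaf := ((isSheaf_iff_isSheaf_of_type _ _).1
      ((Presheaf.isSheaf_iff_isSheaf_forget _ _ (forget AddCommGrpCat.{u + 1})).1 F.2)) _ hR
    rw [← Presieve.isSheafFor_iff_generate, Presieve.isSheafFor_arrows_iff] at hsheaf
    have hzero : ∀ (T : X.Etale) (a : T ⟶ U') (b : T ⟶ openObj U V), a ≫ φ = b ≫ openHom U V →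
        F.obj.map a.op s' = 0 := by
      intro T a b h
      rw [map_eq_zero_iff, Set.disjoint_left]
      rintro _ ⟨t, rfl⟩ hm
      refine (b.left.base t).2 (Set.mem_of_eq_of_mem ?_ (hs' hm))
      exact ((Scheme.Hom.comp_apply _ _ _).symm.trans ((congrArg (fun m : T ⟶ U => m.left.base t) h).trans
        (Scheme.Hom.comp_apply _ _ _))).symm
    obtain ⟨s, hs, -⟩ := hsheaf x (by
      rintro ⟨(_ | _)⟩ ⟨(_ | _)⟩ T a b h
      · exact (map_zero (F.obj.map a.op).hom).trans (map_zero (F.obj.map b.op).hom).symm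
      · exact (map_zero (F.obj.map a.op).hom).trans (hzero T b a h.symm).symm
      · exact (hzero T a b h).trans (map_zero (F.obj.map b.op).hom).symm
      · exact map_eq_map F φ Z hbij.2.1 hres s' hs' a b h)
    refine ⟨s, fun z hz => ?_, hs ⟨true⟩⟩
    by_contra hn
    exact ((map_eq_zero_iff F (openHom U V) s).1 (hs ⟨false⟩)).le_bot
      (show z ∈ _ ⊓ _ from ⟨⟨⟨z, hn⟩, rfl⟩, hz⟩)

end Groth.EtaleShriek.Excision
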