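import Groth.Agent.EtaleShriek.Values
import Groth.Agent.EtaleBase.ExtZeroToPush
import Mathlib.AlgebraicGeometry.Morphisms.QuasiFinite
import Mathlib.AlgebraicGeometry.AlgClosed.Basic

/-!
For a separated étale morphism the extension by zero is the direct image with proper support.
-/

set_option autoImplicit false

universe u

open CategoryTheory CategoryTheory.Limits AlgebraicGeometry Opposite

namespace Groth.EtaleShriek.ExtZeroIso

open Groth.EtaleBase (germ germ_map germ_surjective germ_eq_zero_iff_mem fiberPoint pushLift PtOver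
  openHom openObj)
open Groth.EtaleBase.ExtZeroPush (P graph gC graph_props graph_fst ext0 ext0_spec τ τ_unit r inc proj
  proj_germ proj_τ_inc pairPt mono_τ)

section finite

variable {A T : Scheme.{u}} {Ω : Type u} [Field Ω] (q : A ⟶ T) [LocallyQuasiFinite q]
  (t : Spec (CommRingCat.of Ω) ⟶ T)

/-- A closed subset proper over the base has finitely many points in a fibre of a quasi-finite map. -/
lemma finite_fibre (Z : Set A) (hZ : ClSub.IsProperOver q Z) :
    ((pullback.fst q t).base ⁻¹' Z).Finite := by
  let I := Scheme.IdealSheafData.vanishingIdeal (⟨Z, hZ.1⟩ : TopologicalSpace.Closeds A)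
  let i := I.subschemeι
  have hi : Set.range i = Z := by
    rw [Scheme.IdealSheafData.range_subschemeι, Scheme.IdealSheafData.coe_support_vanishingIdeal]; rfl
  have : IsProper (i ≫ q) := hZ.2
  have : LocallyQuasiFinite (i ≫ q) := inferInstance
  let k := pullback.map (i ≫ q) t q t i (𝟙 _) (𝟙 _) (Category.comp_id _) (by simp)
  have hr : Set.range k = (pullback.fst q t).base ⁻¹' Z := by
    rw [Scheme.Pullback.range_map, hi]
    refine Set.inter_eq_left.2 fun x _ => ⟨_, rfl⟩
  rw [← hr]
  have : Finite ↥(pullback (i ≫ q) t) := by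
    refine Set.finite_univ_iff.1 (((pullback.snd (i ≫ q) t).finite_preimage_singleton default).subset ?_)
    exact fun x _ => Subsingleton.elim _ _
  exact Set.finite_range _

end finite

variable {U X : Scheme.{u}} (j : U ⟶ X) [AlgebraicGeometry.Etale j] [IsSeparated j] [EtShriek.JCont j]

omit [IsSeparated j] [EtShriek.JCont j] in
instance etale_prV (W : X.Etale) : AlgebraicGeometry.Etale (EtShriek.prV j W) :=
  inferInstanceAs (AlgebraicGeometry.Etale (pullback.fst W.hom j))

omit [EtShriek.JCont j] in
set_option backward.isDefEq.respectTransparency.types false in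
/-- The graph is proper over the source. -/
lemma properOver_graph (V : U.Etale) :
    ClSub.IsProperOver (EtShriek.prV j ((EtShriek.compEtale j).obj V))
      (Set.range (graph j V).left.base) := by
  obtain ⟨ho, hc⟩ := graph_props j V
  have : IsClosedImmersion (graph j V).left := IsClosedImmersion.of_isPreimmersion _ hc
  refine (ProperOver.iff_isProper _ hc (graph j V).left rfl).2 ?_
  have e : (graph j V).left ≫ EtShriek.prV j ((EtShriek.compEtale j).obj V) = 𝟙 V.left := graph_fst j V
  rw [e]
  exact inferInstanceAs (IsProper (𝟙 _))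

omit [EtShriek.JCont j] in
/-- The extension by zero of a section has proper support. -/
lemma ps_ext0 (F : EtCoh.Ab U) (V : U.Etale) (σ : F.obj.obj (op V)) :
    PS j F ((EtShriek.compEtale j).obj V) (ext0 j F V σ) := by
  refine ProperOver.mono _ (properOver_graph j V) (isClosed_sectSupp _ _ _) fun x hx => ?_
  by_contra hn
  exact (notMem_sectSupp_iff F _ _ x).2 ⟨openObj (P j V) (gC j V), openHom (P j V) (gC j V),
    ⟨⟨x, hn⟩, rfl⟩, (ext0_spec j F V σ).2⟩ hx

/-- The lift of `r` to sections with proper support. -/
noncomputable def rShApp (F : EtCoh.Ab U) :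
    F ⟶ (EtShriek.restrAlong j).obj ((EtShriek.lowerShriek j).obj F) :=
  ⟨{ app := fun V => AddCommGrpCat.ofHom (AddMonoidHom.mk'
        (fun σ => ((exists_toPush_eq_iff j F _ _).2 (ps_ext0 j F V.unop σ)).choose) fun a b => by
          refine toPush_injective j F ((EtShriek.compEtale j).obj V.unop) ?_
          rw [map_add, ((exists_toPush_eq_iff j F _ _).2 (ps_ext0 j F V.unop a)).choose_spec,
            ((exists_toPush_eq_iff j F _ _).2 (ps_ext0 j F V.unop b)).choose_spec,
            ((exists_toPush_eq_iff j F _ _).2 (ps_ext0 j F V.unop (a + b))).choose_spec]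
          exact ((((r j).app F).hom.app V).hom.map_add a b))
     naturality := fun V V' g => ConcreteCategory.hom_ext _ _ fun σ => by
      refine toPush_injective j F ((EtShriek.compEtale j).obj V'.unop) ?_
      refine (((exists_toPush_eq_iff j F _ _).2 (ps_ext0 j F V'.unop (F.obj.map g σ))).choose_spec).trans ?_
      refine Eq.trans ?_ (NatTrans.naturality_apply (EtShriek.lowerShriekToPush j F).hom
        ((EtShriek.compEtale j).map g.unop).op _).symm
      refine Eq.trans ?_ (congrArg _
        ((exists_toPush_eq_iff j F _ _).2 (ps_ext0 j F V.unop σ)).choose_spec).symm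
      exact NatTrans.naturality_apply ((r j).app F).hom g σ }⟩

lemma rShApp_toPush (F : EtCoh.Ab U) :
    rShApp j F ≫ (EtShriek.restrAlong j).map (EtShriek.lowerShriekToPush j F) = (r j).app F :=
  ObjectProperty.hom_ext _ (NatTrans.ext (funext fun V => ConcreteCategory.hom_ext _ _ fun σ =>
    ((exists_toPush_eq_iff j F _ _).2 (ps_ext0 j F V.unop σ)).choose_spec))

/-- `j_! ⟶ f_!` for separated étale `j`. -/
noncomputable def τShApp (F : EtCoh.Ab U) : (EtShriek.extZero j).obj F ⟶ (EtShriek.lowerShriek j).obj F :=
  ((EtShriek.extZeroAdj j).homEquiv _ _).symm (rShApp j F)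

lemma τShApp_toPush (F : EtCoh.Ab U) :
    τShApp j F ≫ EtShriek.lowerShriekToPush j F = (τ j).app F := by
  rw [τShApp, ← Adjunction.homEquiv_naturality_right_symm, rShApp_toPush]
  rfl

/-- `τShApp` is natural. -/
noncomputable def τSh : EtShriek.extZero j ⟶ EtShriek.lowerShriek j where
  app := τShApp j
  naturality F G α := by
    rw [← cancel_mono (EtShriek.lowerShriekToPush j G), Category.assoc, τShApp_toPush, Category.assoc,
      toPush_naturality, ← Category.assoc, τShApp_toPush]
    exact (τ j).naturality α

instance mono_τShApp (F : EtCoh.Ab U) : Mono (τShApp j F) := by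
  have := mono_τ j F
  exact mono_of_mono_fac (τShApp_toPush j F)

variable {Ω : Type u} [Field Ω] [IsAlgClosed Ω] (η : Spec (CommRingCat.of Ω) ⟶ X)

omit [IsSeparated j] [EtShriek.JCont j] in
/-- Only finitely many points over `η` see a section with proper support. -/
lemma finite_values (F : EtCoh.Ab U) (W : X.Etale) (t : (Scheme.pointSmallEtale η).fiber.obj W)
    (σ : F.obj.obj (op ((EtCoh.bc j).obj W))) (hσ : PS j F W σ) :
    {u : PtOver j η | germ u.1 F ((EtCoh.bc j).obj W) (pairPt j η u W t) σ ≠ 0}.Finite := by
  let q := EtShriek.prV j W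
  let t' : Spec (CommRingCat.of Ω) ⟶ W.left := t.left
  let l : PtOver j η → (Spec (CommRingCat.of Ω) ⟶ pullback q t') := fun u =>
    pullback.lift (pairPt j η u W t).left (𝟙 _) ((pullback.lift_fst _ _ _).trans (Category.id_comp _).symm)
  let g : PtOver j η → ↥(pullback q t') := fun u => (l u).base (IsLocalRing.closedPoint Ω)
  have hg : Function.Injective g := by
    intro u v huv
    have h : l u = l v := ext_of_apply_closedPoint_eq (pullback.snd q t') (pullback.lift_snd _ _ _)
      (pullback.lift_snd _ _ _) huv
    have h1 : (pairPt j η u W t).left = (pairPt j η v W t).left :=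
      (pullback.lift_fst _ _ _).symm.trans ((congrArg (· ≫ pullback.fst q t') h).trans (pullback.lift_fst _ _ _))
    exact Subtype.ext ((pullback.lift_snd _ _ _).symm.trans
      ((congrArg (· ≫ pullback.snd W.hom j) h1).trans (pullback.lift_snd _ _ _)))
  refine Set.Finite.of_finite_image (((finite_fibre q t' _ hσ)).subset ?_) hg.injOn
  rintro _ ⟨u, hu, rfl⟩
  have e : (pullback.fst q t').base (g u) = fiberPoint u.1 (pairPt j η u W t) := by
    refine (Scheme.Hom.comp_apply _ _ _).symm.trans ((congrArg (fun m : Spec (CommRingCat.of Ω) ⟶ ((EtCoh.bc j).obj W).left => m.base (IsLocalRing.closedPoint Ω))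
      (pullback.lift_fst _ _ _)).trans ?_)
    exact congrArg (pairPt j η u W t).left.base (Subsingleton.elim (α := ↥(Spec (CommRingCat.of Ω))) _ _)
  by_contra hn
  exact hu ((germ_eq_zero_iff_mem u.1 F _ σ _).2
    ((notMem_sectSupp_iff F _ σ _).1 fun hm => hn (show (pullback.fst q t').base (g u) ∈ _ from Set.mem_of_eq_of_mem e hm)))

/-- Stalk surjectivity. -/
lemma stalk_surjective (F : EtCoh.Ab U) : Function.Surjective ((EtCoh.stalk η).map (τShApp j F)) := by
  classical
  intro a
  let ι' := (EtCoh.stalk η).map (EtShriek.lowerShriekToPush j F)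
  have hι : Function.Injective ι' := (AddCommGrpCat.mono_iff_injective _).1 inferInstance
  have hval : ∀ b : (EtCoh.stalk η).obj ((EtShriek.lowerShriek j).obj F),
      (∀ u : PtOver j η, proj j η F u (ι' b) = 0) → b = 0 := by
    intro b hb
    obtain ⟨W, t, c, rfl⟩ := germ_surjective η _ b
    refine hι (Eq.trans ?_ (map_zero ι'.hom).symm)
    rw [germ_map]
    refine germ_eq_zero_of_values j η F W t _ (ps_toPush j F W c) fun ξ h => ?_
    have hu := hb ⟨ξ, h⟩
    rw [germ_map, proj_germ] at hu
    exact hu
  obtain ⟨W, t, c, rfl⟩ := germ_surjective η _ a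
  let σ := (EtShriek.lowerShriekToPush j F).hom.app (op W) c
  let v : ∀ u : PtOver j η, (EtCoh.stalk u.1).obj F := fun u =>
    germ u.1 F ((EtCoh.bc j).obj W) (pairPt j η u W t) σ
  have hfin := finite_values j η F W t σ (ps_toPush j F W c)
  let x := ∑ u ∈ hfin.toFinset, inc j η F u (v u)
  refine ⟨x, sub_eq_zero.1 (hval _ fun u' => ?_)⟩
  have e : ι' ((EtCoh.stalk η).map (τShApp j F) x) = (EtCoh.stalk η).map ((τ j).app F) x := by
    rw [← ConcreteCategory.comp_apply, ← Functor.map_comp, τShApp_toPush]
  rw [map_sub, map_sub, e, germ_map, proj_germ, map_sum, map_sum, sub_eq_zero]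
  simp only [proj_τ_inc]
  rw [Finset.sum_eq_single u']
  · exact DirectSum.of_eq_same _ _
  · exact fun u _ hu => DirectSum.of_eq_of_ne _ _ _ (Ne.symm hu)
  · intro hu
    rw [DirectSum.of_eq_same]
    by_contra hne
    exact hu (hfin.mem_toFinset.2 hne)

instance isIso_τShApp (F : EtCoh.Ab U) : IsIso (τShApp j F) := by
  have : Sheaf.IsLocallySurjective (τShApp j F) := by
    refine Groth.EtaleBase.isLocallySurjective_of_exists_stalk_surjective _ fun s => ?_
    exact ⟨AlgebraicClosure (X.residueField s), inferInstance, inferInstance,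
      Spec.map (CommRingCat.ofHom (algebraMap (X.residueField s) (AlgebraicClosure (X.residueField s)))) ≫
        X.fromSpecResidueField s,
      (Scheme.Hom.comp_apply _ _ _).trans (X.fromSpecResidueField_apply s _), stalk_surjective j _ F⟩
  have : Epi (τShApp j F) := inferInstance
  exact isIso_of_mono_of_epi _

/-- `j_!` is `lowerShriek j` for separated étale `j`. -/
noncomputable def iso : EtShriek.extZero j ≅ EtShriek.lowerShriek j :=
  NatIso.ofComponents (fun F => asIso (τShApp j F)) fun α => (τSh j).naturality α

end Groth.EtaleShriek.ExtZeroIso
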