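import Groth.Agent.EtaleShriek.ProperOver
import Groth.Agent.Limits.ProperApprox
import Groth.Agent.Limits.ClosedApprox
import Groth.Agent.Limits.DescentStage
import Groth.Agent.FlatMorOne.MultiSep
import Groth.Agent.HTopHyper.BlowUpProper

/-!
A closed subset proper over the base is contained in one with quasi-compact complement.
-/

set_option autoImplicit false
set_option backward.isDefEq.respectTransparency false
set_option backward.defeqAttrib.useBackward true

universe u

open CategoryTheory CategoryTheory.Limits AlgebraicGeometry Opposite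

namespace Groth.EtaleShriek.ProperNbhd

open Groth.Limits (exists_closedApprox exists_proper_fp_closedImmersion exists_isClosedImmersion_app
  π_app_comp_eq)

/-- In a quasi-compact scheme separated of finite type over a qcqs base, a closed subset proper over
the base lies in a closed subset proper over the base with quasi-compact complement. -/
theorem exists_proper_nbhd {W S : Scheme.{u}} (q : W ⟶ S) [IsSeparated q] [LocallyOfFiniteType q]
    [CompactSpace W] [CompactSpace S] [QuasiSeparatedSpace S] {Z : Set W}
    (hZ : ClSub.IsProperOver q Z) :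
    ∃ C : Set W, Z ⊆ C ∧ ClSub.IsProperOver q C ∧ IsCompact Cᶜ := by
  have : QuasiSeparatedSpace W := quasiSeparatedSpace_of_quasiSeparated q
  let ι := (Scheme.IdealSheafData.vanishingIdeal
    (⟨Z, hZ.1⟩ : TopologicalSpace.Closeds W)).subschemeι
  have hι : Set.range ι = Z := by
    rw [Scheme.IdealSheafData.range_subschemeι, Scheme.IdealSheafData.coe_support_vanishingIdeal]; rfl
  have : IsProper (ι ≫ q) := hZ.2
  obtain ⟨I, _, _, _, D, c, hc, e, hD, hDm⟩ := exists_closedApprox ι
  obtain ⟨P, p, jP, hp, hlfp, hjP, hjp⟩ := exists_proper_fp_closedImmersion (ι ≫ q)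
  have : IsConnected Iᵒᵖ := IsCofiltered.isConnected _
  let D' : Iᵒᵖ ⥤ Scheme.{u} := D ⋙ Over.forget W
  let c' : Cone D' := (Over.forget W).mapCone c
  let hc' : IsLimit c' := isLimitOfPreserves (Over.forget W) hc
  have hcl : ∀ i, IsClosedImmersion (D.obj i).hom := fun i => (hD i).1
  have hfp : ∀ i, LocallyOfFinitePresentation (D.obj i).hom := fun i => (hD i).2
  have hcm : ∀ {i j : Iᵒᵖ} (a : i ⟶ j), IsClosedImmersion (D'.map a) := fun a => hDm _ _ a
  have : ∀ {i j : Iᵒᵖ} (a : i ⟶ j), IsAffineHom (D'.map a) := fun a => by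
    have := hcm a
    infer_instance
  have hcomp : ∀ i, CompactSpace (D'.obj i) := fun i => by
    have := hcl i
    exact (D.obj i).hom.isClosedEmbedding.compactSpace
  have hqs : ∀ i, QuasiSeparatedSpace (D'.obj i) := fun i => by
    have := hcl i
    exact quasiSeparatedSpace_of_quasiSeparated (D.obj i).hom
  let t : D' ⟶ (Functor.const Iᵒᵖ).obj S :=
    { app := fun i => (D.obj i).hom ≫ q
      naturality := fun i j a =>
        ((Category.assoc _ _ _).symm.trans (congrArg (· ≫ q) (Over.w (D.map a)))).trans
          (Category.comp_id _).symm }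
  let a : c'.pt ⟶ P := e.hom.left ≫ jP
  obtain ⟨k, u, hu, hup⟩ := Scheme.exists_π_app_comp_eq_of_locallyOfFinitePresentation D' t p c' hc' a
    (by
      ext i : 2
      change (c.π.app i).left ≫ (D.obj i).hom ≫ q = (e.hom.left ≫ jP) ≫ p
      rw [Category.assoc, hjp, ← Category.assoc, Over.w (c.π.app i), ← Category.assoc]
      exact congrArg (· ≫ q) (Over.w e.hom).symm)
  let D'' : Over k ⥤ Scheme.{u} := Over.forget k ⋙ D'
  let c'' : Cone D'' := c'.whisker (Over.forget k)
  let hc'' : IsLimit c'' := (Functor.Initial.isLimitWhiskerEquiv (Over.forget k) _).symm hc'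
  let t'' : D'' ⟶ (Functor.const (Over k)).obj P :=
    { app := fun l => D'.map l.hom ≫ u
      naturality := fun l m b => by
        refine Eq.trans ?_ (Category.comp_id _).symm
        exact (Category.assoc _ _ _).symm.trans (congrArg (· ≫ u)
          ((D'.map_comp _ _).symm.trans (congrArg D'.map (Over.w b)))) }
  have ht : ∀ l : Over k, t''.app l ≫ p = (D.obj l.left).hom ≫ q := fun l => by
    refine (Category.assoc _ _ _).trans ((congrArg (_ ≫ ·) hup).trans ?_)
    exact (t.naturality l.hom).trans (Category.comp_id _)
  have hltt : ∀ l, LocallyOfFiniteType (t''.app l) := fun l => by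
    have := hcl l.left
    have : LocallyOfFiniteType (t''.app l ≫ p) := by rw [ht]; infer_instance
    exact locallyOfFiniteType_of_comp _ p
  have hltqs : ∀ l, QuasiSeparated (t''.app l) := fun l => by
    have := hqs l.left
    infer_instance
  have : QuasiSeparatedSpace P := quasiSeparatedSpace_of_quasiSeparated p
  have : CompactSpace P := QuasiCompact.compactSpace_of_compactSpace p
  have hltqc : ∀ l, QuasiCompact (t''.app l) := fun l => by
    have := hcl l.left
    have : QuasiCompact (t''.app l ≫ p) := by
      rw [ht]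
      have : QuasiCompact q := inferInstance
      infer_instance
    exact QuasiCompact.of_comp _ p
  have : ∀ l : Over k, CompactSpace (D''.obj l) := fun l => hcomp l.left
  have : ∀ (l m : Over k) (b : l ⟶ m), IsAffineHom (D''.map b) := fun l m b => by
    have := hcm b.left
    exact inferInstanceAs (IsAffineHom (D'.map b.left))
  have : ∀ l : Over k, QuasiSeparatedSpace (D''.obj l) := fun l => hqs l.left
  have hi₀ : IsClosedImmersion (c''.π.app (Over.mk (𝟙 k)) ≫ t''.app (Over.mk (𝟙 k))) := by
    have e1 : c''.π.app (Over.mk (𝟙 k)) ≫ t''.app (Over.mk (𝟙 k)) = e.hom.left ≫ jP := by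
      refine Eq.trans ?_ hu
      exact congrArg (c'.π.app k ≫ ·) ((congrArg (· ≫ u) (D'.map_id k)).trans (Category.id_comp u))
    rw [e1]
    have : IsIso e.hom.left := inferInstanceAs (IsIso ((Over.forget W).map e.hom))
    infer_instance
  obtain ⟨l, hl⟩ := exists_isClosedImmersion_app t'' hc'' (Over.mk (𝟙 k)) (fun _ _ b => hcm b.left)
  have := hl l (𝟙 l)
  have := hcl l.left
  have := hfp l.left
  have hproper : IsProper ((D.obj l.left).hom ≫ q) := by
    rw [← ht l]; infer_instance
  refine ⟨Set.range (D.obj l.left).hom, fun z hz => ?_,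
    (ProperOver.iff_isProper q (D.obj l.left).hom.isClosedEmbedding.isClosed_range _ rfl).2 hproper, ?_⟩
  · obtain ⟨y, rfl⟩ := hι.ge hz
    refine ⟨(c.π.app l.left).left (e.inv.left y), ?_⟩
    rw [← Scheme.Hom.comp_apply, Over.w (c.π.app l.left)]
    exact (Scheme.Hom.comp_apply _ _ _).symm.trans
      (congrArg (fun m : _ ⟶ W => m.base y) (Over.w e.inv))
  · have hc1 := Groth.FlatMorOne.isCompact_compl_support (D.obj l.left).hom.ker
      (Groth.HTopHyper.fg_ker_of_closedImmersion (D.obj l.left).hom)
    rwa [Scheme.Hom.support_ker, (D.obj l.left).hom.isClosedEmbedding.isClosed_range.closure_eq] at hc1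

end Groth.EtaleShriek.ProperNbhd
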