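import Groth.Agent.EtaleShriek.Basic
import Groth.Agent.EtaleShriek.Excision
import Groth.Agent.EtaleShriek.ProperNbhd
import Groth.Agent.EtaleBase.FilteredSections
import Groth.Agent.S0788
import Mathlib.CategoryTheory.Category.ULift

/-!
`f_!` commutes with filtered colimits.
-/

set_option autoImplicit false

universe u

open CategoryTheory CategoryTheory.Limits AlgebraicGeometry Opposite

namespace Groth.EtaleShriek.Filtered

open Groth.EtaleBase (openObj openHom mem_topology_iff section_eq_zero_of_germs)
open Groth.EtaleBase.FilteredSec (exists_eq exists_rep exists_local_rep tr img)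

section open_ext

variable {X : Scheme.{u}} (P : X.Etale) (W : P.left.Opens)

instance isOpenImmersion_openHom : IsOpenImmersion (openHom P W).left :=
  inferInstanceAs (IsOpenImmersion W.ι)

lemma range_openHom : Set.range (openHom P W).left.base = W :=
  Scheme.Opens.range_ι W

/-- Restriction to an open is bijective on sections supported in a closed subset inside it. -/
lemma bijOn_restrict (F : EtCoh.Ab X) (Z : Set P.left) (hZ : IsClosed Z) (hZW : Z ⊆ W) :
    Set.BijOn (F.obj.map (openHom P W).op) {s | EtShriek.sectSupp F P s ⊆ Z}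
      {s' | EtShriek.sectSupp F (openObj P W) s' ⊆ (openHom P W).left.base ⁻¹' Z} := by
  refine Excision.bijOn F (openHom P W) Z hZ ⟨fun _ h => h, ?_, fun z hz => ?_⟩ fun x _ => ?_
  · exact ((openHom P W).left.isOpenEmbedding.injective).injOn
  · obtain ⟨y, rfl⟩ := (range_openHom P W).ge (hZW hz)
    exact ⟨y, hz, rfl⟩
  · exact ConcreteCategory.bijective_of_isIso ((openHom P W).left.residueFieldMap x)

end open_ext

variable {X Y : Scheme.{u}} (f : X ⟶ Y) [IsSeparated f] [LocallyOfFiniteType f]

instance isSeparated_prV (V : Y.Etale) : IsSeparated (EtShriek.prV f V) :=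
  inferInstanceAs (IsSeparated (pullback.fst V.hom f))

omit [IsSeparated f] [LocallyOfFiniteType f] in
lemma exists_qc_open (F : EtCoh.Ab X) (V : Y.Etale) [CompactSpace V.left]
    (s : EtCoh.sect F ((EtCoh.bc f).obj V)) (hs : PS f F V s) :
    ∃ W : ((EtCoh.bc f).obj V).left.Opens,
      IsCompact (W : Set ((EtCoh.bc f).obj V).left) ∧
        EtShriek.sectSupp F ((EtCoh.bc f).obj V) s ⊆ W := by
  let Z := EtShriek.sectSupp F ((EtCoh.bc f).obj V) s
  have hZ : IsCompact Z := by
    let ι := (Scheme.IdealSheafData.vanishingIdeal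
      (⟨Z, hs.1⟩ : TopologicalSpace.Closeds ((EtCoh.bc f).obj V).left)).subschemeι
    have : IsProper (ι ≫ EtShriek.prV f V) := hs.2
    have := QuasiCompact.compactSpace_of_compactSpace (ι ≫ EtShriek.prV f V)
    have hr : Set.range ι = Z := by
      rw [Scheme.IdealSheafData.range_subschemeι, Scheme.IdealSheafData.coe_support_vanishingIdeal]; rfl
    rw [← hr]
    exact isCompact_range ι.continuous
  have hU : ∀ x : ((EtCoh.bc f).obj V).left, ∃ U : ((EtCoh.bc f).obj V).left.Opens,
      IsAffineOpen U ∧ x ∈ U := fun x => by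
    obtain ⟨U, hU, hx, -⟩ := exists_isAffineOpen_mem_and_subset (x := x)
      (U := (⊤ : ((EtCoh.bc f).obj V).left.Opens)) trivial
    exact ⟨U, hU, hx⟩
  choose U hUa hxU using hU
  obtain ⟨t, ht⟩ := hZ.elim_finite_subcover (fun x => (U x : Set ((EtCoh.bc f).obj V).left))
    (fun x => (U x).isOpen) (fun x _ => Set.mem_iUnion.2 ⟨x, hxU x⟩)
  refine ⟨⟨⋃ x ∈ t, (U x : Set ((EtCoh.bc f).obj V).left), isOpen_biUnion fun x _ => (U x).isOpen⟩,
    t.isCompact_biUnion fun x _ => (hUa x).isCompact, ht⟩

variable {I : Type (u + 1)} [SmallCategory I] [IsFiltered I] {F : I ⥤ EtCoh.Ab X} (c : Cocone F)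

omit [IsSeparated f] [IsFiltered I] [LocallyOfFiniteType f] in
lemma ps_img {i : I} (V : Y.Etale) (a : EtCoh.sect (F.obj i) ((EtCoh.bc f).obj V))
    (ha : PS f (F.obj i) V a) : PS f c.pt V (img c a) :=
  ProperOver.mono _ ha (isClosed_sectSupp _ _ _) (EtShriek.sectSupp_map_subset (c.ι.app i) _ a)

omit [IsSeparated f] [LocallyOfFiniteType f] in
/-- A section with proper support vanishing in the colimit vanishes at a later stage. -/
lemma exists_tr_eq_zero (hc : IsColimit c) {i : I} (V : Y.Etale) [IsAffine V.left]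
    (a : EtCoh.sect (F.obj i) ((EtCoh.bc f).obj V)) (ha : PS f (F.obj i) V a) (h0 : img c a = 0) :
    ∃ (k : I) (m : i ⟶ k), tr m a = 0 := by
  obtain ⟨W, hWc, hZW⟩ := exists_qc_open f (F.obj i) V a ha
  let P := (EtCoh.bc f).obj V
  have : CompactSpace (openObj P W).left := isCompact_iff_compactSpace.1 hWc
  have e : img c ((F.obj i).obj.map (openHom P W).op a) = img c (0 : EtCoh.sect (F.obj i) (openObj P W)) := by
    refine (NatTrans.naturality_apply (c.ι.app i).hom (openHom P W).op a).trans ?_
    refine (congrArg (c.pt.obj.map (openHom P W).op) h0).trans ?_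
    exact (map_zero (c.pt.obj.map (openHom P W).op).hom).trans
      (map_zero ((c.ι.app i).hom.app (op (openObj P W))).hom).symm
  obtain ⟨k, m, m', hm⟩ := exists_eq c hc _ _ e
  refine ⟨k, m, (eq_zero_iff (F.obj k) P _).2 (Set.eq_empty_iff_forall_notMem.2 fun x hx => ?_)⟩
  have h1 : (F.obj k).obj.map (openHom P W).op (tr m a) = 0 :=
    (NatTrans.naturality_apply (F.map m).hom (openHom P W).op a).symm.trans
      (hm.trans (map_zero ((F.map m').hom.app (op (openObj P W))).hom))
  exact ((map_eq_zero_iff (F.obj k) (openHom P W) _).1 h1).le_bot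
    (show x ∈ _ ⊓ _ from ⟨(range_openHom P W).ge (hZW (EtShriek.sectSupp_map_subset (F.map m) P a hx)), hx⟩)

set_option maxHeartbeats 800000 in
/-- A section with proper support of the colimit comes from one with proper support at a stage. -/
lemma exists_rep_ps (hc : IsColimit c) (V : Y.Etale) [IsAffine V.left]
    (s : EtCoh.sect c.pt ((EtCoh.bc f).obj V)) (hs : PS f c.pt V s) :
    ∃ (i : I) (a : EtCoh.sect (F.obj i) ((EtCoh.bc f).obj V)), PS f (F.obj i) V a ∧ img c a = s := by
  obtain ⟨W, hWc, hZW⟩ := exists_qc_open f c.pt V s hs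
  let P := (EtCoh.bc f).obj V
  let q := (openHom P W).left ≫ EtShriek.prV f V
  have : CompactSpace (openObj P W).left := isCompact_iff_compactSpace.1 hWc
  have : QuasiSeparatedSpace (openObj P W).left := quasiSeparatedSpace_of_quasiSeparated q
  let Z : Set P.left := EtShriek.sectSupp c.pt P s
  let Z' : Set (openObj P W).left := (openHom P W).left.base ⁻¹' Z
  have hZ' : ClSub.IsProperOver q Z' := by
    let ι := (Scheme.IdealSheafData.vanishingIdeal (⟨Z, hs.1⟩ : TopologicalSpace.Closeds P.left)).subschemeι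
    have hr : Set.range ι = Z := by
      rw [Scheme.IdealSheafData.range_subschemeι, Scheme.IdealSheafData.coe_support_vanishingIdeal]; rfl
    let l := IsOpenImmersion.lift (openHom P W).left ι (by rw [range_openHom, hr]; exact hZW)
    have hl : l ≫ (openHom P W).left = ι := IsOpenImmersion.lift_fac _ _ _
    have : IsClosedImmersion (l ≫ (openHom P W).left) := by rw [hl]; infer_instance
    have : IsClosedImmersion l := IsClosedImmersion.of_comp l (openHom P W).left
    refine (ProperOver.iff_isProper q (hs.1.preimage (openHom P W).left.continuous) l ?_).2 ?_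
    · ext w
      constructor
      · rintro ⟨y, rfl⟩
        show (openHom P W).left.base (l.base y) ∈ Z
        rw [← Scheme.Hom.comp_apply, hl]
        exact hr.le ⟨y, rfl⟩
      · intro hw
        obtain ⟨y, hy⟩ := hr.ge hw
        refine ⟨y, (openHom P W).left.isOpenEmbedding.injective ?_⟩
        rw [← Scheme.Hom.comp_apply, hl, hy]
    · show IsProper (l ≫ (openHom P W).left ≫ EtShriek.prV f V)
      rw [← Category.assoc, hl]
      exact hs.2
  obtain ⟨C, hZC, hC, hCc⟩ := ProperNbhd.exists_proper_nbhd q hZ'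
  obtain ⟨i, t, ht⟩ := exists_rep c hc (c.pt.obj.map (openHom P W).op s)
  let O : (openObj P W).left.Opens := ⟨Cᶜ, hC.1.isOpen_compl⟩
  have : CompactSpace (openObj (openObj P W) O).left := isCompact_iff_compactSpace.1 hCc
  have e : img c ((F.obj i).obj.map (openHom (openObj P W) O).op t) =
      img c (0 : EtCoh.sect (F.obj i) (openObj (openObj P W) O)) := by
    refine (NatTrans.naturality_apply (c.ι.app i).hom _ t).trans ?_
    refine (congrArg (c.pt.obj.map (openHom (openObj P W) O).op) ht).trans ?_
    refine Eq.trans ?_ (map_zero ((c.ι.app i).hom.app (op (openObj (openObj P W) O))).hom).symm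
    refine (map_eq_zero_iff c.pt _ _).2 (Set.disjoint_left.2 fun x hx hx' => ?_)
    rw [range_openHom] at hx
    rw [sectSupp_map] at hx'
    exact hx (hZC hx')
  obtain ⟨k, m, m', hm⟩ := exists_eq c hc _ _ e
  have hsupp : EtShriek.sectSupp (F.obj k) (openObj P W) (tr m t) ⊆ C := fun x hx => by
    by_contra hn
    have h1 : (F.obj k).obj.map (openHom (openObj P W) O).op (tr m t) = 0 :=
      (NatTrans.naturality_apply (F.map m).hom _ t).symm.trans
        (hm.trans (map_zero ((F.map m').hom.app (op (openObj (openObj P W) O))).hom))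
    exact ((map_eq_zero_iff (F.obj k) (openHom (openObj P W) O) _).1 h1).le_bot
      (show x ∈ _ ⊓ _ from ⟨(range_openHom (openObj P W) O).ge hn, hx⟩)
  let C' : Set P.left := (openHom P W).left.base '' C
  have hC' : ClSub.IsProperOver (EtShriek.prV f V) C' :=
    Groth.Agent.S0788.result q (EtShriek.prV f V) (openHom P W).left rfl C hC
  have hC'W : C' ⊆ W := by rintro _ ⟨x, -, rfl⟩; exact (range_openHom P W).le ⟨x, rfl⟩
  have hZC' : Z ⊆ C' := fun z hz => by
    obtain ⟨w, rfl⟩ := (range_openHom P W).ge (hZW hz)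
    exact ⟨w, hZC hz, rfl⟩
  have hpre : (openHom P W).left.base ⁻¹' C' = C :=
    Set.preimage_image_eq C (openHom P W).left.isOpenEmbedding.injective
  obtain ⟨T, hT, hTt⟩ := (bijOn_restrict P W (F.obj k) C' hC'.1 hC'W).2.2
    (show tr m t ∈ _ from hsupp.trans hpre.ge)
  refine ⟨k, T, ProperOver.mono _ hC' (isClosed_sectSupp _ _ _) hT, ?_⟩
  refine (bijOn_restrict P W c.pt C' hC'.1 hC'W).2.1
    ((EtShriek.sectSupp_map_subset (c.ι.app k) P T).trans hT) hZC' ?_
  refine (NatTrans.naturality_apply (c.ι.app k).hom (openHom P W).op T).symm.trans ?_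
  refine (congrArg ((c.ι.app k).hom.app (op (openObj P W))) hTt).trans ?_
  exact (Groth.EtaleBase.FilteredSec.img_tr c m t).trans ht

omit [IsSeparated f] [IsFiltered I] in
lemma toPush_map {A B : EtCoh.Ab X} (α : A ⟶ B) (V : Y.Etale)
    (x : ((EtShriek.lowerShriek f).obj A).obj.obj (op V)) :
    (EtShriek.lowerShriekToPush f B).hom.app (op V) (((EtShriek.lowerShriek f).map α).hom.app (op V) x) =
      α.hom.app (op ((EtCoh.bc f).obj V)) ((EtShriek.lowerShriekToPush f A).hom.app (op V) x) :=
  ConcreteCategory.congr_hom (congrArg (fun m => m.hom.app (op V)) (toPush_naturality f α)) x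

omit [IsSeparated f] [LocallyOfFiniteType f] in
/-- Affine open pieces cover. -/
lemma exists_affine_mem (U : Y.Etale) (u : U.left) :
    ∃ (O : U.left.Opens), IsAffine (openObj U O).left ∧ ∃ v, (openHom U O).left.base v = u := by
  obtain ⟨O, hO, hu, -⟩ := exists_isAffineOpen_mem_and_subset (x := u) (U := (⊤ : U.left.Opens)) trivial
  exact ⟨O, hO, ⟨u, hu⟩, rfl⟩

set_option maxHeartbeats 800000 in
theorem isIso_comparison (hc : IsColimit c) :
    IsIso (colimit.desc (F ⋙ EtShriek.lowerShriek f) ((EtShriek.lowerShriek f).mapCocone c)) := by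
  let G := EtShriek.lowerShriek f
  let d := colimit.cocone (F ⋙ G)
  have hd : IsColimit d := colimit.isColimit _
  let φ : d.pt ⟶ G.obj c.pt := colimit.desc (F ⋙ G) (G.mapCocone c)
  have hφ : ∀ (i : I) (V : Y.Etale) (a : (G.obj (F.obj i)).obj.obj (op V)),
      φ.hom.app (op V) (img d a) = (G.map (c.ι.app i)).hom.app (op V) a := fun i V a =>
    ConcreteCategory.congr_hom (congrArg (fun m => m.hom.app (op V))
      (colimit.ι_desc (G.mapCocone c) i)) a
  show IsIso φ
  have : Mono φ := by
    refine Sheaf.mono_of_injective φ fun U => ?_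
    rw [injective_iff_map_eq_zero]
    intro σ hσ
    refine section_eq_zero_of_germs d.pt U.unop σ fun u => ?_
    obtain ⟨O, hO, v, hv⟩ := exists_affine_mem U.unop u
    obtain ⟨κ, _, V, g, hV, hcov, hloc⟩ := exists_local_rep d hd (d.pt.obj.map (openHom U.unop O).op σ)
    obtain ⟨W, k, w, hk, hw⟩ := (mem_topology_iff _).1 hcov v
    obtain ⟨_, p, _, ⟨q⟩, rfl⟩ := hk
    refine ⟨V q, g q ≫ openHom U.unop O, ⟨p.left.base w, ?_⟩, ?_⟩
    · rw [← hv, ← hw]; rfl
    have := hV q
    obtain ⟨i, t, ht⟩ := hloc q
    rw [op_comp, Functor.map_comp_apply, ← ht]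
    have h0 : img c ((EtShriek.lowerShriekToPush f (F.obj i)).hom.app (op (V q)) t) = 0 := by
      refine (toPush_map f (c.ι.app i) (V q) t).symm.trans ?_
      refine (congrArg ((EtShriek.lowerShriekToPush f c.pt).hom.app (op (V q)))
        ((hφ i (V q) t).symm.trans ?_)).trans (map_zero _)
      rw [ht, NatTrans.naturality_apply φ.hom (g q).op, NatTrans.naturality_apply φ.hom (openHom U.unop O).op,
        hσ, map_zero, map_zero]
    obtain ⟨k, m, hm⟩ := exists_tr_eq_zero f c hc (V q) _ (ps_toPush f (F.obj i) (V q) t) h0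
    have h1 : tr (F := F ⋙ G) m t = 0 := toPush_injective f (F.obj k) (V q)
      ((toPush_map f (F.map m) (V q) t).trans (hm.trans (map_zero _).symm))
    exact (Groth.EtaleBase.FilteredSec.img_tr d m t).symm.trans
      ((congrArg (img d) h1).trans (map_zero _))
  have : Sheaf.IsLocallySurjective φ := by
    constructor
    intro U σ
    rw [mem_topology_iff]
    intro u
    obtain ⟨O, hO, v, hv⟩ := exists_affine_mem U u
    refine ⟨openObj U O, openHom U O, v, ?_, hv⟩
    let σ' := (G.obj c.pt).obj.map (openHom U O).op σ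
    obtain ⟨i, a, ha, hi⟩ := exists_rep_ps f c hc (openObj U O)
      ((EtShriek.lowerShriekToPush f c.pt).hom.app (op (openObj U O)) σ') (ps_toPush f c.pt _ σ')
    obtain ⟨b, hb⟩ := (exists_toPush_eq_iff f (F.obj i) (openObj U O) a).2 ha
    refine ⟨img d b, ?_⟩
    show φ.hom.app _ (img d b) = σ'
    rw [hφ]
    refine toPush_injective f c.pt (openObj U O) ((toPush_map f (c.ι.app i) _ b).trans ?_)
    rw [hb]
    exact hi
  have : Epi φ := inferInstance
  exact isIso_of_mono_of_epi φ

theorem preservesColimitsOfShape_big (I : Type (u + 1)) [SmallCategory I] [IsFiltered I] :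
    PreservesColimitsOfShape I (EtShriek.lowerShriek f) :=
  ⟨fun {F} => ⟨fun {c} hc => ⟨by
    have := isIso_comparison f c hc
    have : IsIso ((colimit.isColimit (F ⋙ EtShriek.lowerShriek f)).desc
        ((EtShriek.lowerShriek f).mapCocone c)) := this
    exact IsColimit.ofPointIso (colimit.isColimit _)⟩⟩⟩

/-- `f_!` commutes with small filtered colimits. -/
theorem preservesFilteredColimits : PreservesFilteredColimitsOfSize.{u, u} (EtShriek.lowerShriek f) := by
  refine ⟨fun J catJ _ => ?_⟩
  let _ : Category.{u} J := catJ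
  have : IsFiltered (AsSmall.{u + 1} J) := IsFiltered.of_equivalence AsSmall.equiv
  have := preservesColimitsOfShape_big f (AsSmall.{u + 1} J)
  exact preservesColimitsOfShape_of_equiv (AsSmall.equiv (C := J)).symm _

end Groth.EtaleShriek.Filtered
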