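import Groth.Agent.EtaleShriek.FlatConnDescent

/-!
Base change in degree zero along flat morphisms with etale-locally geometrically connected fibres.
-/

set_option autoImplicit false
set_option backward.isDefEq.respectTransparency.types false

universe u

open CategoryTheory CategoryTheory.Limits AlgebraicGeometry Opposite

namespace Groth.EtaleShriek.FlatConnBC

attribute [local simp] pullback.lift_fst pullback.lift_snd pullback.lift_fst_assoc pullback.lift_snd_assoc

open Groth.EtaleBase (bcSq bcSq_fst fiberPoint geomPoint geomPoint_apply fiber_bc_ext pushLift pushLift_map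
  exists_fiber_lift)
open Groth.DescentBase (shStalk shStalkPullIso shGerm shGerm_surjective shGerm_eq_iff shGerm_eq_iff_mem
  shSection_ext stalk_baseChange0_germ isIso_of_acPoints acPoint)
open Groth.EtaleShriek.BCSets (sg sg_res)

variable {X S Y T : Scheme.{u}}

lemma comp_aux {A B C W T' Y' : Scheme.{u}} (m : A ⟶ B) (k : B ⟶ C) (p : C ⟶ W) (q : C ⟶ Y') (w : W ⟶ T')
    (e : Y' ⟶ T') (b : B ⟶ Y') (hpq : p ≫ w = q ≫ e) (hk : k ≫ q = b) :
    (m ≫ k ≫ p) ≫ w = (m ≫ b) ≫ e := by
  simp [← hk, hpq]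

lemma square_aux {P U V Y' X' S' T' : Scheme.{u}} {p : P ⟶ U} {q : P ⟶ Y'} {u : U ⟶ X'} {h : Y' ⟶ X'}
    {a : U ⟶ V} {v : V ⟶ S'} {f : X' ⟶ S'} {g : T' ⟶ S'} {e : Y' ⟶ T'} (hpq : p ≫ u = q ≫ h)
    (ha : a ≫ v = u ≫ f) (w : e ≫ g = h ≫ f) : (p ≫ a) ≫ v = (q ≫ e) ≫ g := by
  rw [Category.assoc, Category.assoc, ha, reassoc_of% hpq, w]

lemma point_aux {A U V X' S' : Scheme.{u}} {t : A ⟶ U} {u : U ⟶ X'} {η : A ⟶ X'}
    {a : U ⟶ V} {v : V ⟶ S'} {f : X' ⟶ S'} (ht : t ≫ u = η) (ha : a ≫ v = u ≫ f) :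
    (t ≫ a) ≫ v = η ≫ f := by
  rw [Category.assoc, ha, reassoc_of% ht]

lemma rel_map {e : Y ⟶ T} {F : EtDesc.Sh T} {B : Y.Etale} {W : T.Etale} (k : B ⟶ (EtCoh.bc e).obj W)
    (σ : F.obj.obj (op W)) {K : Type u} [Field K] [IsSepClosed K] (m : Spec (CommRingCat.of K) ⟶ B.left) :
    Rel e F (((EtDesc.pullSh e).obj F).obj.map k.op (un e F W σ)) m W
      (m ≫ k.left ≫ pullback.fst W.hom e) σ := by
  have hw : k.left ≫ pullback.snd W.hom e = B.hom := MorphismProperty.Over.w k
  have hl : (m ≫ k.left ≫ pullback.fst W.hom e) ≫ W.hom = (m ≫ B.hom) ≫ e :=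
    comp_aux m k.left _ _ _ e _ pullback.condition hw
  refine ⟨hl, sg_res _ _ k m rfl _ _ ?_ _⟩
  apply pullback.hom_ext
  · exact (Category.assoc _ _ _).trans (pullback.lift_fst _ _ _).symm
  · exact ((Category.assoc _ _ _).trans (congrArg (m ≫ ·) hw)).trans (pullback.lift_snd _ _ _).symm

/-- Sections given everywhere by the same section are equal. -/
lemma eq_of_rel {e : Y ⟶ T} {F : EtDesc.Sh T} {B : Y.Etale} {W : T.Etale}
    (x y : ((EtDesc.pullSh e).obj F).obj.obj (op B)) (μ : B.left ⟶ W.left) (σ : F.obj.obj (op W))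
    (hx : ∀ (K : Type u) [Field K] [IsSepClosed K] (m : Spec (CommRingCat.of K) ⟶ B.left),
      Rel e F x m W (m ≫ μ) σ)
    (hy : ∀ (K : Type u) [Field K] [IsSepClosed K] (m : Spec (CommRingCat.of K) ⟶ B.left),
      Rel e F y m W (m ≫ μ) σ) : x = y := by
  refine shSection_ext _ B x y fun b => ?_
  let m := geomPoint b
  obtain ⟨_, h₁⟩ := hx _ m
  obtain ⟨_, h₂⟩ := hy _ m
  have h := (shGerm_eq_iff_mem (m ≫ B.hom) _ B x y (Over.homMk m rfl)).1 (h₁.trans h₂.symm)
  have hp : fiberPoint (m ≫ B.hom) (Over.homMk m rfl : (Scheme.pointSmallEtale (m ≫ B.hom)).fiber.obj B) = b :=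
    geomPoint_apply b _
  rwa [hp] at h

section square

variable {f : X ⟶ S} {g : T ⟶ S} {h : Y ⟶ X} {e : Y ⟶ T} (c : IsPullback e h g f)
  {U : X.Etale} {V : S.Etale} (a : U.left ⟶ V.left) (ha : a ≫ V.hom = U.hom ≫ f)

/-- The base change of `a` along `g`. -/
noncomputable def mu : ((EtCoh.bc h).obj U).left ⟶ ((EtCoh.bc g).obj V).left :=
  pullback.lift (pullback.fst U.hom h ≫ a) (pullback.snd U.hom h ≫ e)
    (square_aux pullback.condition ha c.w)

lemma mu_hom : mu c a ha ≫ ((EtCoh.bc g).obj V).hom = ((EtCoh.bc h).obj U).hom ≫ e :=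
  pullback.lift_snd _ _ _

lemma mu_isPullback : IsPullback (pullback.fst U.hom h) (mu c a ha) a (pullback.fst V.hom g) := by
  have s : IsPullback (pullback.snd U.hom h ≫ e) (pullback.fst U.hom h) g (U.hom ≫ f) :=
    (IsPullback.of_hasPullback U.hom h).flip.paste_horiz c
  have h₁ : mu c a ha ≫ pullback.snd V.hom g = pullback.snd U.hom h ≫ e := pullback.lift_snd _ _ _
  rw [← h₁, ← ha] at s
  exact (IsPullback.of_right s (pullback.lift_fst _ _ _) (IsPullback.of_hasPullback V.hom g).flip).flip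

/-- The morphism to `bc f V` given by `a`. -/
noncomputable def psi : U ⟶ (EtCoh.bc f).obj V :=
  MorphismProperty.Over.homMk (pullback.lift a U.hom ha) (pullback.lift_snd _ _ _)

lemma psi_fst : (psi a ha).left ≫ pullback.fst V.hom f = a := pullback.lift_fst _ _ _

/-- The morphism to `bc e (bc g V)` given by `a`. -/
noncomputable def kap : (EtCoh.bc h).obj U ⟶ (EtCoh.bc e).obj ((EtCoh.bc g).obj V) :=
  (EtCoh.bc h).map (psi a ha) ≫ bcSq g f h e c.w V

lemma kap_fst : (kap c a ha).left ≫ pullback.fst ((EtCoh.bc g).obj V).hom e = mu c a ha := by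
  apply pullback.hom_ext
  · show (((EtCoh.bc h).map (psi a ha)).left ≫ (bcSq g f h e c.w V).left) ≫ _ ≫ _ = _
    refine Eq.trans ?_ (pullback.lift_fst _ _ _).symm
    rw [Category.assoc]
    erw [bcSq_fst]
    refine (Category.assoc _ _ _).symm.trans ?_
    refine (congrArg (· ≫ pullback.fst V.hom f) (pullback.lift_fst _ _ _)).trans ?_
    exact (Category.assoc _ _ _).trans (congrArg (pullback.fst U.hom h ≫ ·) (psi_fst a ha))
  · refine Eq.trans ?_ (mu_hom c a ha).symm
    exact ((Category.assoc _ _ _).trans ((congrArg ((kap c a ha).left ≫ ·) pullback.condition).trans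
      (Category.assoc _ _ _).symm)).trans (congrArg (· ≫ e) (MorphismProperty.Over.w (kap c a ha)))

end square

section main

variable {f : X ⟶ S} [Flat f] {g : T ⟶ S} {h : Y ⟶ X} {e : Y ⟶ T} (c : IsPullback e h g f)
  (F : EtDesc.Sh T) {Ω : Type u} [Field Ω] [IsAlgClosed Ω] (η : Spec (CommRingCat.of Ω) ⟶ X)
  (hcov : ∀ U : X.Etale, ∃ (ι : Type u) (Uc : ι → X.Etale) (mU : ∀ i, Uc i ⟶ U),
    (∀ y : U.left, ∃ (i : ι) (z : (Uc i).left), (mU i).left.base z = y) ∧
    ∀ i, ∃ (V : S.Etale) (a : (Uc i).left ⟶ V.left),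
      a ≫ V.hom = (Uc i).hom ≫ f ∧ QuasiCompact a ∧ GeometricallyConnected a)

include hcov in
/-- A refined neighbourhood with a factorization through a flat quasi-compact morphism with geometrically
connected fibres. -/
lemma exists_refine (W : X.Etale) (w : (Scheme.pointSmallEtale η).fiber.obj W) :
    ∃ (U : X.Etale) (m : U ⟶ W) (u : (Scheme.pointSmallEtale η).fiber.obj U) (V : S.Etale)
      (a : U.left ⟶ V.left), (Scheme.pointSmallEtale η).fiber.map m u = w ∧
      a ≫ V.hom = U.hom ≫ f ∧ QuasiCompact a ∧ GeometricallyConnected a ∧ Flat a := by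
  obtain ⟨ι, Uc, mU, hsurj, hfac⟩ := hcov W
  obtain ⟨i, z, hz⟩ := hsurj (fiberPoint η w)
  obtain ⟨u, hu, -⟩ := exists_fiber_lift η (mU i) w z hz
  obtain ⟨V, a, ha, hqc, hgc⟩ := hfac i
  refine ⟨Uc i, mU i, u, V, a, hu, ha, hqc, hgc, ?_⟩
  have : Etale V.hom := V.prop
  have : Etale (Uc i).hom := (Uc i).prop
  have : Flat (a ≫ V.hom) := ha ▸ inferInstance
  exact flat_of_comp_etale a V.hom

include hcov in
set_option maxHeartbeats 1000000 in
lemma injective_stalk :
    Function.Injective ((shStalk η).map (EtBC.baseChange0Sh g f h e c.w F)) := by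
  intro x y hxy
  obtain ⟨x₀, rfl⟩ : ∃ x₀, (shStalkPullIso f η).hom.app ((EtDesc.pushSh g).obj F) x₀ = x :=
    ((isIso_iff_bijective ((shStalkPullIso f η).hom.app _)).1 inferInstance).2 x
  obtain ⟨y₀, rfl⟩ : ∃ y₀, (shStalkPullIso f η).hom.app ((EtDesc.pushSh g).obj F) y₀ = y :=
    ((isIso_iff_bijective ((shStalkPullIso f η).hom.app _)).1 inferInstance).2 y
  obtain ⟨V₁, s₁, σ₁, rfl⟩ := shGerm_surjective _ _ x₀
  obtain ⟨V₂, s₂, σ₂, rfl⟩ := shGerm_surjective _ _ y₀
  -- a common neighbourhood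
  let Φ := Scheme.pointSmallEtale (η ≫ f)
  obtain ⟨V₀, pm, qm, -⟩ := IsCofilteredOrEmpty.cone_objs (C := Φ.fiber.Elements)
    (Functor.elementsMk _ V₁ s₁) (Functor.elementsMk _ V₂ s₂)
  obtain ⟨V₀, s₀⟩ := V₀
  let p : V₀ ⟶ V₁ := pm.1
  let q : V₀ ⟶ V₂ := qm.1
  have hp : Φ.fiber.map p s₀ = s₁ := pm.2
  have hq : Φ.fiber.map q s₀ = s₂ := qm.2
  let P := (EtDesc.pushSh g).obj F
  have e₁ : shGerm (η ≫ f) P V₁ s₁ σ₁ = shGerm (η ≫ f) P V₀ s₀ (P.obj.map p.op σ₁) := by
    rw [← hp]; exact (Φ.toPresheafFiber_w_apply p s₀ P.obj σ₁).symm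
  have e₂ : shGerm (η ≫ f) P V₂ s₂ σ₂ = shGerm (η ≫ f) P V₀ s₀ (P.obj.map q.op σ₂) := by
    rw [← hq]; exact (Φ.toPresheafFiber_w_apply q s₀ P.obj σ₂).symm
  rw [e₁, e₂] at hxy ⊢
  rw [stalk_baseChange0_germ g f h e c, stalk_baseChange0_germ g f h e c] at hxy
  obtain ⟨W, r, w, hw, hr⟩ := (shGerm_eq_iff η _ _ _ _ _).1 hxy
  refine congrArg ((shStalkPullIso f η).hom.app ((EtDesc.pushSh g).obj F)) ?_
  obtain ⟨U, m, u, V, a, hu, ha, hqc, hgc, hfl⟩ := exists_refine η hcov W w
  let b : U.left ⟶ V₀.left := (m ≫ r).left ≫ pullback.fst V₀.hom f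
  have hb : b ≫ V₀.hom = a ≫ V.hom := by
    refine (Category.assoc _ _ _).trans ?_
    refine ((congrArg ((m ≫ r).left ≫ ·) pullback.condition).trans (Category.assoc _ _ _).symm).trans ?_
    exact (congrArg (· ≫ f) (MorphismProperty.Over.w (m ≫ r))).trans ha.symm
  have : Etale V₀.hom := V₀.prop
  obtain ⟨c', hc', hc'w⟩ := exists_factor a V.hom V₀.hom b hb
  let d : V ⟶ V₀ := MorphismProperty.Over.homMk c' hc'w
  let s : Φ.fiber.obj V := Over.homMk (u.left ≫ a) (point_aux (Over.w u) ha)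
  have hs : Φ.fiber.map d s = s₀ := by
    apply Over.OverMorphism.ext
    show (u.left ≫ a) ≫ c' = s₀.left
    refine ((Category.assoc _ _ _).trans (congrArg (u.left ≫ ·) hc')).trans ?_
    have h1 : u.left ≫ (m ≫ r).left = (pushLift f η rfl V₀ s₀).left := by
      rw [← hw, ← hu]
      exact (Category.assoc _ _ _).symm
    exact ((Category.assoc _ _ _).symm.trans (congrArg (· ≫ pullback.fst V₀.hom f) h1)).trans
      (pullback.lift_fst _ _ _)
  rw [← hs]
  refine (Φ.toPresheafFiber_w_apply d s P.obj _).symm.trans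
    ((congrArg (shGerm (η ≫ f) P V s) ?_).trans (Φ.toPresheafFiber_w_apply d s P.obj _))
  -- both sections induce the same section on `bc h U`
  let μ := mu c a ha
  have : Flat μ := MorphismProperty.of_isPullback (mu_isPullback c a ha) hfl
  have : QuasiCompact μ := MorphismProperty.of_isPullback (mu_isPullback c a ha) hqc
  have : GeometricallyConnected μ := MorphismProperty.of_isPullback (mu_isPullback c a ha) hgc
  let k := (EtCoh.bc h).map (m ≫ r) ≫ bcSq g f h e c.w V₀
  have hk : k.left ≫ pullback.fst ((EtCoh.bc g).obj V₀).hom e = μ ≫ ((EtCoh.bc g).map d).left := by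
    have h1 : μ ≫ ((EtCoh.bc g).map d).left =
        (kap c a ha).left ≫ pullback.fst ((EtCoh.bc g).obj V).hom e ≫ ((EtCoh.bc g).map d).left := by
      rw [← Category.assoc, kap_fst]
    apply pullback.hom_ext
    · show (((EtCoh.bc h).map (m ≫ r)).left ≫ (bcSq g f h e c.w V₀).left) ≫ _ ≫ _ = _
      rw [Category.assoc]
      erw [bcSq_fst]
      refine (Category.assoc _ _ _).symm.trans ?_
      refine (congrArg (· ≫ pullback.fst V₀.hom f) (pullback.lift_fst _ _ _)).trans ?_
      refine (Category.assoc _ _ _).trans ((congrArg (pullback.fst U.hom h ≫ ·) hc'.symm).trans ?_)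
      refine ((Category.assoc _ _ _).symm.trans ?_)
      refine Eq.trans ?_ ((Category.assoc _ _ _).trans (congrArg (μ ≫ ·) (pullback.lift_fst _ _ _))).symm
      exact ((Category.assoc _ _ _).symm.trans (congrArg (· ≫ c') (pullback.lift_fst _ _ _))).symm
    · refine (((Category.assoc _ _ _).trans ((congrArg (k.left ≫ ·) pullback.condition).trans
        (Category.assoc _ _ _).symm)).trans (congrArg (· ≫ e) (MorphismProperty.Over.w k))).trans ?_
      refine Eq.trans ?_ ((Category.assoc _ _ _).trans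
        (congrArg (μ ≫ ·) (MorphismProperty.Over.w ((EtCoh.bc g).map d)))).symm
      exact (mu_hom c a ha).symm
  let G := (EtDesc.pullSh e).obj F
  let σ' := G.obj.map k.op (un e F _ (P.obj.map p.op σ₁))
  have hσ' : σ' = G.obj.map k.op (un e F _ (P.obj.map q.op σ₂)) := by
    have hh := congrArg (G.obj.map ((EtCoh.bc h).map m).op) hr
    simp only [σ', k, Functor.map_comp, op_comp, ConcreteCategory.comp_apply]
    exact hh
  have good : ∀ σ : F.obj.obj (op ((EtCoh.bc g).obj V₀)), σ' = G.obj.map k.op (un e F _ σ) →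
      Good σ' (mu_hom c a ha) (𝟙 ((EtCoh.bc g).obj V)) (F.obj.map ((EtCoh.bc g).map d).op σ) := by
    intro σ hσ
    rw [good_iff]
    intro K _ _ m l hl
    rw [rel_res, hσ]
    have hl' : l = m ≫ μ := ((Category.comp_id l).symm.trans hl)
    rw [show l ≫ ((EtCoh.bc g).map d).left = m ≫ k.left ≫ pullback.fst _ e by
      rw [hl', hk]; exact Category.assoc _ _ _]
    exact rel_map k σ m
  exact (good _ rfl).unique (good _ hσ')

include hcov in
set_option maxHeartbeats 1000000 in
lemma surjective_stalk :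
    Function.Surjective ((shStalk η).map (EtBC.baseChange0Sh g f h e c.w F)) := by
  intro x
  obtain ⟨W, w, σ', rfl⟩ := shGerm_surjective η _ x
  obtain ⟨U, m, u, V, a, hu, ha, hqc, hgc, hfl⟩ := exists_refine η hcov W w
  let G := (EtDesc.pullSh e).obj F
  let μ := mu c a ha
  have : Flat μ := MorphismProperty.of_isPullback (mu_isPullback c a ha) hfl
  have : QuasiCompact μ := MorphismProperty.of_isPullback (mu_isPullback c a ha) hqc
  have : GeometricallyConnected μ := MorphismProperty.of_isPullback (mu_isPullback c a ha) hgc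
  let σU := G.obj.map ((EtCoh.bc h).map m).op σ'
  obtain ⟨σ, hσ⟩ := exists_good_id σU (mu_hom c a ha)
  let Φ := Scheme.pointSmallEtale (η ≫ f)
  let s : Φ.fiber.obj V := Over.homMk (u.left ≫ a) (point_aux (Over.w u) ha)
  refine ⟨(shStalkPullIso f η).hom.app _ (shGerm (η ≫ f) ((EtDesc.pushSh g).obj F) V s σ), ?_⟩
  rw [stalk_baseChange0_germ g f h e c]
  have hpsi : (Scheme.pointSmallEtale η).fiber.map (psi a ha) u = pushLift f η rfl V s :=
    fiber_bc_ext f V η _ _ (((Category.assoc _ _ _).trans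
      (congrArg (u.left ≫ ·) (psi_fst a ha))).trans (pullback.lift_fst _ _ _).symm)
  rw [← hpsi, ← hu]
  refine ((Scheme.pointSmallEtale η).toPresheafFiber_w_apply (psi a ha) u
    ((EtDesc.pushSh h).obj G).obj _).symm.trans (Eq.trans ?_
      ((Scheme.pointSmallEtale η).toPresheafFiber_w_apply m u ((EtDesc.pushSh h).obj G).obj σ'))
  refine congrArg (shGerm η ((EtDesc.pushSh h).obj G) U u) ?_
  show G.obj.map ((EtCoh.bc h).map (psi a ha)).op _ = σU
  refine eq_of_rel _ _ μ σ (fun K _ _ m => ?_) fun K _ _ m => (good_iff _ _).1 hσ K m (m ≫ μ) (Category.comp_id _)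
  have := rel_map (kap c a ha) σ m
  rw [kap_fst] at this
  simpa only [kap, un, op_comp, Functor.map_comp, ConcreteCategory.comp_apply] using this

include c hcov in
omit η [Field Ω] [IsAlgClosed Ω] in
/-- **Base change** along flat morphisms with etale-locally geometrically connected fibres. -/
theorem isIso_baseChange0Sh : IsIso (EtBC.baseChange0Sh g f h e c.w F) :=
  isIso_of_acPoints _ fun y =>
    ⟨injective_stalk c F (acPoint y) hcov, surjective_stalk c F (acPoint y) hcov⟩

end main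

end Groth.EtaleShriek.FlatConnBC
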