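import Groth.Agent.EtaleShriek.FlatConnFactor
import Groth.Agent.EtaleShriek.BCSets

/-!
Descent of sections of inverse images along flat quasi-compact morphisms with geometrically connected
fibres.
-/

set_option autoImplicit false
set_option backward.isDefEq.respectTransparency.types false

universe u

open CategoryTheory CategoryTheory.Limits AlgebraicGeometry Opposite TopologicalSpace

namespace Groth.EtaleShriek.FlatConnBC

attribute [local simp] pullback.lift_fst pullback.lift_snd pullback.lift_fst_assoc pullback.lift_snd_assoc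

open Groth.EtaleBase (openObj openHom fiberPoint geomPoint geomPoint_apply fiber_bc_ext pushLift
  mem_topology_iff)
open Groth.DescentBase (shStalk shStalkPullIso shGerm shGerm_surjective agreeSet shGerm_eq_iff_mem
  shSection_ext shStalkPullIso_germ)
open Groth.EtaleShriek.BCSets (sg sg_res P2 pr₁ pr₂ agree mem_agree_iff)

variable {T Y : Scheme.{u}} (e : Y ⟶ T) (F : EtDesc.Sh T)

/-- The section of the inverse image given by a section. -/
noncomputable abbrev un (W : T.Etale) (τ : F.obj.obj (op W)) :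
    ((EtDesc.pullSh e).obj F).obj.obj (op ((EtCoh.bc e).obj W)) :=
  ((EtDesc.adjSh e).unit.app F).hom.app (op W) τ

section points

variable {K : Type u} [Field K] [IsSepClosed K]

lemma stalkPullIso_sg (ξ : Spec (CommRingCat.of K) ⟶ Y) (W : T.Etale)
    (l : Spec (CommRingCat.of K) ⟶ W.left) (hl : l ≫ W.hom = ξ ≫ e) (τ : F.obj.obj (op W)) :
    (shStalkPullIso e ξ).hom.app F (sg F (ξ ≫ e) W l hl τ) =
      sg ((EtDesc.pullSh e).obj F) ξ ((EtCoh.bc e).obj W) (pullback.lift l ξ hl)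
        (pullback.lift_snd _ _ _) (un e F W τ) := by
  rw [shStalkPullIso_germ]
  exact congrArg (fun t => shGerm ξ ((EtDesc.pullSh e).obj F) _ t (un e F W τ))
    (fiber_bc_ext e W ξ _ _ ((pullback.lift_fst _ _ _).trans (pullback.lift_fst _ _ _).symm))

variable {B : Y.Etale} (σ' : ((EtDesc.pullSh e).obj F).obj.obj (op B))

/-- The value of `σ'` at `m` is the germ of `τ` at `l`. -/
def Rel (m : Spec (CommRingCat.of K) ⟶ B.left) (W : T.Etale) (l : Spec (CommRingCat.of K) ⟶ W.left)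
    (τ : F.obj.obj (op W)) : Prop :=
  ∃ hl : l ≫ W.hom = (m ≫ B.hom) ≫ e,
    sg ((EtDesc.pullSh e).obj F) (m ≫ B.hom) B m rfl σ' =
      sg ((EtDesc.pullSh e).obj F) (m ≫ B.hom) ((EtCoh.bc e).obj W) (pullback.lift l (m ≫ B.hom) hl)
        (pullback.lift_snd _ _ _) (un e F W τ)

variable {e F σ'}

lemma Rel.sg_eq {m : Spec (CommRingCat.of K) ⟶ B.left} {W₁ W₂ : T.Etale}
    {l₁ : Spec (CommRingCat.of K) ⟶ W₁.left} {l₂ : Spec (CommRingCat.of K) ⟶ W₂.left}
    {τ₁ : F.obj.obj (op W₁)} {τ₂ : F.obj.obj (op W₂)} (h₁ : Rel e F σ' m W₁ l₁ τ₁)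
    (h₂ : Rel e F σ' m W₂ l₂ τ₂) (ξ : Spec (CommRingCat.of K) ⟶ T) (e₁ : l₁ ≫ W₁.hom = ξ)
    (e₂ : l₂ ≫ W₂.hom = ξ) : sg F ξ W₁ l₁ e₁ τ₁ = sg F ξ W₂ l₂ e₂ τ₂ := by
  obtain ⟨a₁, b₁⟩ := h₁
  obtain ⟨a₂, b₂⟩ := h₂
  obtain rfl : (m ≫ B.hom) ≫ e = ξ := a₁.symm.trans e₁
  apply ((isIso_iff_bijective ((shStalkPullIso e (m ≫ B.hom)).hom.app F)).1 inferInstance).1
  rw [stalkPullIso_sg, stalkPullIso_sg]
  exact b₁.symm.trans b₂

lemma Rel.of_sg_eq {m : Spec (CommRingCat.of K) ⟶ B.left} {W₁ W₂ : T.Etale}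
    {l₁ : Spec (CommRingCat.of K) ⟶ W₁.left} {l₂ : Spec (CommRingCat.of K) ⟶ W₂.left}
    {τ₁ : F.obj.obj (op W₁)} {τ₂ : F.obj.obj (op W₂)} (h₁ : Rel e F σ' m W₁ l₁ τ₁)
    (ξ : Spec (CommRingCat.of K) ⟶ T) (e₁ : l₁ ≫ W₁.hom = ξ)
    (e₂ : l₂ ≫ W₂.hom = ξ) (h : sg F ξ W₁ l₁ e₁ τ₁ = sg F ξ W₂ l₂ e₂ τ₂) :
    Rel e F σ' m W₂ l₂ τ₂ := by
  obtain ⟨a₁, b₁⟩ := h₁
  obtain rfl : (m ≫ B.hom) ≫ e = ξ := a₁.symm.trans e₁
  refine ⟨e₂, ?_⟩
  rw [b₁, ← stalkPullIso_sg, ← stalkPullIso_sg, h]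

lemma rel_res {W W' : T.Etale} (g : W' ⟶ W) (m : Spec (CommRingCat.of K) ⟶ B.left)
    (l' : Spec (CommRingCat.of K) ⟶ W'.left) (τ : F.obj.obj (op W)) :
    Rel e F σ' m W' l' (F.obj.map g.op τ) ↔ Rel e F σ' m W (l' ≫ g.left) τ := by
  have hw : g.left ≫ W.hom = W'.hom := MorphismProperty.Over.w g
  constructor <;> intro h
  · obtain ⟨a, b⟩ := h
    exact (show Rel e F σ' m W' l' (F.obj.map g.op τ) from ⟨a, b⟩).of_sg_eq (l' ≫ W'.hom) rfl
      (by rw [Category.assoc, hw]) (sg_res F _ g l' rfl _ (by rw [Category.assoc, hw]) rfl τ)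
  · obtain ⟨a, b⟩ := h
    exact (show Rel e F σ' m W (l' ≫ g.left) τ from ⟨a, b⟩).of_sg_eq (l' ≫ W'.hom)
      (by rw [Category.assoc, hw]) rfl (sg_res F _ g l' rfl _ (by rw [Category.assoc, hw]) rfl τ).symm

variable (σ') in
/-- Every geometric point of `B` has a representative lying over a given étale scheme. -/
lemma exists_rel {V : T.Etale} (μ : B.left ⟶ V.left) (hμ : μ ≫ V.hom = B.hom ≫ e)
    (m : Spec (CommRingCat.of K) ⟶ B.left) :
    ∃ (W : T.Etale) (g : W ⟶ V) (l : Spec (CommRingCat.of K) ⟶ W.left) (τ : F.obj.obj (op W)),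
      l ≫ g.left = m ≫ μ ∧ Rel e F σ' m W l τ := by
  obtain ⟨c, hc⟩ := ((isIso_iff_bijective ((shStalkPullIso e (m ≫ B.hom)).hom.app F)).1
    inferInstance).2 (sg ((EtDesc.pullSh e).obj F) (m ≫ B.hom) B m rfl σ')
  obtain ⟨U, t, τ, rfl⟩ := shGerm_surjective _ F c
  have ht : t.left ≫ U.hom = (m ≫ B.hom) ≫ e := Over.w t
  have hU : Rel e F σ' m U t.left τ := by
    refine ⟨ht, hc.symm.trans ?_⟩
    rw [← stalkPullIso_sg]
    rfl
  let l : Spec (CommRingCat.of K) ⟶ (P2 U V).left :=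
    pullback.lift t.left (m ≫ μ) (ht.trans (by rw [Category.assoc, Category.assoc, hμ]))
  refine ⟨P2 U V, pr₂ U V, l, F.obj.map (pr₁ U V).op τ, pullback.lift_snd _ _ _, ?_⟩
  rw [rel_res]
  exact (congrArg (fun a => Rel e F σ' m U a τ) (pullback.lift_fst _ _ _)).mpr hU

end points

section locus

variable {B : Y.Etale} (σ' : ((EtDesc.pullSh e).obj F).obj.obj (op B))
  {V : T.Etale} (μ : B.left ⟶ V.left) (hμ : μ ≫ V.hom = B.hom ≫ e) {W : T.Etale} (g : W ⟶ V)
  (τ : F.obj.obj (op W))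

include hμ in
lemma lift_cond : pullback.snd μ g.left ≫ W.hom = (pullback.fst μ g.left ≫ B.hom) ≫ e := by
  rw [Category.assoc, ← hμ, pullback.condition_assoc, MorphismProperty.Over.w g]

/-- The comparison with `B ×_Y bc e W`. -/
noncomputable def cmp : pullback μ g.left ⟶ pullback B.hom ((EtCoh.bc e).obj W).hom :=
  pullback.lift (pullback.fst μ g.left)
    (pullback.lift (pullback.snd μ g.left) (pullback.fst μ g.left ≫ B.hom) (lift_cond e μ hμ g))
    (pullback.lift_snd _ _ _).symm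

/-- The open locus of `B ×_V W` where `σ'` is given by `τ`. -/
noncomputable def loc : (pullback μ g.left).Opens :=
  cmp e μ hμ g ⁻¹ᵁ agree ((EtDesc.pullSh e).obj F) B ((EtCoh.bc e).obj W) σ' (un e F W τ)

variable {K : Type u} [Field K] [IsSepClosed K]

lemma mem_loc_iff (ζ : Spec (CommRingCat.of K) ⟶ pullback μ g.left)
    (m : Spec (CommRingCat.of K) ⟶ B.left) (l : Spec (CommRingCat.of K) ⟶ W.left)
    (hm : ζ ≫ pullback.fst μ g.left = m) (hl : ζ ≫ pullback.snd μ g.left = l) :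
    ζ default ∈ loc e F σ' μ hμ g τ ↔ Rel e F σ' m W l τ := by
  subst hm hl
  have hc : (ζ ≫ pullback.snd μ g.left) ≫ W.hom = ((ζ ≫ pullback.fst μ g.left) ≫ B.hom) ≫ e :=
    (Category.assoc _ _ _).trans ((congrArg (ζ ≫ ·) (lift_cond e μ hμ g)).trans (by simp only [Category.assoc]))
  have h1 := mem_agree_iff ((EtDesc.pullSh e).obj F) B ((EtCoh.bc e).obj W) σ' (un e F W τ)
    ((ζ ≫ pullback.fst μ g.left) ≫ B.hom) (ζ ≫ cmp e μ hμ g) (ζ ≫ pullback.fst μ g.left) rfl
    ((Category.assoc _ _ _).trans (congrArg (ζ ≫ ·) (pullback.lift_fst _ _ _)))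
    (pullback.lift (ζ ≫ pullback.snd μ g.left) ((ζ ≫ pullback.fst μ g.left) ≫ B.hom) hc)
    (pullback.lift_snd _ _ _)
    ((Category.assoc _ _ _).trans ((congrArg (ζ ≫ ·) (pullback.lift_snd _ _ _)).trans (by
      apply pullback.hom_ext
      · exact ((Category.assoc _ _ _).trans (congrArg (ζ ≫ ·) (pullback.lift_fst _ _ _))).trans
          (pullback.lift_fst _ _ _).symm
      · exact ((Category.assoc _ _ _).trans ((congrArg (ζ ≫ ·) (pullback.lift_snd _ _ _)).trans
          (Category.assoc _ _ _).symm)).trans (pullback.lift_snd _ _ _).symm)))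
  show cmp e μ hμ g (ζ default) ∈ agree _ _ _ _ _ ↔ _
  rw [← Scheme.Hom.comp_apply, h1]
  exact ⟨fun h => ⟨hc, h⟩, fun ⟨_, h⟩ => h⟩

end locus

section constancy

variable {e F} {B : Y.Etale} {σ' : ((EtDesc.pullSh e).obj F).obj.obj (op B)}
  {V : T.Etale} {μ : B.left ⟶ V.left} (hμ : μ ≫ V.hom = B.hom ≫ e) [GeometricallyConnected μ]
  {W : T.Etale} {g : W ⟶ V} {τ : F.obj.obj (op W)} {K : Type u} [Field K] [IsSepClosed K]

include hμ in
set_option maxHeartbeats 1600000 in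
/-- Values are constant on geometric fibres. -/
lemma rel_const (m₁ m₂ : Spec (CommRingCat.of K) ⟶ B.left) (l : Spec (CommRingCat.of K) ⟶ W.left)
    (hl : l ≫ g.left = m₁ ≫ μ) (hm : m₂ ≫ μ = m₁ ≫ μ) (h : Rel e F σ' m₁ W l τ) :
    Rel e F σ' m₂ W l τ := by
  let v := m₁ ≫ μ
  have hconn : ConnectedSpace ↥(pullback μ v) :=
    GeometricallyConnected.geometrically_connectedSpace v (pullback.fst μ v) (pullback.snd μ v)
      (IsPullback.of_hasPullback μ v)
  let φ : pullback μ v ⟶ pullback μ g.left :=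
    pullback.lift (pullback.fst μ v) (pullback.snd μ v ≫ l)
      (by rw [Category.assoc, hl, pullback.condition])
  let C : Set ↥(pullback μ v) := φ ⁻¹' (loc e F σ' μ hμ g τ : Set ↥(pullback μ g.left))
  have hCo : IsOpen C := (loc e F σ' μ hμ g τ).isOpen.preimage φ.continuous
  have hCc : IsClosed C := by
    rw [← isOpen_compl_iff, isOpen_iff_forall_mem_open]
    intro q hq
    let ζ := geomPoint q
    have hζ : ζ default = q := geomPoint_apply q _
    obtain ⟨W₀, g₀, l₀, τ₀, hl₀, hR₀⟩ := exists_rel σ' μ hμ (ζ ≫ pullback.fst μ v)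
    have hlv : l₀ ≫ g₀.left = (ζ ≫ pullback.snd μ v) ≫ v := by
      rw [hl₀, Category.assoc, Category.assoc, pullback.condition]
    obtain ⟨k, hk, hkl⟩ : ∃ k : Spec (CommRingCat.of K) ⟶ W₀.left,
        k ≫ g₀.left = v ∧ (ζ ≫ pullback.snd μ v) ≫ k = l₀ := by
      let p := pullback.snd g₀.left v
      have : Etale g₀.left := inferInstance
      have : Etale p := inferInstanceAs (Etale (pullback.snd g₀.left v))
      let a := pullback.lift l₀ (ζ ≫ pullback.snd μ v) hlv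
      obtain ⟨k', hk', hkd⟩ := Scheme.exists_fac_of_etale_of_isSepClosed p (𝟙 _) (a default)
        (Subsingleton.elim (α := Spec (CommRingCat.of K)) _ _)
      have ea : (ζ ≫ pullback.snd μ v) ≫ k' = a := by
        refine eq_of_point_eq p _ _ ?_ (a default) ?_ ?_
        · simp [a, p, hk']
        · intro t
          rw [Scheme.Hom.comp_apply, Subsingleton.elim ((ζ ≫ pullback.snd μ v) t) default, hkd]
        · intro t
          rw [Subsingleton.elim t default]
      refine ⟨k' ≫ pullback.fst g₀.left v, ?_, ?_⟩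
      · rw [Category.assoc, pullback.condition, reassoc_of% hk']
      · rw [← Category.assoc, ea, pullback.lift_fst]
    let φ₀ : pullback μ v ⟶ pullback μ g₀.left :=
      pullback.lift (pullback.fst μ v) (pullback.snd μ v ≫ k)
        (by rw [Category.assoc, hk, pullback.condition])
    refine ⟨φ₀ ⁻¹' (loc e F σ' μ hμ g₀ τ₀ : Set ↥(pullback μ g₀.left)), fun q' hq' hqC => ?_,
      (loc e F σ' μ hμ g₀ τ₀).isOpen.preimage φ₀.continuous, ?_⟩
    · -- the two representatives agree at the point `(l, k)`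
      let ζ' := geomPoint q'
      have hζ' : ζ' default = q' := geomPoint_apply q' _
      have r₀ : Rel e F σ' (ζ' ≫ pullback.fst μ v) W₀ ((ζ' ≫ pullback.snd μ v) ≫ k) τ₀ :=
        (mem_loc_iff e F σ' μ hμ g₀ τ₀ (ζ' ≫ φ₀) _ _ (by simp [φ₀]) (by simp [φ₀])).1
          (by rw [Scheme.Hom.comp_apply, hζ']; exact hq')
      have r : Rel e F σ' (ζ' ≫ pullback.fst μ v) W ((ζ' ≫ pullback.snd μ v) ≫ l) τ :=
        (mem_loc_iff e F σ' μ hμ g τ (ζ' ≫ φ) _ _ (by simp [φ]) (by simp [φ])).1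
          (by rw [Scheme.Hom.comp_apply, hζ']; exact hqC)
      have hlk : l ≫ W.hom = k ≫ W₀.hom := by
        rw [← MorphismProperty.Over.w g, reassoc_of% hl, ← MorphismProperty.Over.w g₀, reassoc_of% hk]
        simp only [v, Category.assoc]
      let lk : Spec (CommRingCat.of K) ⟶ pullback W.hom W₀.hom := pullback.lift l k hlk
      have h' := (mem_agree_iff F W W₀ τ τ₀ (((ζ' ≫ pullback.snd μ v) ≫ l) ≫ W.hom)
        ((ζ' ≫ pullback.snd μ v) ≫ lk) ((ζ' ≫ pullback.snd μ v) ≫ l) rfl (by simp [lk])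
        ((ζ' ≫ pullback.snd μ v) ≫ k) (by simp [hlk]) (by simp [lk])).2 (r.sg_eq r₀ _ _ _)
      rw [Scheme.Hom.comp_apply, Subsingleton.elim ((ζ' ≫ pullback.snd μ v) default) default] at h'
      have hk₀ : l₀ ≫ W₀.hom = ((ζ ≫ pullback.snd μ v) ≫ l) ≫ W.hom := by
        rw [← hkl, Category.assoc _ k, ← hlk, ← Category.assoc _ l]
      have h'' := (mem_agree_iff F W W₀ τ τ₀ (((ζ ≫ pullback.snd μ v) ≫ l) ≫ W.hom)
        ((ζ ≫ pullback.snd μ v) ≫ lk) ((ζ ≫ pullback.snd μ v) ≫ l) rfl (by simp [lk])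
        l₀ hk₀ (by simp [lk, ← hkl])).1
        (by rw [Scheme.Hom.comp_apply, Subsingleton.elim ((ζ ≫ pullback.snd μ v) default) default]; exact h')
      have rq := hR₀.of_sg_eq _ hk₀ rfl h''.symm
      refine hq ?_
      have := (mem_loc_iff e F σ' μ hμ g τ (ζ ≫ φ) _ _ (by simp [φ]) (by simp [φ])).2 rq
      rwa [Scheme.Hom.comp_apply, hζ] at this
    · have := (mem_loc_iff e F σ' μ hμ g₀ τ₀ (ζ ≫ φ₀) (ζ ≫ pullback.fst μ v) l₀ (by simp [φ₀])
        (by rw [← hkl]; simp [φ₀])).2 hR₀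
      rwa [Scheme.Hom.comp_apply, hζ] at this
  let s₁ : Spec (CommRingCat.of K) ⟶ pullback μ v := pullback.lift m₁ (𝟙 _) (Category.id_comp _).symm
  let s₂ : Spec (CommRingCat.of K) ⟶ pullback μ v :=
    pullback.lift m₂ (𝟙 _) (hm.trans (Category.id_comp _).symm)
  have h₁ : s₁ default ∈ C := by
    show φ (s₁ default) ∈ loc e F σ' μ hμ g τ
    rw [← Scheme.Hom.comp_apply]
    exact (mem_loc_iff e F σ' μ hμ g τ (s₁ ≫ φ) m₁ l (by simp [s₁, φ]) (by simp [s₁, φ])).2 h
  have h₂ : s₂ default ∈ C := by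
    rw [(IsClopen.eq_univ ⟨hCc, hCo⟩ ⟨_, h₁⟩)]
    trivial
  have h₂' : (s₂ ≫ φ) default ∈ loc e F σ' μ hμ g τ := by
    rw [Scheme.Hom.comp_apply]; exact h₂
  exact (mem_loc_iff e F σ' μ hμ g τ (s₂ ≫ φ) m₂ l (by simp [s₂, φ]) (by simp [s₂, φ])).1 h₂'

end constancy

section glue

variable {e F} {B : Y.Etale} (σ' : ((EtDesc.pullSh e).obj F).obj.obj (op B))
  {V : T.Etale} {μ : B.left ⟶ V.left} (hμ : μ ≫ V.hom = B.hom ≫ e)

/-- `τ` gives `σ'` everywhere on `B ×_V W`. -/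
def Good {W : T.Etale} (g : W ⟶ V) (τ : F.obj.obj (op W)) : Prop :=
  ∀ x : ↥(pullback μ g.left), x ∈ loc e F σ' μ hμ g τ

variable {σ' hμ}

lemma good_iff {W : T.Etale} (g : W ⟶ V) (τ : F.obj.obj (op W)) :
    Good σ' hμ g τ ↔ ∀ (K : Type u) [Field K] [IsSepClosed K] (m : Spec (CommRingCat.of K) ⟶ B.left)
      (l : Spec (CommRingCat.of K) ⟶ W.left), l ≫ g.left = m ≫ μ → Rel e F σ' m W l τ := by
  constructor
  · intro h K _ _ m l hl
    exact (mem_loc_iff e F σ' μ hμ g τ (pullback.lift m l hl.symm) m l (pullback.lift_fst _ _ _)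
      (pullback.lift_snd _ _ _)).1 (h _)
  · intro h x
    let ζ := geomPoint x
    have := (mem_loc_iff e F σ' μ hμ g τ ζ _ _ rfl rfl).2
      (h _ (ζ ≫ pullback.fst μ g.left) (ζ ≫ pullback.snd μ g.left)
        (by rw [Category.assoc, Category.assoc, pullback.condition]))
    rwa [geomPoint_apply] at this

lemma Good.map {W W' : T.Etale} {g : W ⟶ V} {τ : F.obj.obj (op W)} (h : Good σ' hμ g τ) (a : W' ⟶ W) :
    Good σ' hμ (a ≫ g) (F.obj.map a.op τ) := by
  rw [good_iff] at h ⊢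
  intro K _ _ m l hl
  rw [rel_res]
  exact h K m (l ≫ a.left) ((Category.assoc _ _ _).trans hl)

variable [Surjective μ]

lemma Good.unique {W : T.Etale} {g : W ⟶ V} {τ τ' : F.obj.obj (op W)} (h : Good σ' hμ g τ)
    (h' : Good σ' hμ g τ') : τ = τ' := by
  refine shSection_ext F W τ τ' fun x => ?_
  obtain ⟨z, rfl⟩ := (pullback.snd μ g.left).surjective x
  let ζ := geomPoint z
  let l := ζ ≫ pullback.snd μ g.left
  have hl : l ≫ g.left = (ζ ≫ pullback.fst μ g.left) ≫ μ := by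
    simp only [l, Category.assoc, pullback.condition]
  have e1 := ((good_iff g τ).1 h _ _ l hl).sg_eq ((good_iff g τ').1 h' _ _ l hl) (l ≫ W.hom) rfl rfl
  have h2 := (shGerm_eq_iff_mem (l ≫ W.hom) F W τ τ' (Over.homMk l rfl)).1 e1
  have hp : fiberPoint (l ≫ W.hom) (Over.homMk l rfl : (Scheme.pointSmallEtale (l ≫ W.hom)).fiber.obj W) =
      pullback.snd μ g.left z := by
    show l default = _
    rw [Scheme.Hom.comp_apply]
    exact congrArg _ (geomPoint_apply z _)
  rwa [hp] at h2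

variable [GeometricallyConnected μ]
  (hq : ∀ ⦃W : T.Etale⦄ (g : W ⟶ V), Topology.IsQuotientMap (pullback.snd μ g.left))

include hq in
variable (σ' hμ) in
lemma exists_good_of_isQuotientMap (b : B.left) :
    ∃ (W : T.Etale) (g : W ⟶ V) (w : W.left), g.left w = μ b ∧ ∃ τ, Good σ' hμ g τ := by
  let ζ := geomPoint b
  obtain ⟨W, g, l, τ, hl, hR⟩ := exists_rel σ' μ hμ ζ
  let π := pullback.snd μ g.left
  let L : Set ↥(pullback μ g.left) := (loc e F σ' μ hμ g τ : Set ↥(pullback μ g.left))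
  have hsat : ∀ y₁ y₂ : ↥(pullback μ g.left), π y₁ = π y₂ → y₁ ∈ L → y₂ ∈ L := by
    intro y₁ y₂ he hy₁
    obtain ⟨z, rfl, rfl⟩ := Scheme.Pullback.exists_preimage_pullback (f := π) (g := π) y₁ y₂ he
    let χ := geomPoint z
    have hχ : χ default = z := geomPoint_apply z _
    have ez : (χ ≫ pullback.fst π π) ≫ π = (χ ≫ pullback.snd π π) ≫ π := by
      simp only [Category.assoc, pullback.condition]
    have r₁ := (mem_loc_iff e F σ' μ hμ g τ (χ ≫ pullback.fst π π) _ _ rfl rfl).1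
      (by rw [Scheme.Hom.comp_apply, hχ]; exact hy₁)
    have r₂ := rel_const hμ (g := g) _ ((χ ≫ pullback.snd π π) ≫ pullback.fst μ g.left) _
      (by simp only [Category.assoc, pullback.condition]) (by
        simp only [Category.assoc, pullback.condition]
        simp only [← Category.assoc]
        exact congrArg (· ≫ g.left) ez.symm) r₁
    have := (mem_loc_iff e F σ' μ hμ g τ (χ ≫ pullback.snd π π) _ _ rfl ez.symm).2 r₂
    rwa [Scheme.Hom.comp_apply, hχ] at this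
  have hpre : π ⁻¹' (π '' L) = L :=
    Set.Subset.antisymm (fun y ⟨y', hy', e⟩ => hsat y' y e hy') (Set.subset_preimage_image _ _)
  let O : W.left.Opens := ⟨π '' L, by
    refine (hq g).isOpen_preimage.1 ?_
    exact hpre.symm ▸ (loc e F σ' μ hμ g τ).isOpen⟩
  let ζW : Spec (CommRingCat.of _) ⟶ pullback μ g.left := pullback.lift ζ l hl.symm
  have hmem : l default ∈ O := by
    refine ⟨ζW default, (mem_loc_iff e F σ' μ hμ g τ ζW ζ l (pullback.lift_fst _ _ _)
      (pullback.lift_snd _ _ _)).2 hR, ?_⟩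
    rw [← Scheme.Hom.comp_apply, pullback.lift_snd]
  refine ⟨openObj W O, openHom W O ≫ g, (⟨l default, hmem⟩ : ↥O), ?_, F.obj.map (openHom W O).op τ, ?_⟩
  · show g.left (l default) = μ b
    rw [← Scheme.Hom.comp_apply, hl, Scheme.Hom.comp_apply]
    exact congrArg _ (geomPoint_apply b _)
  · rw [good_iff]
    intro K _ _ m l' hl'
    rw [rel_res]
    let ζ' : Spec (CommRingCat.of K) ⟶ pullback μ g.left :=
      pullback.lift m (l' ≫ (openHom W O).left) (hl'.symm.trans (Category.assoc _ _ _).symm)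
    refine (mem_loc_iff e F σ' μ hμ g τ ζ' m _ (pullback.lift_fst _ _ _) (pullback.lift_snd _ _ _)).1 ?_
    have h1 : π (ζ' default) ∈ π '' L := by
      rw [← Scheme.Hom.comp_apply, pullback.lift_snd, Scheme.Hom.comp_apply]
      exact (l' default).2
    exact hpre.subset h1

include hq in
variable (σ' hμ) in
/-- **Descent** along a quotient map with geometrically connected fibres. -/
theorem exists_good_id_of_isQuotientMap : ∃ σ : F.obj.obj (op V), Good σ' hμ (𝟙 V) σ := by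
  let R : Sieve V :=
    { arrows := fun W g => ∃ τ, Good σ' hμ g τ
      downward_closed := fun {W W' g} ⟨τ, hτ⟩ a => ⟨_, hτ.map a⟩ }
  have hR : R ∈ T.smallEtaleTopology V := by
    rw [mem_topology_iff]
    intro v
    obtain ⟨b, rfl⟩ := μ.surjective v
    obtain ⟨W, g, w, hw, hτ⟩ := exists_good_of_isQuotientMap σ' hμ hq b
    exact ⟨W, g, w, hτ, hw⟩
  let x : Presieve.FamilyOfElements F.obj R.arrows := fun W g hg => hg.choose
  have hx : ∀ {W : T.Etale} (g : W ⟶ V) (hg : R g), Good σ' hμ g (x g hg) := fun g hg => hg.choose_spec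
  have hc : x.Compatible := by
    intro W₁ W₂ Z a₁ a₂ g₁ g₂ h₁ h₂ eq
    have t := (hx g₁ h₁).map a₁
    rw [eq] at t
    exact t.unique ((hx g₂ h₂).map a₂)
  have hF := ((isSheaf_iff_isSheaf_of_type _ _).mp F.property) R hR
  refine ⟨hF.amalgamate x hc, (good_iff _ _).2 fun K _ _ m l hl => ?_⟩
  obtain ⟨W, g, w, hg, hw⟩ := (mem_topology_iff R).1 hR (l default)
  have : Etale g.left := inferInstance
  obtain ⟨lW, hlW, -⟩ := Scheme.exists_fac_of_etale_of_isSepClosed g.left l w hw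
  have h1 := (good_iff g _).1 (hx g hg) K m lW (hlW.trans ((Category.comp_id l).symm.trans hl))
  rw [← hF.valid_glue hc g hg, rel_res, hlW] at h1
  exact h1

omit hq in
variable (σ' hμ) in
lemma exists_good [Flat μ] [QuasiCompact μ] (b : B.left) :
    ∃ (W : T.Etale) (g : W ⟶ V) (w : W.left), g.left w = μ b ∧ ∃ τ, Good σ' hμ g τ :=
  exists_good_of_isQuotientMap σ' hμ (fun _ g => Flat.isQuotientMap_of_surjective (pullback.snd μ g.left)) b

omit hq in
variable (σ' hμ) in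
/-- **Descent**: a section of the inverse image is given by a unique section. -/
theorem exists_good_id [Flat μ] [QuasiCompact μ] : ∃ σ : F.obj.obj (op V), Good σ' hμ (𝟙 V) σ :=
  exists_good_id_of_isQuotientMap σ' hμ fun _ g => Flat.isQuotientMap_of_surjective (pullback.snd μ g.left)

end glue

end Groth.EtaleShriek.FlatConnBC
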