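import Groth.Agent.EtaleBase.Rigidity
import Groth.Agent.EtaleBase.Stalks
import Mathlib.AlgebraicGeometry.Geometrically.Connected
import Mathlib.AlgebraicGeometry.Sites.EtalePoint
import Mathlib.AlgebraicGeometry.Sites.Fpqc

/-!
Flat quasi-compact morphisms with geometrically connected fibres and maps to etale schemes.
-/

set_option autoImplicit false
set_option backward.isDefEq.respectTransparency.types false

universe u

open CategoryTheory CategoryTheory.Limits AlgebraicGeometry

namespace Groth.EtaleShriek.FlatConnBC

attribute [local simp] pullback.lift_fst pullback.lift_snd pullback.lift_fst_assoc pullback.lift_snd_assoc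

open Groth.EtaleBase (isOpenImmersion_section eq_of_surjective_agree agree_fst_comp geomPoint geomPoint_apply)

/-- Two points of an étale scheme over a separably closed field are equal when their images agree. -/
lemma eq_of_point_eq {E T : Scheme.{u}} {K : Type u} [Field K] [IsSepClosed K]
    (p : E ⟶ Spec (CommRingCat.of K)) [Etale p] (a b : T ⟶ E) (h : a ≫ p = b ≫ p) (y : E)
    (ha : ∀ t, a t = y) (hb : ∀ t, b t = y) : a = b := by
  obtain ⟨k, hk, hky⟩ := Scheme.exists_fac_of_etale_of_isSepClosed p (𝟙 _) y
    (Subsingleton.elim (α := Spec (CommRingCat.of K)) _ _)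
  have : IsOpenImmersion k := isOpenImmersion_section p k hk
  have hra : Set.range a ⊆ Set.range k := by
    rintro _ ⟨t, rfl⟩; exact ⟨default, hky.trans (ha t).symm⟩
  have hrb : Set.range b ⊆ Set.range k := by
    rintro _ ⟨t, rfl⟩; exact ⟨default, hky.trans (hb t).symm⟩
  have ea := IsOpenImmersion.lift_fac k a hra
  have eb := IsOpenImmersion.lift_fac k b hrb
  rw [← ea, ← eb] at h ⊢
  simp only [Category.assoc, hk, Category.comp_id] at h
  rw [h]

/-- The transition to a base change of `a` is flat when `a ≫ v` is flat and `v` is étale. -/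
lemma flat_of_comp_etale {U V S : Scheme.{u}} (a : U ⟶ V) (v : V ⟶ S) [Etale v] [Flat (a ≫ v)] :
    Flat a := by
  let γ : U ⟶ pullback (a ≫ v) v := pullback.lift (𝟙 U) a (Category.id_comp _)
  have : IsOpenImmersion γ :=
    isOpenImmersion_section (pullback.fst (a ≫ v) v) γ (pullback.lift_fst _ _ _)
  have h : γ ≫ pullback.snd (a ≫ v) v = a := pullback.lift_snd _ _ _
  rw [← h]
  infer_instance

section factor

variable {U V E S : Scheme.{u}} (a : U ⟶ V) [GeometricallyConnected a] (v : V ⟶ S) (π : E ⟶ S) [Etale π]
  (b : U ⟶ E) (hb : b ≫ π = a ≫ v)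

include hb in
/-- A map to an étale scheme takes equal values on the points of a connected geometric fibre. -/
lemma comp_eq_of_fibre {K : Type u} [Field K] [IsSepClosed K] (m₁ m₂ : Spec (CommRingCat.of K) ⟶ U)
    (h : m₁ ≫ a = m₂ ≫ a) : m₁ ≫ b = m₂ ≫ b := by
  let x := m₁ ≫ a
  let p := pullback.snd π (x ≫ v)
  have : Etale p := inferInstanceAs (Etale (pullback.snd π (x ≫ v)))
  have hconn : ConnectedSpace ↥(pullback a x) :=
    GeometricallyConnected.geometrically_connectedSpace x (pullback.fst a x) (pullback.snd a x) (IsPullback.of_hasPullback a x)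
  have : IsLocallyArtinian (pullback π (x ≫ v)) := IsLocallyArtinian.of_locallyQuasiFinite p
  let β : pullback a x ⟶ pullback π (x ≫ v) :=
    pullback.lift (pullback.fst a x ≫ b) (pullback.snd a x)
      (by rw [Category.assoc, hb, pullback.condition_assoc])
  let s₁ : Spec (CommRingCat.of K) ⟶ pullback a x := pullback.lift m₁ (𝟙 _) (Category.id_comp _).symm
  let s₂ : Spec (CommRingCat.of K) ⟶ pullback a x :=
    pullback.lift m₂ (𝟙 _) (h.symm.trans (Category.id_comp _).symm)
  have hpt : ∀ z, β z = β (s₁ default) := fun z =>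
    PreconnectedSpace.constant inferInstance β.continuous
  have e : s₁ ≫ β = s₂ ≫ β := by
    refine eq_of_point_eq p _ _ ?_ (β (s₁ default)) ?_ ?_
    · simp [p, β, s₁, s₂]
    · intro t; rw [Scheme.Hom.comp_apply]; exact hpt _
    · intro t; rw [Scheme.Hom.comp_apply]; exact hpt _
  simpa [β, s₁, s₂] using congrArg (· ≫ pullback.fst π (x ≫ v)) e

include hb in
/-- **Factorization**: maps to étale schemes descend along such morphisms. -/
lemma exists_factor [Flat a] [QuasiCompact a] : ∃ c : V ⟶ E, a ≫ c = b ∧ c ≫ π = v := by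
  have w : (pullback.fst a a ≫ b) ≫ π = (pullback.snd a a ≫ b) ≫ π := by
    rw [Category.assoc, Category.assoc, hb, pullback.condition_assoc]
  have key : pullback.fst a a ≫ b = pullback.snd a a ≫ b := by
    have : Surjective (pullback.fst (pullback.lift (pullback.fst a a ≫ b) (pullback.snd a a ≫ b) w)
        (pullback.diagonal π)) := ⟨fun y => by
      let ζ := geomPoint y
      have e : ζ ≫ pullback.fst a a ≫ b = ζ ≫ pullback.snd a a ≫ b := by
        rw [← Category.assoc, ← Category.assoc]
        exact comp_eq_of_fibre a v π b hb _ _ (by rw [Category.assoc, Category.assoc, pullback.condition])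
      refine ⟨pullback.lift ζ (ζ ≫ pullback.fst a a ≫ b) ?_ default, ?_⟩
      · apply pullback.hom_ext
        · simp
        · simpa using e.symm
      · rw [← Scheme.Hom.comp_apply, pullback.lift_fst]
        exact geomPoint_apply y _⟩
    exact eq_of_surjective_agree π _ _ w _ (agree_fst_comp π _ _ w)
  let c := EffectiveEpi.desc a b (fun {Z} g₁ g₂ hg => by
    have := congrArg (pullback.lift g₁ g₂ hg ≫ ·) key
    simpa using this)
  have hc : a ≫ c = b := EffectiveEpi.fac _ _ _
  refine ⟨c, hc, ?_⟩
  rw [← cancel_epi a, reassoc_of% hc, hb]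

end factor

end Groth.EtaleShriek.FlatConnBC
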