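import Groth.Agent.EtaleShriek.LqfStalk
import Groth.Agent.EtaleShriek.Coproducts
import Groth.Agent.EtaleBase.PushEssImage
import Mathlib.CategoryTheory.Adjunction.AdjointFunctorTheorems
import Mathlib.CategoryTheory.Abelian.GrothendieckCategory.Basic

/-!
`f_!` is exact and a left adjoint for separated locally quasi-finite `f`.
-/

set_option autoImplicit false

universe u

open CategoryTheory CategoryTheory.Limits AlgebraicGeometry Opposite

namespace Groth.EtaleShriek.LqfExact

variable {X Y : Scheme.{u}} (f : X ⟶ Y) [IsSeparated f] [LocallyOfFiniteType f] [LocallyQuasiFinite f]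

theorem epi_map {F G : EtCoh.Ab X} (α : F ⟶ G) [Epi α] : Epi ((EtShriek.lowerShriek f).map α) := by
  have : Sheaf.IsLocallySurjective ((EtShriek.lowerShriek f).map α) := by
    refine Groth.EtaleBase.isLocallySurjective_of_exists_stalk_surjective _ fun s => ?_
    exact ⟨AlgebraicClosure (Y.residueField s), inferInstance, inferInstance,
      Spec.map (CommRingCat.ofHom (algebraMap (Y.residueField s) (AlgebraicClosure (Y.residueField s)))) ≫
        Y.fromSpecResidueField s,
      (Scheme.Hom.comp_apply _ _ _).trans (Y.fromSpecResidueField_apply s _),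
      LqfStalk.stalk_map_surjective f _ α⟩
  infer_instance

theorem preservesFiniteColimits : PreservesFiniteColimits (EtShriek.lowerShriek f) := by
  have := preservesFiniteLimits_lowerShriek f
  rw [(Functor.preservesFiniteColimits_iff_forall_exact_map_and_epi (EtShriek.lowerShriek f))]
  intro S hS
  have := hS.mono_f
  have := hS.epi_g
  obtain ⟨hex, -⟩ := ((Functor.preservesFiniteLimits_tfae (EtShriek.lowerShriek f)).out 3 1 :).1
    inferInstance S ⟨hS.exact, hS.mono_f⟩
  exact ⟨hex, epi_map f S.g⟩

theorem preservesCoproducts (ι : Type (u + 1)) :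
    PreservesColimitsOfShape (Discrete ι) (EtShriek.lowerShriek f) := by
  classical
  have := preservesFiniteColimits f
  have := Filtered.preservesColimitsOfShape_big f (Finset (Discrete ι))
  exact Coproducts.preservesColimitsOfShape_discrete _ ι

theorem isLeftAdjoint : (EtShriek.lowerShriek f).IsLeftAdjoint := by
  have := preservesFiniteColimits f
  have := preservesCoproducts f
  have : PreservesColimitsOfSize.{u + 1, u + 1} (EtShriek.lowerShriek f) :=
    preservesColimits_of_preservesCoequalizers_and_coproducts _
  obtain ⟨G, hG⟩ := HasSeparator.hasSeparator (C := EtCoh.Ab X)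
  exact isLeftAdjoint_of_preservesColimits_of_isSeparating (P := ObjectProperty.singleton G) hG _

end Groth.EtaleShriek.LqfExact
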