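import Groth.Agent.EtaleShriek.Filtered
import Groth.Agent.EtaleBase.PushStalkFinite
import Groth.Agent.EtaleBase.LocConst
import Groth.Agent.EtaleBase.ExtZero
import Groth.Agent.EtaleBase.InjCoh
import Groth.Agent.FlatMor2.EtaleFinite

/-!
Sections with proper support with prescribed value at one point, for locally quasi-finite maps.
-/

set_option autoImplicit false

universe u

open CategoryTheory CategoryTheory.Limits AlgebraicGeometry Opposite

namespace Groth.EtaleShriek.LqfLocal

open Groth.EtaleBase.LocConst (germ_res)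
open Groth.EtaleBase (germ germ_surjective fiberPoint fiberPoint_map exists_fiber_lift
  exists_fiber_of_point pushLift pushLift_map openObj openHom PtOver compPt exists_germ_push_values)

section res

variable {W X : Scheme.{u}} (a : W ⟶ X) [AlgebraicGeometry.Etale a] [EtShriek.JCont a]
  {Ω : Type u} [Field Ω] [IsSepClosed Ω] (ξ : Spec (CommRingCat.of Ω) ⟶ X)

/-- The stalk of the restriction at a lift maps to the stalk. -/
noncomputable def resStalk (F : EtCoh.Ab X) (ζ : PtOver a ξ) :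
    (EtCoh.stalk ζ.1).obj ((EtShriek.restrAlong a).obj F) ⟶ (EtCoh.stalk ξ).obj F :=
  (Scheme.pointSmallEtale ζ.1).presheafFiberDesc
    (fun V t => germ ξ F ((EtShriek.compEtale a).obj V) (compPt a ξ ζ V t))
    (fun {V V'} g t => ConcreteCategory.hom_ext _ _ fun σ => by
      refine (germ_res ξ F ((EtShriek.compEtale a).map g) _ _).trans ?_
      exact congrArg (fun z => germ ξ F _ z σ) (Over.OverMorphism.ext rfl))

lemma resStalk_germ (F : EtCoh.Ab X) (ζ : PtOver a ξ) (V : W.Etale)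
    (t : (Scheme.pointSmallEtale ζ.1).fiber.obj V) (σ : F.obj.obj (op ((EtShriek.compEtale a).obj V))) :
    resStalk a ξ F ζ (germ ζ.1 ((EtShriek.restrAlong a).obj F) V t σ) =
      germ ξ F ((EtShriek.compEtale a).obj V) (compPt a ξ ζ V t) σ :=
  ConcreteCategory.congr_hom ((Scheme.pointSmallEtale ζ.1).toPresheafFiber_presheafFiberDesc
    (P := ((EtShriek.restrAlong a).obj F).obj)
    (fun V t => germ ξ F ((EtShriek.compEtale a).obj V) (compPt a ξ ζ V t)) _ V t) σ

set_option backward.isDefEq.respectTransparency.types false in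
/-- The stalk of the restriction at a lift surjects onto the stalk. -/
lemma resStalk_surjective (F : EtCoh.Ab X) (ζ : PtOver a ξ) :
    Function.Surjective (resStalk a ξ F ζ) := by
  intro x
  obtain ⟨U, t, σ, rfl⟩ := germ_surjective ξ F x
  let k : (EtShriek.compEtale a).obj ((EtCoh.bc a).obj U) ⟶ U :=
    MorphismProperty.Over.homMk (pullback.fst U.hom a) pullback.condition
  refine ⟨germ ζ.1 ((EtShriek.restrAlong a).obj F) ((EtCoh.bc a).obj U) (pushLift a ζ.1 ζ.2 U t)
    (F.obj.map k.op σ), ?_⟩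
  rw [resStalk_germ, germ_res]
  exact congrArg (fun z => germ ξ F U z σ)
    (Over.OverMorphism.ext (Groth.EtaleBase.pushLift_fst a ζ.1 ζ.2 U t))

end res

variable {X Y : Scheme.{u}} (f : X ⟶ Y) [IsSeparated f] [LocallyOfFiniteType f] [LocallyQuasiFinite f]
  {Ω : Type u} [Field Ω] [IsAlgClosed Ω] (η : Spec (CommRingCat.of Ω) ⟶ Y)

omit [IsSeparated f] in
set_option backward.isDefEq.respectTransparency.types false in
/-- Étale locally on the base there is a piece, open and finite over it, through a given point. -/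
theorem exists_finite_piece (ξ₀ : Spec (CommRingCat.of Ω) ⟶ X) (h₀ : ξ₀ ≫ f = η) :
    ∃ (V : Y.Etale) (s : (Scheme.pointSmallEtale η).fiber.obj V)
      (W : ((EtCoh.bc f).obj V).left.Opens), IsFinite (W.ι ≫ EtShriek.prV f V) ∧
        fiberPoint ξ₀ (pushLift f ξ₀ h₀ V s) ∈ W := by
  let x := ξ₀.base default
  have hfx : f.base x = η.base default :=
    (Scheme.Hom.comp_apply _ _ _).symm.trans
      (congrArg (fun m : Spec (CommRingCat.of Ω) ⟶ Y => m.base default) h₀)
  obtain ⟨U, g, u, ⟨hg, hgu, hres⟩, hnb⟩ :=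
    Groth.FlatMor2.exists_hasFiniteNbhd f x (f.quasiFiniteAt x)
  obtain ⟨W₀, v, hv, hfin, hvu, -, hvx, -⟩ := hnb.data hres
  let V : Y.Etale := Scheme.Etale.mk g
  obtain ⟨s, hs⟩ := exists_fiber_of_point η V u (hgu.trans hfx)
  let σ : ((EtCoh.bc f).obj V).left ⟶ pullback f g := (pullbackSymmetry g f).hom
  refine ⟨V, s, σ ⁻¹ᵁ W₀, ?_, ?_⟩
  · have e : (σ ⁻¹ᵁ W₀).ι ≫ EtShriek.prV f V = (σ ∣_ W₀) ≫ W₀.ι ≫ pullback.snd f g := by
      rw [← Category.assoc, morphismRestrict_ι, Category.assoc]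
      exact congrArg ((σ ⁻¹ᵁ W₀).ι ≫ ·) (pullbackSymmetry_hom_comp_snd g f).symm
    rw [e]
    have : IsIso σ := inferInstanceAs (IsIso (pullbackSymmetry g f).hom)
    have h1 : IsIso (σ ∣_ W₀) :=
      (MorphismProperty.isomorphisms.iff _).1 (IsZariskiLocalAtTarget.restrict
        (P := MorphismProperty.isomorphisms Scheme) ((MorphismProperty.isomorphisms.iff σ).2 ‹_›) W₀)
    exact (MorphismProperty.cancel_left_of_respectsIso @IsFinite (σ ∣_ W₀) _).2 hfin
  · let l : Spec (CommRingCat.of Ω) ⟶ pullback g f := (pushLift f ξ₀ h₀ V s).left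
    let p : ↥(pullback f g) := σ.base (fiberPoint ξ₀ (pushLift f ξ₀ h₀ V s))
    have hp1 : (pullback.snd f g).base p = u := by
      refine Eq.trans ?_ hs
      refine (Scheme.Hom.comp_apply _ _ _).symm.trans ?_
      refine (congrArg (fun m : pullback g f ⟶ U => m.base (l.base default))
        (pullbackSymmetry_hom_comp_snd g f)).trans ?_
      exact (Scheme.Hom.comp_apply _ _ _).symm.trans
        (congrArg (fun m : Spec (CommRingCat.of Ω) ⟶ U => m.base default) (Groth.EtaleBase.pushLift_fst f ξ₀ h₀ V s))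
    have hp2 : (pullback.fst f g).base p = x := by
      refine (Scheme.Hom.comp_apply _ _ _).symm.trans ?_
      refine (congrArg (fun m : pullback g f ⟶ X => m.base (l.base default))
        (pullbackSymmetry_hom_comp_fst g f)).trans ?_
      exact (Scheme.Hom.comp_apply _ _ _).symm.trans
        (congrArg (fun m : Spec (CommRingCat.of Ω) ⟶ X => m.base default) (pullback.lift_snd _ _ _))
    obtain ⟨-, hinj, -⟩ := Groth.FlatMor2.fiber_of_bijective_residueFieldMap
      (IsPullback.of_hasPullback f g) u hres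
    show p ∈ W₀
    exact Set.mem_of_eq_of_mem (hinj hp1 hvu (hp2.trans hvx.symm)) hv

set_option maxHeartbeats 800000 in
set_option backward.isDefEq.respectTransparency.types false in
/-- A section with proper support with a prescribed value at one point over `η` and zero at the
others. -/
theorem exists_single (F : EtCoh.Ab X) (ξ₀ : Spec (CommRingCat.of Ω) ⟶ X) (h₀ : ξ₀ ≫ f = η)
    (x : (EtCoh.stalk ξ₀).obj F) :
    ∃ (V : Y.Etale) (s : (Scheme.pointSmallEtale η).fiber.obj V)
      (σ : F.obj.obj (op ((EtCoh.bc f).obj V))), PS f F V σ ∧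
      germ ξ₀ F ((EtCoh.bc f).obj V) (pushLift f ξ₀ h₀ V s) σ = x ∧
      ∀ (ξ : Spec (CommRingCat.of Ω) ⟶ X) (h : ξ ≫ f = η), ξ ≠ ξ₀ →
        germ ξ F ((EtCoh.bc f).obj V) (pushLift f ξ h V s) σ = 0 := by
  classical
  obtain ⟨V, s, W, hfin, hmem⟩ := exists_finite_piece f η ξ₀ h₀
  let P := (EtCoh.bc f).obj V
  let q : (openObj P W).left ⟶ V.left := W.ι ≫ EtShriek.prV f V
  have : IsFinite q := hfin
  let a : (openObj P W).left ⟶ X := (openObj P W).hom
  have : AlgebraicGeometry.Etale a := (openObj P W).prop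
  have : EtShriek.JCont a := Groth.EtaleBase.InjCoh.jCont a
  let G := (EtShriek.restrAlong a).obj F
  obtain ⟨z₀, hz₀⟩ : ∃ z₀ : (openObj P W).left, (openHom P W).left.base z₀ = fiberPoint ξ₀ (pushLift f ξ₀ h₀ V s) :=
    ⟨⟨_, hmem⟩, rfl⟩
  obtain ⟨p₀, hp₀, -⟩ := exists_fiber_lift ξ₀ (openHom P W) _ z₀ hz₀
  let η' : Spec (CommRingCat.of Ω) ⟶ V.left := s.left
  let ζ₀ : Spec (CommRingCat.of Ω) ⟶ (openObj P W).left := p₀.left
  have hζ₀W : ζ₀ ≫ W.ι = (pushLift f ξ₀ h₀ V s).left := congrArg (fun m => m.left) hp₀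
  have hζ₀q : ζ₀ ≫ q = η' := (Category.assoc _ _ _).symm.trans
    ((congrArg (· ≫ EtShriek.prV f V) hζ₀W).trans (Groth.EtaleBase.pushLift_fst f ξ₀ h₀ V s))
  obtain ⟨x', hx'⟩ := resStalk_surjective a ξ₀ F ⟨ζ₀, Over.w p₀⟩ x
  let cv : ∀ ζ : {ζ : Spec (CommRingCat.of Ω) ⟶ (openObj P W).left // ζ ≫ q = η'},
      (EtCoh.stalk ζ.1).obj G :=
    Function.update (fun _ => 0) ⟨ζ₀, hζ₀q⟩ x'
  obtain ⟨V', s', σ', hσ'⟩ := exists_germ_push_values q η' G cv
  -- the neighbourhood over the base
  let V'' : Y.Etale := Scheme.Etale.mk (V'.hom ≫ V.hom)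
  let j : V'' ⟶ V := MorphismProperty.Over.homMk V'.hom rfl
  let s'' : (Scheme.pointSmallEtale η).fiber.obj V'' :=
    Over.homMk s'.left ((Category.assoc _ _ _).symm.trans ((congrArg (· ≫ V.hom) (Over.w s')).trans (Over.w s)))
  have hs'' : (Scheme.pointSmallEtale η).fiber.map j s'' = s := Over.OverMorphism.ext (Over.w s')
  let P'' := (EtCoh.bc f).obj V''
  let bj := (EtCoh.bc f).map j
  let O : P''.left.Opens := bj.left ⁻¹ᵁ W
  let l : (openObj P'' O).left ⟶ (openObj P W).left :=
    IsOpenImmersion.lift (openHom P W).left (O.ι ≫ bj.left) (by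
      rw [Filtered.range_openHom]
      rintro _ ⟨y, rfl⟩
      exact y.2)
  have hl : l ≫ W.ι = O.ι ≫ bj.left := IsOpenImmersion.lift_fac (openHom P W).left _ _
  have hcomp : (O.ι ≫ EtShriek.prV f V'') ≫ V'.hom = l ≫ q := by
    refine Eq.trans ?_ (Category.assoc l W.ι _)
    refine Eq.trans ?_ (congrArg (· ≫ EtShriek.prV f V) hl).symm
    exact (Category.assoc _ _ _).trans
      ((congrArg (O.ι ≫ ·) (isPullback_prV f j).w.symm).trans (Category.assoc _ _ _).symm)
  let el : (openObj P'' O).left ⟶ pullback V'.hom q := pullback.lift (O.ι ≫ EtShriek.prV f V'') l hcomp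
  let e : openObj P'' O ⟶ (EtShriek.compEtale a).obj ((EtCoh.bc q).obj V') :=
    MorphismProperty.Over.homMk el (by
      show el ≫ pullback.snd V'.hom q ≫ W.ι ≫ P.hom = O.ι ≫ P''.hom
      rw [← Category.assoc, pullback.lift_snd]
      refine ((Category.assoc _ _ _).symm.trans (congrArg (· ≫ P.hom) hl)).trans ?_
      exact (Category.assoc _ _ _).trans (congrArg (O.ι ≫ ·) (MorphismProperty.Over.w bj)))
  let σ₁ := F.obj.map e.op σ'
  -- the piece is closed and proper over the base
  have hW : ClSub.IsProperOver (EtShriek.prV f V) (W : Set P.left) := by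
    have : IsClosedImmersion W.ι := by
      have : IsClosedImmersion (pullback.fst (W.ι ≫ EtShriek.prV f V) (𝟙 V.left)) := inferInstance
      have : IsProper (W.ι ≫ EtShriek.prV f V) := inferInstanceAs (IsProper q)
      have : IsProper W.ι := IsProper.of_comp W.ι (EtShriek.prV f V)
      exact IsClosedImmersion.of_isPreimmersion _ W.ι.isClosedMap.isClosed_range
    have hc : IsClosed (W : Set P.left) :=
      (Scheme.Opens.range_ι W) ▸ W.ι.isClosedEmbedding.isClosed_range
    refine (ProperOver.iff_isProper _ hc W.ι (Scheme.Opens.range_ι W)).2 ?_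
    exact inferInstanceAs (IsProper q)
  have hO : ClSub.IsProperOver (EtShriek.prV f V'') (O : Set P''.left) :=
    ProperOver.preimage _ (isPullback_prV f j) hW
  obtain ⟨T, hT, hTσ⟩ := (Filtered.bijOn_restrict P'' O F (O : Set P''.left) hO.1 subset_rfl).2.2
    (show σ₁ ∈ _ from fun y _ => y.2)
  refine ⟨V'', s'', T, ProperOver.mono _ hO (isClosed_sectSupp _ _ _) hT, ?_⟩
  have key : ∀ (ξ : Spec (CommRingCat.of Ω) ⟶ X) (h : ξ ≫ f = η),
      (fiberPoint ξ (pushLift f ξ h V'' s'') ∉ O ∧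
        germ ξ F P'' (pushLift f ξ h V'' s'') T = 0) ∨
      ∃ (ζ : PtOver a ξ) (hζ : ζ.1 ≫ q = η'), ζ.1 ≫ W.ι = (pushLift f ξ h V s).left ∧
        germ ξ F P'' (pushLift f ξ h V'' s'') T = resStalk a ξ F ζ (cv ⟨ζ.1, hζ⟩) := by
    intro ξ h
    by_cases hp : fiberPoint ξ (pushLift f ξ h V'' s'') ∈ O
    · right
      obtain ⟨z, hz⟩ : ∃ z : (openObj P'' O).left,
          (openHom P'' O).left.base z = fiberPoint ξ (pushLift f ξ h V'' s'') := ⟨⟨_, hp⟩, rfl⟩
      obtain ⟨p', hp', -⟩ := exists_fiber_lift ξ (openHom P'' O) _ z hz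
      let r := (Scheme.pointSmallEtale ξ).fiber.map e p'
      let ζ : PtOver a ξ := ⟨r.left ≫ pullback.snd V'.hom q, (Category.assoc _ _ _).trans (Over.w r)⟩
      have hrfst : r.left ≫ pullback.fst V'.hom q = s'.left := by
        refine (Category.assoc _ _ _).trans ((congrArg (p'.left ≫ ·) (pullback.lift_fst _ _ _)).trans ?_)
        refine (Category.assoc _ _ _).symm.trans
          ((congrArg (· ≫ EtShriek.prV f V'') (congrArg (fun m => m.left) hp')).trans ?_)
        exact Groth.EtaleBase.pushLift_fst f ξ h V'' s''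
      have hrsnd : ζ.1 = p'.left ≫ l := (Category.assoc _ _ _).trans
        (congrArg (p'.left ≫ ·) (pullback.lift_snd _ _ _))
      have hζq : ζ.1 ≫ q = η' := (Category.assoc _ _ _).trans
        ((congrArg (r.left ≫ ·) pullback.condition.symm).trans ((Category.assoc _ _ _).symm.trans
          ((congrArg (· ≫ V'.hom) hrfst).trans (Over.w s'))))
      refine ⟨ζ, hζq, ?_, ?_⟩
      · refine ((congrArg (· ≫ W.ι) hrsnd).trans ((Category.assoc _ _ _).trans
          ((congrArg (p'.left ≫ ·) hl).trans (Category.assoc _ _ _).symm))).trans ?_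
        refine (congrArg (· ≫ bj.left) (congrArg (fun m => m.left) hp')).trans ?_
        exact (congrArg (fun m => m.left) (pushLift_map f ξ h j s'')).trans (by rw [hs''])
      · rw [← hp', ← germ_res, hTσ, germ_res]
        refine Eq.trans ?_ ((congrArg (resStalk a ξ F ζ) (hσ' ⟨ζ.1, hζq⟩)))
        rw [resStalk_germ]
        refine congrArg (fun t => germ ξ F _ t σ') (Over.OverMorphism.ext (pullback.hom_ext ?_ ?_))
        · exact hrfst.trans (Groth.EtaleBase.pushLift_fst q ζ.1 hζq V' s').symm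
        · exact (pullback.lift_snd _ _ _).symm
    · refine Or.inl ⟨hp, (Groth.EtaleBase.germ_eq_zero_iff_mem ξ F P'' T _).2 ?_⟩
      exact (notMem_sectSupp_iff F P'' T _).1 fun hm => hp (hT hm)
  refine ⟨?_, fun ξ h hne => ?_⟩
  · rcases key ξ₀ h₀ with ⟨hn, -⟩ | ⟨ζ, hζ, hζW, e1⟩
    · refine absurd ?_ hn
      show bj.left.base (fiberPoint ξ₀ (pushLift f ξ₀ h₀ V'' s'')) ∈ W
      rw [← fiberPoint_map, pushLift_map, hs'']
      exact hmem
    · obtain rfl : ζ = ⟨ζ₀, Over.w p₀⟩ := Subtype.ext ((cancel_mono W.ι).1 (hζW.trans hζ₀W.symm))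
      rw [e1, ← hx']
      refine congrArg (fun y => resStalk a ξ₀ F ⟨ζ₀, Over.w p₀⟩ y) ?_
      show cv ⟨ζ₀, hζ₀q⟩ = x'
      exact Function.update_self ..
  · rcases key ξ h with ⟨-, e1⟩ | ⟨ζ, hζ, hζW, e1⟩
    · exact e1
    · rw [e1]
      have hz : cv ⟨ζ.1, hζ⟩ = 0 := by
        refine (Function.update_of_ne ?_ _ _).trans rfl
        intro hE
        have hEv : ζ.1 = ζ₀ := congrArg Subtype.val hE
        exact hne (ζ.2.symm.trans ((congrArg (· ≫ a) hEv).trans (Over.w p₀)))
      exact (congrArg (fun y => resStalk a ξ F ζ y) hz).trans (map_zero (resStalk a ξ F ζ).hom)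

end Groth.EtaleShriek.LqfLocal
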