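import Groth.Agent.EtaleShriek.LqfLocal
import Groth.Agent.EtaleShriek.Values
import Groth.Agent.EtaleShriek.ExtZeroShriek
import Mathlib.Algebra.DirectSum.Basic

/-!
Stalks and exactness of `f_!` for separated locally quasi-finite `f`.
-/

set_option autoImplicit false

universe u

open CategoryTheory CategoryTheory.Limits AlgebraicGeometry Opposite

namespace Groth.EtaleShriek.LqfStalk

open Groth.EtaleBase.LocConst (germ_res)
open Groth.EtaleBase (germ germ_map germ_surjective germ_eq_zero_iff_mem fiberPoint pushLift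
  pushLift_map pushLift_fst)

variable {X Y : Scheme.{u}} (f : X ⟶ Y) {Ω : Type u} [Field Ω] [IsAlgClosed Ω]
  (η : Spec (CommRingCat.of Ω) ⟶ Y)

/-- The points of `X` over `η`. -/
abbrev Pts : Type u := {ξ : Spec (CommRingCat.of Ω) ⟶ X // ξ ≫ f = η}

/-- Evaluation of the stalk of the direct image at a point over `η`. -/
noncomputable def ev (F : EtCoh.Ab X) (ξ : Pts f η) :
    (EtCoh.stalk η).obj ((EtCoh.push f).obj F) ⟶ (EtCoh.stalk ξ.1).obj F :=
  (Scheme.pointSmallEtale η).presheafFiberDesc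
    (fun V s => germ ξ.1 F ((EtCoh.bc f).obj V) (pushLift f ξ.1 ξ.2 V s))
    (fun {V V'} g s => ConcreteCategory.hom_ext _ _ fun σ => by
      rw [ConcreteCategory.comp_apply]
      refine (germ_res ξ.1 F ((EtCoh.bc f).map g) _ _).trans ?_
      rw [pushLift_map]
      rfl)

lemma ev_germ (F : EtCoh.Ab X) (ξ : Pts f η) (V : Y.Etale)
    (s : (Scheme.pointSmallEtale η).fiber.obj V) (σ : F.obj.obj (op ((EtCoh.bc f).obj V))) :
    ev f η F ξ (germ η ((EtCoh.push f).obj F) V s σ) =
      germ ξ.1 F ((EtCoh.bc f).obj V) (pushLift f ξ.1 ξ.2 V s) σ :=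
  ConcreteCategory.congr_hom ((Scheme.pointSmallEtale η).toPresheafFiber_presheafFiberDesc
    (P := ((EtCoh.push f).obj F).obj)
    (fun V s => germ ξ.1 F ((EtCoh.bc f).obj V) (pushLift f ξ.1 ξ.2 V s)) _ V s) σ

variable [IsSeparated f] [LocallyOfFiniteType f] [LocallyQuasiFinite f]

/-- Evaluation of the stalk of `f_!` at a point over `η`. -/
noncomputable def evSh (F : EtCoh.Ab X) (ξ : Pts f η) :
    (EtCoh.stalk η).obj ((EtShriek.lowerShriek f).obj F) ⟶ (EtCoh.stalk ξ.1).obj F :=
  (EtCoh.stalk η).map (EtShriek.lowerShriekToPush f F) ≫ ev f η F ξ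

omit [IsSeparated f] [LocallyOfFiniteType f] [LocallyQuasiFinite f] in
lemma evSh_germ (F : EtCoh.Ab X) (ξ : Pts f η) (V : Y.Etale)
    (s : (Scheme.pointSmallEtale η).fiber.obj V)
    (b : ((EtShriek.lowerShriek f).obj F).obj.obj (op V)) :
    evSh f η F ξ (germ η ((EtShriek.lowerShriek f).obj F) V s b) =
      germ ξ.1 F ((EtCoh.bc f).obj V) (pushLift f ξ.1 ξ.2 V s)
        ((EtShriek.lowerShriekToPush f F).hom.app (op V) b) := by
  rw [evSh, ConcreteCategory.comp_apply, germ_map, ev_germ]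

omit [IsSeparated f] [LocallyQuasiFinite f] in
lemma evSh_naturality {F G : EtCoh.Ab X} (α : F ⟶ G) (ξ : Pts f η)
    (b : (EtCoh.stalk η).obj ((EtShriek.lowerShriek f).obj F)) :
    evSh f η G ξ ((EtCoh.stalk η).map ((EtShriek.lowerShriek f).map α) b) =
      (EtCoh.stalk ξ.1).map α (evSh f η F ξ b) := by
  obtain ⟨V, s, c, rfl⟩ := germ_surjective η _ b
  rw [germ_map, evSh_germ, evSh_germ, germ_map]
  exact congrArg _ (Filtered.toPush_map f α V c)

omit [IsSeparated f] [LocallyQuasiFinite f] in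
/-- The evaluations are jointly injective. -/
lemma eq_zero_of_evSh (F : EtCoh.Ab X) (b : (EtCoh.stalk η).obj ((EtShriek.lowerShriek f).obj F))
    (h : ∀ ξ, evSh f η F ξ b = 0) : b = 0 := by
  obtain ⟨V, s, c, rfl⟩ := germ_surjective η _ b
  have hι : Function.Injective ((EtCoh.stalk η).map (EtShriek.lowerShriekToPush f F)) :=
    (AddCommGrpCat.mono_iff_injective _).1 inferInstance
  refine hι (Eq.trans ?_ (map_zero ((EtCoh.stalk η).map (EtShriek.lowerShriekToPush f F)).hom).symm)
  rw [germ_map]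
  refine germ_eq_zero_of_values f η F V s _ (ps_toPush f F V c) fun ξ hξ => ?_
  exact (evSh_germ f η F ⟨ξ, hξ⟩ V s c).symm.trans (h ⟨ξ, hξ⟩)

omit [IsSeparated f] [LocallyQuasiFinite f] in
lemma ext_evSh (F : EtCoh.Ab X) (a b : (EtCoh.stalk η).obj ((EtShriek.lowerShriek f).obj F))
    (h : ∀ ξ, evSh f η F ξ a = evSh f η F ξ b) : a = b :=
  sub_eq_zero.1 (eq_zero_of_evSh f η F _ fun ξ => by rw [map_sub, h ξ, sub_self])

omit [IsSeparated f] in
/-- An element of the stalk has finitely many nonzero values. -/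
lemma finite_values (F : EtCoh.Ab X) (b : (EtCoh.stalk η).obj ((EtShriek.lowerShriek f).obj F)) :
    {ξ : Pts f η | evSh f η F ξ b ≠ 0}.Finite := by
  obtain ⟨W, t, c, rfl⟩ := germ_surjective η _ b
  let q := EtShriek.prV f W
  have : LocallyQuasiFinite q := inferInstanceAs (LocallyQuasiFinite (pullback.fst W.hom f))
  let t' : Spec (CommRingCat.of Ω) ⟶ W.left := t.left
  let l : Pts f η → (Spec (CommRingCat.of Ω) ⟶ pullback q t') := fun u =>
    pullback.lift (pushLift f u.1 u.2 W t).left (𝟙 _)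
      ((pushLift_fst f u.1 u.2 W t).trans (Category.id_comp _).symm)
  let g : Pts f η → ↥(pullback q t') := fun u => (l u).base (IsLocalRing.closedPoint Ω)
  have hg : Function.Injective g := by
    intro u v huv
    have h : l u = l v := ext_of_apply_closedPoint_eq (pullback.snd q t') (pullback.lift_snd _ _ _)
      (pullback.lift_snd _ _ _) huv
    have h1 : (pushLift f u.1 u.2 W t).left = (pushLift f v.1 v.2 W t).left :=
      (pullback.lift_fst _ _ _).symm.trans ((congrArg (· ≫ pullback.fst q t') h).trans (pullback.lift_fst _ _ _))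
    exact Subtype.ext ((pullback.lift_snd _ _ _).symm.trans
      ((congrArg (· ≫ pullback.snd W.hom f) h1).trans (pullback.lift_snd _ _ _)))
  refine Set.Finite.of_finite_image
    ((ExtZeroIso.finite_fibre q t' _ (ps_toPush f F W c)).subset ?_) hg.injOn
  rintro _ ⟨u, hu, rfl⟩
  have e : (pullback.fst q t').base (g u) = fiberPoint u.1 (pushLift f u.1 u.2 W t) := by
    refine (Scheme.Hom.comp_apply _ _ _).symm.trans ((congrArg (fun m : Spec (CommRingCat.of Ω) ⟶
      ((EtCoh.bc f).obj W).left => m.base (IsLocalRing.closedPoint Ω)) (pullback.lift_fst _ _ _)).trans ?_)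
    exact congrArg (pushLift f u.1 u.2 W t).left.base (Subsingleton.elim (α := ↥(Spec (CommRingCat.of Ω))) _ _)
  by_contra hn
  refine hu ((evSh_germ f η F u W t c).trans ((germ_eq_zero_iff_mem u.1 F _ _ _).2
    ((notMem_sectSupp_iff F _ _ _).1 fun hm => hn ?_)))
  exact show (pullback.fst q t').base (g u) ∈ _ from Set.mem_of_eq_of_mem e hm

/-- An element with a single prescribed value. -/
lemma exists_inc (F : EtCoh.Ab X) (ξ : Pts f η) (x : (EtCoh.stalk ξ.1).obj F) :
    ∃ b : (EtCoh.stalk η).obj ((EtShriek.lowerShriek f).obj F),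
      evSh f η F ξ b = x ∧ ∀ ξ', ξ' ≠ ξ → evSh f η F ξ' b = 0 := by
  obtain ⟨V, s, σ, hσ, hx, h0⟩ := LqfLocal.exists_single f η F ξ.1 ξ.2 x
  obtain ⟨c, rfl⟩ := (exists_toPush_eq_iff f F V σ).2 hσ
  exact ⟨germ η _ V s c, (evSh_germ f η F ξ V s c).trans hx,
    fun ξ' h => (evSh_germ f η F ξ' V s c).trans (h0 ξ'.1 ξ'.2 fun he => h (Subtype.ext he))⟩

/-- The inclusion of a stalk as a summand. -/
noncomputable def incFun (F : EtCoh.Ab X) (ξ : Pts f η) (x : (EtCoh.stalk ξ.1).obj F) :
    (EtCoh.stalk η).obj ((EtShriek.lowerShriek f).obj F) :=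
  (exists_inc f η F ξ x).choose

lemma evSh_incFun_self (F : EtCoh.Ab X) (ξ : Pts f η) (x : (EtCoh.stalk ξ.1).obj F) :
    evSh f η F ξ (incFun f η F ξ x) = x :=
  (exists_inc f η F ξ x).choose_spec.1

lemma evSh_incFun_ne (F : EtCoh.Ab X) {ξ ξ' : Pts f η} (h : ξ' ≠ ξ) (x : (EtCoh.stalk ξ.1).obj F) :
    evSh f η F ξ' (incFun f η F ξ x) = 0 :=
  (exists_inc f η F ξ x).choose_spec.2 ξ' h

/-- `incFun` as a homomorphism. -/
noncomputable def inc (F : EtCoh.Ab X) (ξ : Pts f η) :
    (EtCoh.stalk ξ.1).obj F →+ (EtCoh.stalk η).obj ((EtShriek.lowerShriek f).obj F) :=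
  AddMonoidHom.mk' (incFun f η F ξ) fun a b => ext_evSh f η F _ _ fun ξ' => by
    by_cases h : ξ' = ξ
    · subst h
      rw [map_add, evSh_incFun_self, evSh_incFun_self, evSh_incFun_self]
    · rw [map_add, evSh_incFun_ne f η F h, evSh_incFun_ne f η F h, evSh_incFun_ne f η F h, add_zero]

variable [DecidableEq (Pts f η)]

/-- The direct sum maps to the stalk. -/
noncomputable def sumMap (F : EtCoh.Ab X) :
    (DirectSum (Pts f η) fun ξ => (EtCoh.stalk ξ.1).obj F) →+
      (EtCoh.stalk η).obj ((EtShriek.lowerShriek f).obj F) :=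
  DirectSum.toAddMonoid (inc f η F)

lemma evSh_sumMap (F : EtCoh.Ab X) (x : DirectSum (Pts f η) fun ξ => (EtCoh.stalk ξ.1).obj F)
    (ξ : Pts f η) : evSh f η F ξ (sumMap f η F x) = x ξ := by
  induction x using DirectSum.induction_on with
  | zero => simp
  | of u y =>
    rw [sumMap, DirectSum.toAddMonoid_of]
    by_cases h : ξ = u
    · subst h
      rw [DirectSum.of_eq_same]
      exact evSh_incFun_self f η F ξ y
    · rw [DirectSum.of_eq_of_ne _ _ _ h]
      exact evSh_incFun_ne f η F h y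
  | add a b ha hb => rw [map_add, map_add, ha, hb, DirectSum.add_apply]

/-- The stalk is the direct sum. -/
lemma sumMap_bijective (F : EtCoh.Ab X) : Function.Bijective (sumMap f η F) := by
  refine ⟨fun a b hab => DFinsupp.ext fun ξ => ?_, fun b => ?_⟩
  · rw [← evSh_sumMap f η F a ξ, ← evSh_sumMap f η F b ξ, hab]
  · classical
    refine ⟨DFinsupp.mk (finite_values f η F b).toFinset (fun ξ => evSh f η F ξ.1 b), ext_evSh f η F _ _ fun ξ => ?_⟩
    rw [evSh_sumMap]
    refine DFinsupp.mk_apply.trans ?_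
    split_ifs with h
    · rfl
    · by_contra hne
      exact h ((finite_values f η F b).mem_toFinset.2 fun e => hne e.symm)

/-- The stalk of `f_!` is the coproduct of the stalks at the points over. -/
theorem nonempty_stalk_iso (F : EtCoh.Ab X) :
    Nonempty ((EtCoh.stalk η).obj ((EtShriek.lowerShriek f).obj F) ≅
      ∐ fun ξ : Pts f η => (EtCoh.stalk ξ.1).obj F) := by
  let β : Pts f η → AddCommGrpCat.{u + 1} := fun ξ => (EtCoh.stalk ξ.1).obj F
  let c : Cofan β := Cofan.mk (AddCommGrpCat.of (DirectSum (Pts f η) fun ξ => β ξ))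
    fun ξ => AddCommGrpCat.ofHom (DirectSum.of (fun ξ => β ξ) ξ)
  have hc : IsColimit c := Cofan.IsColimit.mk c
    (fun s => AddCommGrpCat.ofHom (DirectSum.toAddMonoid (β := fun ξ => β ξ) fun ξ => (s.inj ξ).hom))
    (fun s ξ => AddCommGrpCat.hom_ext (AddMonoidHom.ext fun y =>
      DirectSum.toAddMonoid_of (β := fun ξ => β ξ) (fun ξ => (s.inj ξ).hom) ξ y))
    (fun s m hm => AddCommGrpCat.hom_ext (DirectSum.addHom_ext fun ξ y => by
      refine Eq.trans ?_ (DirectSum.toAddMonoid_of (β := fun ξ => β ξ) (fun ξ => (s.inj ξ).hom) ξ y).symm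
      exact ConcreteCategory.congr_hom (hm ξ) y))
  exact ⟨(AddEquiv.ofBijective (sumMap f η F) (sumMap_bijective f η F)).symm.toAddCommGrpIso ≪≫
    hc.coconePointUniqueUpToIso (coproductIsCoproduct β)⟩

omit [DecidableEq (Pts f η)] in
/-- Epimorphisms give surjections on stalks of `f_!`. -/
lemma stalk_map_surjective {F G : EtCoh.Ab X} (α : F ⟶ G) [Epi α] :
    Function.Surjective ((EtCoh.stalk η).map ((EtShriek.lowerShriek f).map α)) := by
  classical
  intro b
  obtain ⟨x, rfl⟩ := (sumMap_bijective f η G).2 b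
  induction x using DirectSum.induction_on with
  | zero => exact ⟨0, by rw [map_zero, map_zero]⟩
  | of u y =>
    have hs : Function.Surjective ((EtCoh.stalk u.1).map α) :=
      (AddCommGrpCat.epi_iff_surjective _).1 inferInstance
    obtain ⟨x, rfl⟩ := hs y
    refine ⟨incFun f η F u x, ext_evSh f η G _ _ fun ξ => ?_⟩
    rw [evSh_naturality, evSh_sumMap]
    by_cases h : ξ = u
    · subst h
      rw [DirectSum.of_eq_same, evSh_incFun_self]
    · rw [DirectSum.of_eq_of_ne _ _ _ h, evSh_incFun_ne f η F h, map_zero]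
  | add a b ha hb =>
    obtain ⟨a', ha'⟩ := ha
    obtain ⟨b', hb'⟩ := hb
    exact ⟨a' + b', by rw [map_add, map_add, ha', hb']⟩

end Groth.EtaleShriek.LqfStalk
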