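import Groth.Agent.EtaleShriek.TensStalk
import Groth.Agent.EtaleShriek.LqfStalk
import Groth.Agent.EtaleBase.PushEssImage

/-!
The projection formula `f_! F ⊗ G ≅ f_! (F ⊗ f^* G)` for separated locally quasi-finite `f`.
-/

set_option autoImplicit false
set_option backward.isDefEq.respectTransparency.types false

universe u

open CategoryTheory CategoryTheory.Limits AlgebraicGeometry Opposite
open scoped TensorProduct

namespace Groth.EtaleShriek.ProjFormula

open Groth.EtaleBase (germ germ_map germ_surjective pushLift stalkPullIso stalkPullIso_germ)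
open Groth.EtaleShriek.LqfStalk (Pts evSh evSh_germ ext_evSh incFun evSh_incFun_self evSh_incFun_ne finite_values)
open Groth.EtaleShriek.TensStalk (T toT tm toTensor toTensor_germ toTensor_bijective ofTensor ofTensor_toTensor
  toTensor_ofTensor)

variable {X Y : Scheme.{u}} (f : X ⟶ Y) [LocallyOfFiniteType f] (F : EtCoh.Ab X) (G : EtCoh.Ab Y)

/-- The target sheaf on `X`. -/
noncomputable abbrev Tgt : EtCoh.Ab X := T F ((EtCoh.pull f).obj G)

/-- The presheaf map to the direct image. -/
noncomputable def preToPush :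
    EtTens.tensorObj ((EtShriek.lowerShriek f).obj F).obj G.obj ⟶ ((EtCoh.push f).obj (Tgt f F G)).obj :=
  EtTens.tensorHom (EtShriek.lowerShriekToPush f F).hom ((EtCoh.pullPushAdj f).unit.app G).hom ≫
    ((Functor.whiskerLeft (EtCoh.bc f).op (toT F ((EtCoh.pull f).obj G))) :)

omit [LocallyOfFiniteType f] in
lemma preToPush_tmul (V : Y.Etale) (c : ((EtShriek.lowerShriek f).obj F).obj.obj (op V)) (n : G.obj.obj (op V)) :
    (preToPush f F G).app (op V) (c ⊗ₜ[ℤ] n) = tm F ((EtCoh.pull f).obj G) ((EtCoh.bc f).obj V)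
      ((EtShriek.lowerShriekToPush f F).hom.app (op V) c)
      (((EtCoh.pullPushAdj f).unit.app G).hom.app (op V) n) :=
  rfl

omit [LocallyOfFiniteType f] in
lemma sectSupp_tm_subset (U : X.Etale) (a : F.obj.obj (op U)) (b : ((EtCoh.pull f).obj G).obj.obj (op U)) :
    EtShriek.sectSupp (Tgt f F G) U (tm F ((EtCoh.pull f).obj G) U a b) ⊆ EtShriek.sectSupp F U a := by
  intro x hx W k hw hz
  refine hx W k hw ?_
  rw [Groth.EtaleShriek.TensStalk.tm_map, hz, tm, TensorProduct.zero_tmul]
  exact map_zero _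

lemma ps_preToPush (V : Y.Etale)
    (x : (EtTens.tensorObj ((EtShriek.lowerShriek f).obj F).obj G.obj).obj (op V)) :
    PS f (Tgt f F G) V ((preToPush f F G).app (op V) x) := by
  change (((EtShriek.lowerShriek f).obj F).obj.obj (op V)) ⊗[ℤ] (G.obj.obj (op V)) at x
  induction x using TensorProduct.induction_on with
  | zero =>
    erw [map_zero]
    exact ps_zero f _ V
  | tmul c n =>
    rw [preToPush_tmul]
    exact ProperOver.mono _ (ps_toPush f F V c) (isClosed_sectSupp _ _ _) (sectSupp_tm_subset f F G _ _ _)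
  | add a b ha hb =>
    erw [map_add]
    exact ps_add f _ V _ _ ha hb

/-- The presheaf map to `f_!`. -/
noncomputable def preToShriek :
    EtTens.tensorObj ((EtShriek.lowerShriek f).obj F).obj G.obj ⟶
      ((EtShriek.lowerShriek f).obj (Tgt f F G)).obj :=
  ({ app := fun V => AddCommGrpCat.ofHom (((preToPush f F G).app V).hom.codRestrict
        (EtShriek.shriekSubgroup f (Tgt f F G) V.unop)
        fun x => (mem_shriekSubgroup f _ V.unop _).2 (ps_preToPush f F G V.unop x))
     naturality := fun V W a => by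
       ext x
       exact Subtype.ext (NatTrans.naturality_apply (preToPush f F G) a x) } :
    EtTens.tensorObj ((EtShriek.lowerShriek f).obj F).obj G.obj ⟶ EtShriek.lowerShriekPre f (Tgt f F G)) ≫
    toShriek f (Tgt f F G)

/-- The projection morphism. -/
noncomputable def projHom : T ((EtShriek.lowerShriek f).obj F) G ⟶ (EtShriek.lowerShriek f).obj (Tgt f F G) :=
  ⟨sheafifyLift Y.smallEtaleTopology (preToShriek f F G) ((EtShriek.lowerShriek f).obj (Tgt f F G)).property⟩

lemma toPush_projHom (V : Y.Etale) (c : ((EtShriek.lowerShriek f).obj F).obj.obj (op V)) (n : G.obj.obj (op V)) :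
    (EtShriek.lowerShriekToPush f (Tgt f F G)).hom.app (op V)
        ((projHom f F G).hom.app (op V) (tm _ G V c n)) =
      tm F ((EtCoh.pull f).obj G) ((EtCoh.bc f).obj V)
        ((EtShriek.lowerShriekToPush f F).hom.app (op V) c)
        (((EtCoh.pullPushAdj f).unit.app G).hom.app (op V) n) := by
  have e : (projHom f F G).hom.app (op V) (tm _ G V c n) = (preToShriek f F G).app (op V) (c ⊗ₜ[ℤ] n) :=
    ConcreteCategory.congr_hom (congrArg (fun m : EtTens.tensorObj ((EtShriek.lowerShriek f).obj F).obj G.obj ⟶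
        ((EtShriek.lowerShriek f).obj (Tgt f F G)).obj => m.app (op V))
      (toSheafify_sheafifyLift Y.smallEtaleTopology (preToShriek f F G)
        ((EtShriek.lowerShriek f).obj (Tgt f F G)).property)) (c ⊗ₜ[ℤ] n : TensorProduct ℤ _ _)
  rw [e]
  exact (toPush_toShriek_apply f _ V ⟨_, (mem_shriekSubgroup f _ V _).2 (ps_preToPush f F G V (c ⊗ₜ[ℤ] n))⟩).trans
    (preToPush_tmul f F G V c n)

section stalk

variable {Ω : Type u} [Field Ω] [IsAlgClosed Ω] (η : Spec (CommRingCat.of Ω) ⟶ Y)

/-- The stalk of `G` at `η` as a stalk of `f^* G`. -/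
noncomputable def spi' (ξ : Pts f η) : (EtCoh.stalk η).obj G ≅ (EtCoh.stalk ξ.1).obj ((EtCoh.pull f).obj G) :=
  eqToIso (congrArg (fun e => (EtCoh.stalk e).obj G) ξ.2.symm) ≪≫ (stalkPullIso f ξ.1).app G

omit [LocallyOfFiniteType f] in
lemma spi'_germ (ξ : Pts f η) (V : Y.Etale) (s : (Scheme.pointSmallEtale η).fiber.obj V) (n : G.obj.obj (op V)) :
    (spi' f G η ξ).hom (germ η G V s n) =
      germ ξ.1 ((EtCoh.pull f).obj G) ((EtCoh.bc f).obj V) (pushLift f ξ.1 ξ.2 V s)
        (((EtCoh.pullPushAdj f).unit.app G).hom.app (op V) n) := by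
  obtain ⟨ξ, rfl⟩ := ξ
  simp only [spi', eqToIso_refl, Iso.refl_trans, Iso.app_hom]
  exact stalkPullIso_germ f ξ G V s n

/-- The value map on tensor products of stalks. -/
noncomputable def val (ξ : Pts f η) :
    ((EtCoh.stalk η).obj ((EtShriek.lowerShriek f).obj F)) ⊗[ℤ] ((EtCoh.stalk η).obj G) →+
      ((EtCoh.stalk ξ.1).obj F) ⊗[ℤ] ((EtCoh.stalk ξ.1).obj ((EtCoh.pull f).obj G)) :=
  (TensorProduct.map (evSh f η F ξ).hom.toIntLinearMap (spi' f G η ξ).hom.hom.toIntLinearMap).toAddMonoidHom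

omit [LocallyOfFiniteType f] in
lemma val_tmul (ξ : Pts f η) (x : (EtCoh.stalk η).obj ((EtShriek.lowerShriek f).obj F))
    (y : (EtCoh.stalk η).obj G) :
    val f F G η ξ (x ⊗ₜ[ℤ] y) = evSh f η F ξ x ⊗ₜ[ℤ] (spi' f G η ξ).hom y := rfl

lemma toTensor_evSh_projHom (ξ : Pts f η)
    (z : (EtCoh.stalk η).obj (T ((EtShriek.lowerShriek f).obj F) G)) :
    toTensor F ((EtCoh.pull f).obj G) ξ.1 (evSh f η (Tgt f F G) ξ ((EtCoh.stalk η).map (projHom f F G) z)) =
      val f F G η ξ (toTensor _ G η z) := by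
  obtain ⟨V, s, x, rfl⟩ := TensStalk.exists_germ _ G η z
  change (((EtShriek.lowerShriek f).obj F).obj.obj (op V)) ⊗[ℤ] (G.obj.obj (op V)) at x
  induction x using TensorProduct.induction_on with
  | zero => erw [map_zero, map_zero, map_zero, map_zero, map_zero, map_zero]; exact (map_zero _).symm
  | tmul c n =>
    refine Eq.trans ?_ (congrArg (val f F G η ξ) (toTensor_germ _ G η V s c n)).symm
    rw [val_tmul, evSh_germ, spi'_germ]
    refine Eq.trans ?_ (toTensor_germ F ((EtCoh.pull f).obj G) ξ.1 _ (pushLift f ξ.1 ξ.2 V s) _ _)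
    refine congrArg (toTensor F ((EtCoh.pull f).obj G) ξ.1) ?_
    rw [← toPush_projHom]
    exact ((congrArg (evSh f η (Tgt f F G) ξ) (germ_map η (projHom f F G) V s _)).trans (evSh_germ f η _ ξ V s _))
  | add a b ha hb => erw [map_add, map_add, map_add, map_add, map_add, map_add, map_add, ha, hb]

variable [IsSeparated f] [LocallyQuasiFinite f]

/-- Single values. -/
noncomputable def incT (ξ : Pts f η) :
    ((EtCoh.stalk ξ.1).obj F) ⊗[ℤ] ((EtCoh.stalk ξ.1).obj ((EtCoh.pull f).obj G)) →+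
      ((EtCoh.stalk η).obj ((EtShriek.lowerShriek f).obj F)) ⊗[ℤ] ((EtCoh.stalk η).obj G) :=
  (TensorProduct.map (LqfStalk.inc f η F ξ).toIntLinearMap (spi' f G η ξ).inv.hom.toIntLinearMap).toAddMonoidHom

lemma incT_tmul (ξ : Pts f η) (x : (EtCoh.stalk ξ.1).obj F)
    (y : (EtCoh.stalk ξ.1).obj ((EtCoh.pull f).obj G)) :
    incT f F G η ξ (x ⊗ₜ[ℤ] y) = incFun f η F ξ x ⊗ₜ[ℤ] (spi' f G η ξ).inv y := rfl

lemma val_incT_self (ξ : Pts f η) (w : ((EtCoh.stalk ξ.1).obj F) ⊗[ℤ] ((EtCoh.stalk ξ.1).obj ((EtCoh.pull f).obj G))) :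
    val f F G η ξ (incT f F G η ξ w) = w := by
  induction w using TensorProduct.induction_on with
  | zero => simp
  | tmul x y =>
    rw [incT_tmul, val_tmul, evSh_incFun_self]
    exact congrArg (x ⊗ₜ[ℤ] ·) (ConcreteCategory.congr_hom (spi' f G η ξ).inv_hom_id y)
  | add a b ha hb => rw [map_add, map_add, ha, hb]

lemma val_incT_ne {ξ ξ' : Pts f η} (h : ξ' ≠ ξ)
    (w : ((EtCoh.stalk ξ.1).obj F) ⊗[ℤ] ((EtCoh.stalk ξ.1).obj ((EtCoh.pull f).obj G))) :
    val f F G η ξ' (incT f F G η ξ w) = 0 := by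
  induction w using TensorProduct.induction_on with
  | zero => simp
  | tmul x y => rw [incT_tmul, val_tmul, evSh_incFun_ne f η F h, TensorProduct.zero_tmul]
  | add a b ha hb => rw [map_add, map_add, ha, hb, add_zero]

open Classical in
/-- Every element is the sum of its single values. -/
lemma exists_sum_eq (w : ((EtCoh.stalk η).obj ((EtShriek.lowerShriek f).obj F)) ⊗[ℤ] ((EtCoh.stalk η).obj G)) :
    ∃ S : Finset (Pts f η), ∀ S' : Finset (Pts f η), S ⊆ S' →
      ∑ ξ ∈ S', incT f F G η ξ (val f F G η ξ w) = w := by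
  induction w using TensorProduct.induction_on with
  | zero => exact ⟨∅, fun S' _ => by simp⟩
  | tmul x y =>
    refine ⟨(finite_values f η F x).toFinset, fun S' hS' => ?_⟩
    have hy : ∀ ξ, (spi' f G η ξ).inv ((spi' f G η ξ).hom y) = y := fun ξ =>
      ConcreteCategory.congr_hom (spi' f G η ξ).hom_inv_id y
    simp only [val_tmul, incT_tmul, hy]
    rw [← TensorProduct.sum_tmul]
    refine congrArg (· ⊗ₜ[ℤ] y) (ext_evSh f η F _ _ fun ξ' => ?_)
    rw [map_sum]
    refine (Finset.sum_eq_single ξ' (fun u _ hu => evSh_incFun_ne f η F (Ne.symm hu) _) fun hu => ?_).trans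
      (evSh_incFun_self f η F ξ' _)
    rw [evSh_incFun_self]
    by_contra hne
    exact hu (hS' ((finite_values f η F x).mem_toFinset.2 hne))
  | add a b ha hb =>
    obtain ⟨Sa, ha⟩ := ha
    obtain ⟨Sb, hb⟩ := hb
    refine ⟨Sa ∪ Sb, fun S' hS' => ?_⟩
    simp only [map_add, Finset.sum_add_distrib]
    rw [ha S' (Finset.union_subset_left hS'), hb S' (Finset.union_subset_right hS')]

lemma bijective_stalk : Function.Bijective ((EtCoh.stalk η).map (projHom f F G)) := by
  classical
  constructor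
  · rw [injective_iff_map_eq_zero]
    intro z hz
    refine (toTensor_bijective _ G η).1 (Eq.trans ?_ (map_zero _).symm)
    obtain ⟨S, hS⟩ := exists_sum_eq f F G η (toTensor _ G η z)
    rw [← hS S subset_rfl]
    refine Finset.sum_eq_zero fun ξ _ => ?_
    rw [← toTensor_evSh_projHom, hz]
    simp
  · intro b
    have hfin := finite_values f η (Tgt f F G) b
    let w := ∑ ξ ∈ hfin.toFinset, incT f F G η ξ (toTensor F ((EtCoh.pull f).obj G) ξ.1 (evSh f η _ ξ b))
    obtain ⟨z, hz⟩ := (toTensor_bijective _ G η).2 w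
    refine ⟨z, ext_evSh f η _ _ _ fun ξ => (toTensor_bijective F ((EtCoh.pull f).obj G) ξ.1).1 ?_⟩
    rw [toTensor_evSh_projHom, hz, map_sum]
    refine (Finset.sum_eq_single ξ (fun u _ hu => val_incT_ne f F G η (Ne.symm hu) _) fun hu => ?_).trans
      (val_incT_self f F G η ξ _)
    rw [val_incT_self, not_not.1 (fun hne => hu (hfin.mem_toFinset.2 hne)), map_zero]

end stalk

variable [IsSeparated f] [LocallyQuasiFinite f]

/-- The projection formula. -/
theorem isIso_projHom : IsIso (projHom f F G) := by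
  refine Groth.EtaleBase.isIso_of_exists_stalk _ fun y => ?_
  let K := AlgebraicClosure (Y.residueField y)
  let η : Spec (CommRingCat.of K) ⟶ Y :=
    Spec.map (CommRingCat.ofHom (algebraMap (Y.residueField y) K)) ≫ Y.fromSpecResidueField y
  exact ⟨K, inferInstance, inferInstance, η, Scheme.fromSpecResidueField_apply y _, bijective_stalk f F G η⟩

end Groth.EtaleShriek.ProjFormula
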