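import Groth.Agent.EtaleShriek.ExtZeroShriek
import Groth.Prelude.Def_EtCore

/-!
`f_! = f_*` for proper `f`; compactifications; sections with compact support.
-/

set_option autoImplicit false

universe u

open CategoryTheory CategoryTheory.Limits AlgebraicGeometry Opposite

namespace Groth.EtaleShriek.ProperMap

variable {X Y : Scheme.{u}} (f : X ⟶ Y) [IsProper f]

instance isProper_prV (V : Y.Etale) : IsProper (EtShriek.prV f V) :=
  inferInstanceAs (IsProper (pullback.fst V.hom f))

instance isIso_toPush (F : EtCoh.Ab X) : IsIso (EtShriek.lowerShriekToPush f F) := by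
  have : ∀ V, IsIso ((EtShriek.lowerShriekToPush f F).hom.app V) := fun ⟨V⟩ =>
    (ConcreteCategory.isIso_iff_bijective _).2 ⟨toPush_injective f F V, fun s =>
      (exists_toPush_eq_iff f F V s).2 (ProperOver.of_isProper _ (isClosed_sectSupp _ _ _))⟩
  have : IsIso ((sheafToPresheaf _ _).map (EtShriek.lowerShriekToPush f F)) :=
    NatIso.isIso_of_isIso_app (EtShriek.lowerShriekToPush f F).hom
  exact isIso_of_reflects_iso _ (sheafToPresheaf _ _)

/-- `f_! = f_*` for proper `f`. -/
noncomputable def iso : EtShriek.lowerShriek f ≅ EtCoh.push f :=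
  NatIso.ofComponents (fun F => asIso (EtShriek.lowerShriekToPush f F)) fun α => toPush_naturality f α

/-- Properness over the base is invariant under isomorphisms. -/
lemma iff_of_iso {A B S : Scheme.{u}} (m : A ⟶ B) [IsIso m] (q : B ⟶ S) [LocallyOfFiniteType q]
    (Z : Set B) : ClSub.IsProperOver (m ≫ q) (m.base ⁻¹' Z) ↔ ClSub.IsProperOver q Z := by
  refine ⟨fun hp => ?_, fun hp => ProperOver.preimage q (g := 𝟙 S) (g' := m) (f' := m ≫ q)
    (IsPullback.of_horiz_isIso ⟨(Category.comp_id _).symm⟩) hp⟩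
  have h2 := ProperOver.preimage (m ≫ q) (g := 𝟙 S) (g' := inv m) (f' := q)
    (IsPullback.of_horiz_isIso ⟨by simp⟩) hp
  rwa [← Set.preimage_comp, show (m.base ∘ (inv m).base) = id from funext fun x => by
    rw [Function.comp_apply, ← Scheme.Hom.comp_apply, IsIso.inv_hom_id]; rfl, Set.preimage_id] at h2

/-- Restriction along the inverse, then along the isomorphism. -/
lemma map_hom_map_inv {T : Scheme.{u}} (F : EtCoh.Ab T) {A B : T.Etale} (e : A ≅ B)
    (x : F.obj.obj (op A)) : F.obj.map e.hom.op (F.obj.map e.inv.op x) = x := by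
  rw [← Functor.map_comp_apply, ← op_comp, Iso.hom_inv_id, op_id, Functor.map_id_apply]

section compact

variable {U Xb : Scheme.{u}} (j : U ⟶ Xb) [IsOpenImmersion j] {S : Scheme.{u}} (pb : Xb ⟶ S)
  [IsProper pb]

set_option backward.isDefEq.respectTransparency.types false in
lemma ps_top_iff (F : EtCoh.Ab U) (s : EtCoh.sect F (EtCoh.top U)) :
    PS j F (EtCoh.top Xb) (F.obj.map (EtCore.bcTopIso j).hom.op s) ↔
      ClSub.IsProperOver (X := U) (j ≫ pb) (EtShriek.sectSupp F (EtCoh.top U) s) := by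
  let m : ((EtCoh.bc j).obj (EtCoh.top Xb)).left ⟶ U := (EtCore.bcTopIso j).hom.left
  have : IsIso m := ⟨(EtCore.bcTopIso j).inv.left,
    congrArg (fun k => k.left) (EtCore.bcTopIso j).hom_inv_id,
    congrArg (fun k => k.left) (EtCore.bcTopIso j).inv_hom_id⟩
  have hm : m ≫ 𝟙 U = pullback.snd (EtCoh.top Xb).hom j :=
    MorphismProperty.Over.w (EtCore.bcTopIso j).hom
  have e : EtShriek.prV j (EtCoh.top Xb) = m ≫ j := by
    refine (Category.comp_id _).symm.trans ?_
    refine Eq.trans ?_ (congrArg (· ≫ j) (hm.symm.trans (Category.comp_id _)))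
    exact pullback.condition
  rw [PS, sectSupp_map, e]
  have h1 := ProperOver.comp_iff (m ≫ j) pb
    (m.base ⁻¹' (EtShriek.sectSupp F (EtCoh.top U) s : Set U))
  rw [Category.assoc, iff_of_iso m (j ≫ pb)] at h1
  exact ⟨fun h => h1.2 ⟨h, ProperOver.of_isProper _ (ProperOver.isClosed_image _ h)⟩, fun h => (h1.1 h).1⟩

/-- `H⁰_c` through a compactification. -/
theorem nonempty_h0c {k : Type u} [Field k] (qb : Xb ⟶ Spec (CommRingCat.of k)) [IsProper qb]
    [EtShriek.JCont j] (F : EtCoh.Ab U) :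
    Nonempty ((EtShriek.H0c (j ≫ qb) F) ≃+ EtCoh.sect ((EtShriek.extZero j).obj F) (EtCoh.top Xb)) := by
  let G := (EtShriek.lowerShriek j).obj F
  let φ : G.obj.obj (op (EtCoh.top Xb)) ⟶ F.obj.obj (op (EtCoh.top U)) :=
    (EtShriek.lowerShriekToPush j F).hom.app (op (EtCoh.top Xb)) ≫ F.obj.map (EtCore.bcTopIso j).inv.op
  have hφ : Function.Injective φ :=
    (ConcreteCategory.bijective_of_isIso (F.obj.map (EtCore.bcTopIso j).inv.op)).1.comp
      (toPush_injective j F (EtCoh.top Xb))
  have key : ∀ s : EtCoh.sect F (EtCoh.top U),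
      (∃ a, φ a = s) ↔ ClSub.IsProperOver (X := U) (j ≫ qb) (EtShriek.sectSupp F (EtCoh.top U) s) := by
    intro s
    rw [← ps_top_iff j qb F s, ← exists_toPush_eq_iff]
    refine exists_congr fun a => ⟨fun h => ?_, fun h => ?_⟩
    · rw [← h]
      exact (map_hom_map_inv F (EtCore.bcTopIso j) _).symm
    · refine (congrArg (F.obj.map (EtCore.bcTopIso j).inv.op) h).trans ?_
      rw [← Functor.map_comp_apply, ← op_comp, Iso.inv_hom_id, op_id, Functor.map_id_apply]
  have hr : φ.hom.range = EtShriek.H0c (j ≫ qb) F := by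
    refine le_antisymm ?_ ((AddSubgroup.closure_le _).2 ?_)
    · rintro _ ⟨a, rfl⟩
      exact AddSubgroup.subset_closure ⟨_, subset_rfl, (key _).1 ⟨a, rfl⟩⟩
    · rintro s ⟨Z, hZ, hp⟩
      exact (key s).2 (ProperOver.mono (X := U) (j ≫ qb) hp (isClosed_sectSupp _ _ _) hZ)
  let e₁ : G.obj.obj (op (EtCoh.top Xb)) ≃+ φ.hom.range := AddMonoidHom.ofInjective hφ
  let e₂ := (((sheafToPresheaf _ _).mapIso ((ExtZeroIso.iso j).app F)).app
    (op (EtCoh.top Xb))).addCommGroupIsoToAddEquiv
  exact ⟨(AddEquiv.addSubgroupCongr hr.symm).trans (e₁.symm.trans e₂.symm)⟩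

end compact

end Groth.EtaleShriek.ProperMap
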