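import Groth.Agent.DescentBase.BaseChange0Sh
import Groth.Agent.DescentBase.UnivSubmDescent
import Mathlib.CategoryTheory.Sites.LeftExact
import Mathlib.CategoryTheory.Adhesive.Basic
import Mathlib.CategoryTheory.Adjunction.FullyFaithful

/-!
Pullback of global sections of étale sheaves of sets along base changes, and descent of sections
through monomorphisms.
-/

set_option autoImplicit false
set_option backward.isDefEq.respectTransparency.types false

universe u

open CategoryTheory CategoryTheory.Limits AlgebraicGeometry Opposite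

namespace Groth.EtaleShriek.SecPull

open Groth.EtaleBase (bcSq fiberPoint geomPoint geomPoint_apply)
open Groth.DescentBase
open Groth.DescentBase.UnivSubm (pt secPull_germ topPt)

variable {X Y Xb Yb : Scheme.{u}}

lemma map_eq_of_top {F : EtDesc.Sh X} {U : X.Etale} (a b : U ⟶ EtCoh.top X) (s : F.obj.obj (op (EtCoh.top X))) :
    F.obj.map a.op s = F.obj.map b.op s := by
  rw [(EtCore.topIsTerminal X).hom_ext a b]

lemma mono_app_injective {F G : EtDesc.Sh X} (u : F ⟶ G) [Mono u] (U : X.Etale) :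
    Function.Injective (u.hom.app (op U)) :=
  haveI : Mono u.hom := inferInstanceAs (Mono ((sheafToPresheaf _ _).map u))
  (mono_iff_injective _).1 (inferInstanceAs (Mono (u.hom.app (op U))))

lemma pullSh_map_mono (h : Y ⟶ X) {F G : EtDesc.Sh X} (u : F ⟶ G) [Mono u] :
    Mono ((EtDesc.pullSh h).map u) := by
  rw [mono_iff_stalks]
  intro Ω _ _ ξ a b hab
  let e := shStalkPullIso h ξ
  obtain ⟨a₀, rfl⟩ := ((isIso_iff_bijective (e.hom.app F)).1 inferInstance).2 a
  obtain ⟨b₀, rfl⟩ := ((isIso_iff_bijective (e.hom.app F)).1 inferInstance).2 b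
  refine congrArg _ ((mono_iff_stalks u).1 inferInstance Ω (ξ ≫ h) ?_)
  apply ((isIso_iff_bijective (e.hom.app G)).1 inferInstance).1
  have hn := fun x => congrArg (fun k => k x) (e.hom.naturality u)
  exact (hn a₀).trans (hab.trans (hn b₀).symm)

lemma secPull_naturality (h : Y ⟶ X) {F G : EtDesc.Sh X} (u : F ⟶ G)
    (s : EtDesc.sect F (EtCoh.top X)) :
    ((EtDesc.pullSh h).map u).hom.app (op (EtCoh.top Y)) (EtDesc.secPull h F s) =
      EtDesc.secPull h G (u.hom.app (op (EtCoh.top X)) s) := by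
  have h1 : u.hom.app (op (EtCoh.top X)) ≫ ((EtDesc.adjSh h).unit.app G).hom.app (op (EtCoh.top X)) =
      ((EtDesc.adjSh h).unit.app F).hom.app (op (EtCoh.top X)) ≫
        ((EtDesc.pullSh h).map u).hom.app (op ((EtCoh.bc h).obj (EtCoh.top X))) :=
    congrArg (fun k => k.hom.app (op (EtCoh.top X))) ((EtDesc.adjSh h).unit.naturality u)
  refine (NatTrans.naturality_apply ((EtDesc.pullSh h).map u).hom _ _).trans ?_
  exact congrArg _ (congrArg (fun k => k s) h1).symm

/-- A section of `F` on `Y` whose image in `G` comes from `X` comes from `X`, when pullback of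
sections is injective. -/
theorem mem_range_of_mono (h : Y ⟶ X)
    (hinj : ∀ F : EtDesc.Sh X, Function.Injective (EtDesc.secPull h F))
    {F G : EtDesc.Sh X} (u : F ⟶ G) [Mono u]
    (ξ : EtDesc.sect ((EtDesc.pullSh h).obj F) (EtCoh.top Y))
    (hξ : ((EtDesc.pullSh h).map u).hom.app (op (EtCoh.top Y)) ξ ∈ Set.range (EtDesc.secPull h G)) :
    ξ ∈ Set.range (EtDesc.secPull h F) := by
  haveI : HasPushout u u := Adhesive.hasPushout_of_mono_left u u
  obtain ⟨g, hg⟩ := hξ
  have hpo := IsPushout.of_hasPushout u u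
  have hpb := Adhesive.isPullback_of_isPushout_of_mono_left hpo
  have h12 : (pushout.inl u u).hom.app (op (EtCoh.top X)) g =
      (pushout.inr u u).hom.app (op (EtCoh.top X)) g := by
    apply hinj
    rw [← secPull_naturality, ← secPull_naturality, hg]
    have hc := congrArg (fun k => ((EtDesc.pullSh h).map k).hom.app (op (EtCoh.top Y))) hpo.w
    simp only [Functor.map_comp] at hc
    exact congrArg (fun k => k ξ) hc
  have hl := ((hpb.map (sheafToPresheaf _ _)).map
    ((evaluation X.Etaleᵒᵖ (Type (u + 1))).obj (op (EtCoh.top X))))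
  obtain ⟨s, hs, -⟩ := Types.exists_of_isPullback hl g g h12
  refine ⟨s, ?_⟩
  haveI := pullSh_map_mono h u
  apply mono_app_injective ((EtDesc.pullSh h).map u) (EtCoh.top Y)
  rw [secPull_naturality, ← hg]
  exact congrArg _ hs

variable (h : Y ⟶ X) (p : Xb ⟶ X) (hb : Yb ⟶ Xb) (pY : Yb ⟶ Y) (w : hb ≫ p = pY ≫ h)

/-- The base change map is compatible with pullback of global sections. -/
lemma baseChange0Sh_secPull (Fb : EtDesc.Sh Xb) (s : EtDesc.sect Fb (EtCoh.top Xb)) :
    (EtBC.baseChange0Sh p h pY hb w Fb).hom.app (op (EtCoh.top Y))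
        (EtDesc.secPull h ((EtDesc.pushSh p).obj Fb) (Fb.obj.map (EtCore.bcTopIso p).hom.op s)) =
      ((EtDesc.pullSh hb).obj Fb).obj.map (EtCore.bcTopIso pY).hom.op (EtDesc.secPull hb Fb s) := by
  refine (NatTrans.naturality_apply (EtBC.baseChange0Sh p h pY hb w Fb).hom
    (EtCore.bcTopIso h).inv.op _).trans ?_
  refine (congrArg _ (baseChange0_unit p h pY hb w Fb (EtCoh.top X) _)).trans ?_
  let K := ((EtDesc.pullSh hb).obj Fb).obj
  let σ := ((EtDesc.adjSh hb).unit.app Fb).hom.app (op (EtCoh.top Xb)) s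
  have e1 : ((EtDesc.adjSh hb).unit.app Fb).hom.app (op ((EtCoh.bc p).obj (EtCoh.top X)))
      (Fb.obj.map (EtCore.bcTopIso p).hom.op s) =
      K.map ((EtCoh.bc hb).map (EtCore.bcTopIso p).hom).op σ :=
    NatTrans.naturality_apply ((EtDesc.adjSh hb).unit.app Fb).hom (EtCore.bcTopIso p).hom.op s
  have e2 : σ = K.map (EtCore.bcTopIso hb).hom.op (EtDesc.secPull hb Fb s) := by
    show σ = K.map (EtCore.bcTopIso hb).hom.op (K.map (EtCore.bcTopIso hb).inv.op σ)
    rw [← Functor.map_comp_apply, ← op_comp, Iso.hom_inv_id, op_id, FunctorToTypes.map_id_apply]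
  rw [e1, e2]
  show K.map ((EtCoh.bc pY).map (EtCore.bcTopIso h).inv).op (K.map _ (K.map _ (K.map _ _))) = _
  rw [← Functor.map_comp_apply, ← Functor.map_comp_apply, ← Functor.map_comp_apply,
    ← op_comp, ← op_comp, ← op_comp]
  exact map_eq_of_top _ _ _

lemma map_top_bijective {F : EtDesc.Sh X} {U : X.Etale} (e : U ≅ EtCoh.top X) :
    Function.Bijective (F.obj.map e.hom.op) :=
  (isIso_iff_bijective _).1 inferInstance

/-- Injectivity of pullback of sections passes to base changes with injective base change map. -/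
theorem injective_baseChange (hinj : ∀ F : EtDesc.Sh X, Function.Injective (EtDesc.secPull h F))
    (Fb : EtDesc.Sh Xb) [Mono (EtBC.baseChange0Sh p h pY hb w Fb)] :
    Function.Injective (EtDesc.secPull hb Fb) := by
  intro s t hst
  apply (map_top_bijective (F := Fb) (EtCore.bcTopIso p)).1
  apply hinj ((EtDesc.pushSh p).obj Fb)
  apply mono_app_injective (EtBC.baseChange0Sh p h pY hb w Fb) (EtCoh.top Y)
  rw [baseChange0Sh_secPull, baseChange0Sh_secPull, hst]

/-- Surjectivity of pullback of sections passes to base changes with bijective base change map. -/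
theorem surjective_baseChange (hsur : ∀ F : EtDesc.Sh X, Function.Surjective (EtDesc.secPull h F))
    (Fb : EtDesc.Sh Xb) [IsIso (EtBC.baseChange0Sh p h pY hb w Fb)] :
    Function.Surjective (EtDesc.secPull hb Fb) := by
  intro η
  have hbij : Function.Bijective ((EtBC.baseChange0Sh p h pY hb w Fb).hom.app (op (EtCoh.top Y))) :=
    haveI : IsIso (EtBC.baseChange0Sh p h pY hb w Fb).hom :=
      inferInstanceAs (IsIso ((sheafToPresheaf _ _).map (EtBC.baseChange0Sh p h pY hb w Fb)))
    (isIso_iff_bijective _).1 (inferInstanceAs (IsIso (_ : _ ⟶ _)))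
  obtain ⟨a, ha⟩ := hbij.2 (((EtDesc.pullSh hb).obj Fb).obj.map (EtCore.bcTopIso pY).hom.op η)
  obtain ⟨σ, rfl⟩ := hsur _ a
  obtain ⟨s, rfl⟩ := (map_top_bijective (F := Fb) (EtCore.bcTopIso p)).2 σ
  refine ⟨s, (map_top_bijective (F := (EtDesc.pullSh hb).obj Fb) (EtCore.bcTopIso pY)).1 ?_⟩
  rw [← baseChange0Sh_secPull h p hb pY w, ha]

include w in
/-- Injectivity of pullback of sections descends along surjective morphisms. -/
theorem injective_of_surjective (hp : Function.Surjective p.base)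
    (hinj : ∀ Fb : EtDesc.Sh Xb, Function.Injective (EtDesc.secPull hb Fb)) (F : EtDesc.Sh X) :
    Function.Injective (EtDesc.secPull h F) := by
  intro s t hst
  have hp' : EtDesc.secPull p F s = EtDesc.secPull p F t := by
    apply hinj
    refine shSection_ext _ _ _ _ fun (y : Yb) => ?_
    let ξ : Spec (CommRingCat.of (SeparableClosure (Yb.residueField y))) ⟶ Yb := geomPoint y
    have key : shGerm ((ξ ≫ hb) ≫ p) F (EtCoh.top X) (topPt _) s =
        shGerm ((ξ ≫ hb) ≫ p) F (EtCoh.top X) (topPt _) t := by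
      have e : (ξ ≫ pY) ≫ h = (ξ ≫ hb) ≫ p := by
        rw [Category.assoc, Category.assoc, w]
      have h1 := secPull_germ h F (ξ ≫ pY) e (topPt _) (topPt _) s
      have h2 := secPull_germ h F (ξ ≫ pY) e (topPt _) (topPt _) t
      rw [hst] at h1
      exact ((isIso_iff_bijective (pt h F (ξ ≫ pY) e).hom).1 inferInstance).1 (h1.symm.trans h2)
    have hy : fiberPoint ξ (topPt ξ) = y := geomPoint_apply y _
    rw [← hy, ← shGerm_eq_iff_mem,
      secPull_germ hb _ ξ rfl (topPt (ξ ≫ hb)), secPull_germ hb _ ξ rfl (topPt (ξ ≫ hb)),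
      secPull_germ p F (ξ ≫ hb) rfl (topPt ((ξ ≫ hb) ≫ p)) (topPt (ξ ≫ hb)),
      secPull_germ p F (ξ ≫ hb) rfl (topPt ((ξ ≫ hb) ≫ p)) (topPt (ξ ≫ hb)), key]
  refine shSection_ext _ _ _ _ fun x => ?_
  obtain ⟨xb, hxb⟩ := hp x
  let ξ : Spec (CommRingCat.of (SeparableClosure (Xb.residueField xb))) ⟶ Xb := geomPoint xb
  have hx : fiberPoint (ξ ≫ p) (topPt (ξ ≫ p)) = x := by
    refine Eq.trans ?_ hxb
    exact (Scheme.Hom.comp_apply ξ p _).trans (congrArg _ (geomPoint_apply xb _))
  rw [← hx, ← shGerm_eq_iff_mem]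
  apply ((isIso_iff_bijective (pt p F ξ rfl).hom).1 inferInstance).1
  rw [← secPull_germ p F ξ rfl _ (topPt ξ), ← secPull_germ p F ξ rfl _ (topPt ξ), hp']

include w in
/-- Bijectivity of pullback of sections descends along surjective morphisms with injective base
change maps. -/
theorem bijective_of_surjective (hp : Function.Surjective p.base)
    (hbij : ∀ Fb : EtDesc.Sh Xb, Function.Bijective (EtDesc.secPull hb Fb))
    (hmono : ∀ Fb : EtDesc.Sh Xb, Mono (EtBC.baseChange0Sh p h pY hb w Fb)) (F : EtDesc.Sh X) :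
    Function.Bijective (EtDesc.secPull h F) := by
  have hinj := injective_of_surjective h p hb pY w hp fun Fb => (hbij Fb).1
  refine ⟨hinj F, fun ξ => ?_⟩
  haveI : Surjective p := ⟨hp⟩
  haveI := (pullSh_faithful_reflects p).1
  haveI : Mono ((EtDesc.adjSh p).unit.app F) := inferInstance
  refine mem_range_of_mono h hinj ((EtDesc.adjSh p).unit.app F) ξ ?_
  let Fb := (EtDesc.pullSh p).obj F
  let a := ((EtDesc.pullSh h).map ((EtDesc.adjSh p).unit.app F)).hom.app (op (EtCoh.top Y)) ξ
  obtain ⟨η, hη⟩ := (map_top_bijective (F := (EtDesc.pullSh hb).obj Fb) (EtCore.bcTopIso pY)).2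
    ((EtBC.baseChange0Sh p h pY hb w Fb).hom.app (op (EtCoh.top Y)) a)
  obtain ⟨s, hs⟩ := (hbij Fb).2 η
  refine ⟨Fb.obj.map (EtCore.bcTopIso p).hom.op s, ?_⟩
  haveI := hmono Fb
  apply mono_app_injective (EtBC.baseChange0Sh p h pY hb w Fb) (EtCoh.top Y)
  refine (baseChange0Sh_secPull h p hb pY w Fb s).trans ?_
  rw [hs]
  exact hη

end Groth.EtaleShriek.SecPull
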