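import Groth.Agent.EtaleShriek.Supp

/-!
The presheaf of sections with proper support is a sheaf; membership in `f_!`.
-/

set_option autoImplicit false

universe u

open CategoryTheory CategoryTheory.Limits AlgebraicGeometry Opposite

namespace Groth.EtaleShriek

variable {X Y : Scheme.{u}} (f : X ⟶ Y) [LocallyOfFiniteType f] (F : EtCoh.Ab X)

/-- Proper support is local for the étale topology on the base. -/
theorem ps_of_cover (V : Y.Etale) (s : EtCoh.sect F ((EtCoh.bc f).obj V)) (R : Sieve V)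
    (hR : R ∈ Y.smallEtaleTopology V)
    (h : ∀ (W : Y.Etale) (g : W ⟶ V), R g → PS f F W (F.obj.map ((EtCoh.bc f).map g).op s)) :
    PS f F V s := by
  refine ProperOver.of_etale_cover _ (isClosed_sectSupp _ _ _) fun v => ?_
  obtain ⟨W, g, w, hg, hw⟩ := (Groth.EtaleBase.mem_topology_iff R).1 hR v
  refine ⟨W.left, _, g.left, ((EtCoh.bc f).map g).left, EtShriek.prV f W, isPullback_prV f g,
    inferInstance, ⟨w, hw⟩, ?_⟩
  have hW := h W g hg
  rwa [PS, sectSupp_map] at hW

set_option backward.isDefEq.respectTransparency.types false in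
theorem isSheaf_lowerShriekPre : Presheaf.IsSheaf Y.smallEtaleTopology (EtShriek.lowerShriekPre f F) := by
  rw [Presheaf.isSheaf_iff_isSheaf_forget _ _ (forget AddCommGrpCat.{u + 1}), isSheaf_iff_isSheaf_of_type]
  intro V R hR x hx
  have hG : Presieve.IsSheaf Y.smallEtaleTopology (((EtCoh.push f).obj F).obj ⋙ forget AddCommGrpCat.{u + 1}) :=
    (isSheaf_iff_isSheaf_of_type _ _).1
      ((Presheaf.isSheaf_iff_isSheaf_forget _ _ (forget AddCommGrpCat.{u + 1})).1 ((EtCoh.push f).obj F).property)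
  let y : Presieve.FamilyOfElements (((EtCoh.push f).obj F).obj ⋙ forget AddCommGrpCat.{u + 1}) R.arrows :=
    fun W g hg => (x g hg).1
  have hy : y.Compatible := fun W₁ W₂ Z g₁ g₂ k₁ k₂ h₁ h₂ hcomm =>
    congrArg Subtype.val (hx g₁ g₂ h₁ h₂ hcomm)
  obtain ⟨s, hs, huniq⟩ := hG R hR y hy
  have hps : s ∈ EtShriek.shriekSubgroup f F V := by
    refine (mem_shriekSubgroup f F V s).2 (ps_of_cover f F V s R hR fun W g hg => ?_)
    have h := (mem_shriekSubgroup f F W _).1 (x g hg).2
    exact (hs g hg).symm ▸ h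
  refine ⟨⟨s, hps⟩, fun W g hg => Subtype.ext (hs g hg), fun t ht => Subtype.ext ?_⟩
  exact huniq t.1 fun W g hg => congrArg Subtype.val (ht g hg)

end Groth.EtaleShriek
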