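import Groth.Agent.EtaleShriek.LqfStalk
import Groth.Agent.EtaleShriek.ProperMap
import Groth.Agent.EtaleShriek.BCForget

/-!
The base change morphism `g^* f_! ⟶ f'_! g'^*` and its values at geometric points.
-/

set_option autoImplicit false
set_option backward.isDefEq.respectTransparency.types false

universe u

open CategoryTheory CategoryTheory.Limits AlgebraicGeometry Opposite

namespace Groth.EtaleShriek.ShriekBC

open Groth.EtaleBase (germ germ_map germ_surjective fiberPoint pushLift bcSq stalkPullIso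
  stalkPullIso_germ baseChange0_unit value_baseChange0 stalk_baseChange0_germ)
open Groth.EtaleShriek.LqfStalk (Pts ev ev_germ evSh evSh_germ eq_zero_of_evSh ext_evSh)

section unitSupp

variable {X X' : Scheme.{u}} (g' : X' ⟶ X) (F : EtCoh.Ab X)

/-- The support of the pullback of a section lies over the support of the section. -/
lemma sectSupp_unit_subset (U : X.Etale) (σ : EtCoh.sect F U) :
    EtShriek.sectSupp ((EtCoh.pull g').obj F) ((EtCoh.bc g').obj U)
        (((EtCoh.pullPushAdj g').unit.app F).hom.app (op U) σ) ⊆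
      (pullback.fst U.hom g').base ⁻¹' EtShriek.sectSupp F U σ := by
  intro x hx W k hw hz
  obtain ⟨w, hw⟩ := hw
  obtain ⟨z, hz1, -⟩ := Scheme.Pullback.exists_preimage_pullback
    (f := (pullback.fst U.hom g' : ((EtCoh.bc g').obj U).left ⟶ U.left)) (g := k.left) x w hw.symm
  refine hx ((EtCoh.bc g').obj W) ((EtCoh.bc g').map k)
    ⟨(EtCoh.isPullback_bc_map g' k).isoPullback.inv.base z, ?_⟩ ?_
  · rw [← hz1, ← Scheme.Hom.comp_apply, (EtCoh.isPullback_bc_map g' k).isoPullback_inv_fst]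
    rfl
  · refine (NatTrans.naturality_apply ((EtCoh.pullPushAdj g').unit.app F).hom k.op σ).symm.trans ?_
    exact (congrArg (((EtCoh.pullPushAdj g').unit.app F).hom.app (op W)) hz).trans (map_zero _)

end unitSupp

variable {X S X' S' : Scheme.{u}} (f : X ⟶ S) (g : S' ⟶ S) (f' : X' ⟶ S') (g' : X' ⟶ X)
  (hsq : IsPullback g' f' f g)

/-- The map `bc f' (bc g V) ⟶ bc f V`. -/
noncomputable def sqMap (V : S.Etale) :
    ((EtCoh.bc f').obj ((EtCoh.bc g).obj V)).left ⟶ ((EtCoh.bc f).obj V).left :=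
  (bcSq f g f' g' hsq.w V).left ≫ pullback.fst (pullback.snd V.hom f) g'

lemma sqMap_fst (V : S.Etale) :
    sqMap f g f' g' hsq V ≫ EtShriek.prV f V =
      EtShriek.prV f' ((EtCoh.bc g).obj V) ≫ pullback.fst V.hom g :=
  (Category.assoc _ _ _).trans (Groth.EtaleBase.bcSq_fst f g f' g' hsq.w V)

lemma sqMap_snd (V : S.Etale) :
    sqMap f g f' g' hsq V ≫ ((EtCoh.bc f).obj V).hom =
      ((EtCoh.bc f').obj ((EtCoh.bc g).obj V)).hom ≫ g' :=
  (Category.assoc _ _ _).trans ((congrArg ((bcSq f g f' g' hsq.w V).left ≫ ·) pullback.condition).trans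
    ((Category.assoc _ _ _).symm.trans (congrArg (· ≫ g')
      (MorphismProperty.Over.w (bcSq f g f' g' hsq.w V)))))

include hsq in
lemma isPullback_sqMap (V : S.Etale) :
    IsPullback (sqMap f g f' g' hsq V) (EtShriek.prV f' ((EtCoh.bc g).obj V)) (EtShriek.prV f V)
      (pullback.fst V.hom g) := by
  refine IsPullback.of_right ?_ (sqMap_fst f g f' g' hsq V) (IsPullback.of_hasPullback V.hom f).flip
  have h1 := (IsPullback.of_hasPullback (pullback.snd V.hom g) f').flip.paste_horiz hsq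
  refine IsPullback.of_iso h1 (Iso.refl _) (Iso.refl _) (Iso.refl _) (Iso.refl _) ?_ ?_ ?_ ?_
  · exact (Category.comp_id _).trans ((sqMap_snd f g f' g' hsq V).symm.trans (Category.id_comp _).symm)
  · exact (Category.comp_id _).trans (Category.id_comp _).symm
  · exact (Category.comp_id _).trans (Category.id_comp _).symm
  · exact (Category.comp_id _).trans (pullback.condition.symm.trans (Category.id_comp _).symm)

variable [LocallyOfFiniteType f] [LocallyOfFiniteType f'] (F : EtCoh.Ab X)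

/-- `f_! F ⟶ g_* f'_* g'^* F`. -/
noncomputable def toPushPush :
    (EtShriek.lowerShriek f).obj F ⟶ (EtCoh.push g).obj ((EtCoh.push f').obj ((EtCoh.pull g').obj F)) :=
  EtShriek.lowerShriekToPush f F ≫ (EtCoh.pullPushAdj g).unit.app ((EtCoh.push f).obj F) ≫
    (EtCoh.push g).map (EtCoh.baseChange0 f g f' g' hsq.w F)

omit [LocallyOfFiniteType f] [LocallyOfFiniteType f'] in
lemma toPushPush_app (V : S.Etale) (a : ((EtShriek.lowerShriek f).obj F).obj.obj (op V)) :
    (toPushPush f g f' g' hsq F).hom.app (op V) a =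
      ((EtCoh.pull g').obj F).obj.map (bcSq f g f' g' hsq.w V).op
        (((EtCoh.pullPushAdj g').unit.app F).hom.app (op ((EtCoh.bc f).obj V))
          ((EtShriek.lowerShriekToPush f F).hom.app (op V) a)) :=
  baseChange0_unit f g f' g' hsq.w F V _

lemma mem_toPushPush (V : S.Etale) (a : ((EtShriek.lowerShriek f).obj F).obj.obj (op V)) :
    (toPushPush f g f' g' hsq F).hom.app (op V) a ∈
      EtShriek.shriekSubgroup f' ((EtCoh.pull g').obj F) ((EtCoh.bc g).obj V) := by
  rw [toPushPush_app]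
  refine (mem_shriekSubgroup f' _ _ _).2 ?_
  refine ProperOver.mono _ (ProperOver.preimage _ (isPullback_sqMap f g f' g' hsq V) (ps_toPush f F V a))
    (isClosed_sectSupp _ _ _) ?_
  rw [sectSupp_map]
  intro x hx
  have h := sectSupp_unit_subset g' F _ _ hx
  exact Set.mem_preimage.2 (Set.mem_of_eq_of_mem (Scheme.Hom.comp_apply (bcSq f g f' g' hsq.w V).left
    (pullback.fst (pullback.snd V.hom f) g') x) h)

/-- `f_! F ⟶ g_* f'_! g'^* F`. -/
noncomputable def toPushShriek :
    (EtShriek.lowerShriek f).obj F ⟶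
      (EtCoh.push g).obj ((EtShriek.lowerShriek f').obj ((EtCoh.pull g').obj F)) :=
  ⟨{ app := fun V => AddCommGrpCat.ofHom (((toPushPush f g f' g' hsq F).hom.app V).hom.codRestrict
        (EtShriek.shriekSubgroup f' ((EtCoh.pull g').obj F) ((EtCoh.bc g).obj V.unop))
        (mem_toPushPush f g f' g' hsq F V.unop)) ≫
      (toShriek f' ((EtCoh.pull g').obj F)).app (op ((EtCoh.bc g).obj V.unop))
     naturality := fun V W a => by
       ext x
       refine toPush_injective f' _ ((EtCoh.bc g).obj W.unop) ?_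
       refine (toPush_toShriek_apply f' _ _ _).trans ?_
       refine (NatTrans.naturality_apply (toPushPush f g f' g' hsq F).hom a x).trans ?_
       refine Eq.trans ?_ (NatTrans.naturality_apply (EtShriek.lowerShriekToPush f' _).hom
         ((EtCoh.bc g).map a.unop).op _).symm
       exact congrArg _ (toPush_toShriek_apply f' _ _ ⟨_, mem_toPushPush f g f' g' hsq F V.unop x⟩).symm }⟩

lemma toPushShriek_toPush :
    toPushShriek f g f' g' hsq F ≫ (EtCoh.push g).map (EtShriek.lowerShriekToPush f' _) =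
      toPushPush f g f' g' hsq F := by
  refine ObjectProperty.hom_ext _ ?_
  ext V x
  exact toPush_toShriek_apply f' _ _ ⟨_, mem_toPushPush f g f' g' hsq F V.unop x⟩

/-- The base change morphism `g^* f_! F ⟶ f'_! g'^* F`. -/
noncomputable def bcHom :
    (EtCoh.pull g).obj ((EtShriek.lowerShriek f).obj F) ⟶
      (EtShriek.lowerShriek f').obj ((EtCoh.pull g').obj F) :=
  ((EtCoh.pullPushAdj g).homEquiv _ _).symm (toPushShriek f g f' g' hsq F)

lemma bcHom_toPush :
    bcHom f g f' g' hsq F ≫ EtShriek.lowerShriekToPush f' _ =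
      (EtCoh.pull g).map (EtShriek.lowerShriekToPush f F) ≫ EtCoh.baseChange0 f g f' g' hsq.w F := by
  apply ((EtCoh.pullPushAdj g).homEquiv _ _).injective
  rw [Adjunction.homEquiv_naturality_right, Adjunction.homEquiv_naturality_left, bcHom,
    Equiv.apply_symm_apply, toPushShriek_toPush, Adjunction.homEquiv_unit]
  rfl

section stalk

variable {Ω : Type u} [Field Ω] [IsAlgClosed Ω] (η' : Spec (CommRingCat.of Ω) ⟶ S')

include hsq in
omit [LocallyOfFiniteType f] [LocallyOfFiniteType f'] [Field Ω] [IsAlgClosed Ω] in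
lemma over_point {T : Scheme.{u}} (ζ : T ⟶ X') (η₀ : T ⟶ S') (h' : ζ ≫ f' = η₀) :
    (ζ ≫ g') ≫ f = η₀ ≫ g := by
  rw [Category.assoc, hsq.w, reassoc_of% h']

/-- Values of the base change morphism. -/
lemma evSh_bcHom (ξ' : Spec (CommRingCat.of Ω) ⟶ X') (h' : ξ' ≫ f' = η')
    (h : (ξ' ≫ g') ≫ f = η' ≫ g)
    (a : (EtCoh.stalk (η' ≫ g)).obj ((EtShriek.lowerShriek f).obj F)) :
    evSh f' η' _ ⟨ξ', h'⟩
        ((EtCoh.stalk η').map (bcHom f g f' g' hsq F) ((stalkPullIso g η').hom.app _ a)) =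
      (stalkPullIso g' ξ').hom.app F (evSh f (η' ≫ g) F ⟨ξ' ≫ g', h⟩ a) := by
  obtain ⟨V, s, c, rfl⟩ := germ_surjective _ _ a
  rw [evSh_germ]
  rw [evSh, ConcreteCategory.comp_apply, ← ConcreteCategory.comp_apply ((EtCoh.stalk η').map (bcHom f g f' g' hsq F)),
    ← Functor.map_comp, bcHom_toPush, Functor.map_comp, ConcreteCategory.comp_apply]
  have e : (EtCoh.stalk η').map ((EtCoh.pull g).map (EtShriek.lowerShriekToPush f F))
      ((stalkPullIso g η').hom.app _ (germ (η' ≫ g) ((EtShriek.lowerShriek f).obj F) V s c)) =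
      (stalkPullIso g η').hom.app ((EtCoh.push f).obj F)
        (germ (η' ≫ g) ((EtCoh.push f).obj F) V s ((EtShriek.lowerShriekToPush f F).hom.app (op V) c)) := by
    rw [← germ_map]
    exact (NatTrans.naturality_apply (stalkPullIso g η').hom (EtShriek.lowerShriekToPush f F) _).symm
  rw [e, stalk_baseChange0_germ f g f' g' hsq, ev_germ]
  exact value_baseChange0 f g f' g' hsq F η' V s _ ξ' h' h

/-- Every element of the stalk of `f'_! g'^* F` has the values of an element of that of `f_! F`. -/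
def Lift : Prop :=
  ∀ b : (EtCoh.stalk η').obj ((EtShriek.lowerShriek f').obj ((EtCoh.pull g').obj F)),
    ∃ a : (EtCoh.stalk (η' ≫ g)).obj ((EtShriek.lowerShriek f).obj F),
      ∀ (ξ' : Spec (CommRingCat.of Ω) ⟶ X') (h' : ξ' ≫ f' = η') (h : (ξ' ≫ g') ≫ f = η' ≫ g),
        evSh f' η' _ ⟨ξ', h'⟩ b = (stalkPullIso g' ξ').hom.app F (evSh f (η' ≫ g) F ⟨ξ' ≫ g', h⟩ a)

include hsq in
omit [LocallyOfFiniteType f'] in
lemma eq_zero_of_values (a : (EtCoh.stalk (η' ≫ g)).obj ((EtShriek.lowerShriek f).obj F))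
    (h0 : ∀ (ξ' : Spec (CommRingCat.of Ω) ⟶ X') (_ : ξ' ≫ f' = η') (h : (ξ' ≫ g') ≫ f = η' ≫ g),
      (stalkPullIso g' ξ').hom.app F (evSh f (η' ≫ g) F ⟨ξ' ≫ g', h⟩ a) = 0) : a = 0 := by
  refine eq_zero_of_evSh f (η' ≫ g) F a fun ⟨ξ, hξ⟩ => ?_
  obtain ⟨ξ', h1, h2⟩ : ∃ ξ', ξ' ≫ g' = ξ ∧ ξ' ≫ f' = η' :=
    ⟨hsq.lift ξ η' hξ, hsq.lift_fst _ _ _, hsq.lift_snd _ _ _⟩
  subst h1
  exact ((ConcreteCategory.isIso_iff_bijective ((stalkPullIso g' ξ').hom.app F)).1 inferInstance).1
    ((h0 ξ' h2 hξ).trans (map_zero _).symm)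

lemma injective_stalk : Function.Injective ((EtCoh.stalk η').map (bcHom f g f' g' hsq F)) := by
  rw [injective_iff_map_eq_zero]
  intro x hx
  obtain ⟨a, rfl⟩ := ((ConcreteCategory.isIso_iff_bijective ((stalkPullIso g η').hom.app
    ((EtShriek.lowerShriek f).obj F))).1 inferInstance).2 x
  rw [eq_zero_of_values f g f' g' hsq F η' a fun ξ' h' h => ?_, map_zero]
  rw [← evSh_bcHom f g f' g' hsq F η' ξ' h' h a, hx, map_zero]

lemma bijective_stalk (hl : Lift f g f' g' F η') :
    Function.Bijective ((EtCoh.stalk η').map (bcHom f g f' g' hsq F)) := by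
  refine ⟨injective_stalk f g f' g' hsq F η', fun b => ?_⟩
  obtain ⟨a, ha⟩ := hl b
  refine ⟨(stalkPullIso g η').hom.app _ a, ext_evSh f' η' _ _ _ fun ⟨ξ', h'⟩ => ?_⟩
  have h := over_point f g f' g' hsq ξ' η' h'
  rw [evSh_bcHom f g f' g' hsq F η' ξ' h' h a, ha ξ' h' h]

end stalk

lemma isIso_bcHom (hl : ∀ (Ω : Type u) [Field Ω] [IsAlgClosed Ω] (η' : Spec (CommRingCat.of Ω) ⟶ S'),
    Lift f g f' g' F η') : IsIso (bcHom f g f' g' hsq F) := by
  refine Groth.EtaleBase.isIso_of_exists_stalk _ fun y => ?_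
  let K := AlgebraicClosure (S'.residueField y)
  let η : Spec (CommRingCat.of K) ⟶ S' :=
    Spec.map (CommRingCat.ofHom (algebraMap (S'.residueField y) K)) ≫ S'.fromSpecResidueField y
  exact ⟨K, inferInstance, inferInstance, η, Scheme.fromSpecResidueField_apply y _,
    bijective_stalk f g f' g' hsq F η (hl K η)⟩

include hsq in
/-- Locally quasi-finite morphisms. -/
lemma lift_of_lqf [IsSeparated f] [LocallyQuasiFinite f] {Ω : Type u} [Field Ω] [IsAlgClosed Ω]
    (η' : Spec (CommRingCat.of Ω) ⟶ S') : Lift f g f' g' F η' := by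
  classical
  intro b
  have : LocallyQuasiFinite f' := MorphismProperty.of_isPullback hsq ‹_›
  have hfin := LqfStalk.finite_values f' η' ((EtCoh.pull g').obj F) b
  let q : Pts f' η' → Pts f (η' ≫ g) := fun u => ⟨u.1 ≫ g', over_point f g f' g' hsq u.1 η' u.2⟩
  have hq : Function.Injective q := fun u v e =>
    Subtype.ext (hsq.hom_ext (congrArg Subtype.val e) (u.2.trans v.2.symm))
  let val : ∀ u : Pts f' η', (EtCoh.stalk (q u).1).obj F := fun u =>
    (stalkPullIso g' u.1).inv.app F (evSh f' η' _ u b)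
  refine ⟨∑ u ∈ hfin.toFinset, LqfStalk.incFun f (η' ≫ g) F (q u) (val u), fun ξ' h' h => ?_⟩
  change _ = (stalkPullIso g' ξ').hom.app F (evSh f (η' ≫ g) F (q ⟨ξ', h'⟩) _)
  rw [map_sum]
  have hv : ∀ u : Pts f' η', (stalkPullIso g' u.1).hom.app F (val u) = evSh f' η' _ u b := fun u =>
    ConcreteCategory.congr_hom ((stalkPullIso g' u.1).inv_hom_id_app F) _
  rw [Finset.sum_eq_single (⟨ξ', h'⟩ : Pts f' η')]
  · rw [LqfStalk.evSh_incFun_self]
    exact (hv ⟨ξ', h'⟩).symm
  · exact fun u _ hu => LqfStalk.evSh_incFun_ne f (η' ≫ g) F (hq.ne (Ne.symm hu)) _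
  · intro hu
    refine (LqfStalk.evSh_incFun_self f (η' ≫ g) F _ _).trans ?_
    exact (congrArg ((stalkPullIso g' ξ').inv.app F) (not_not.1 (fun hne => hu (hfin.mem_toFinset.2 hne)))).trans
      (map_zero _)

include hsq in
omit [LocallyOfFiniteType f] [LocallyOfFiniteType f'] in
/-- Proper morphisms. -/
lemma lift_of_proper [IsProper f] {Ω : Type u} [Field Ω] [IsAlgClosed Ω]
    (η' : Spec (CommRingCat.of Ω) ⟶ S') : Lift f g f' g' F η' := by
  intro b
  obtain ⟨V', t', c', rfl⟩ := germ_surjective η' _ b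
  obtain ⟨V, t, σ, hσ⟩ := BCForget.exists_values_lift f g f' g' hsq F η' V' t'
    ((EtShriek.lowerShriekToPush f' _).hom.app (op V') c')
  obtain ⟨c, hc⟩ := (exists_toPush_eq_iff f F V σ).2 (ProperOver.of_isProper _ (isClosed_sectSupp _ _ _))
  refine ⟨germ (η' ≫ g) _ V t c, fun ξ' h' h => ?_⟩
  rw [evSh_germ, evSh_germ, hc]
  exact (hσ ξ' h' h).symm

end Groth.EtaleShriek.ShriekBC
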