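import Groth.Agent.EtaleShriek.ShriekBC

/-!
The base change property of `f_!` under composition.
-/

set_option autoImplicit false
set_option backward.isDefEq.respectTransparency.types false

universe u

open CategoryTheory CategoryTheory.Limits AlgebraicGeometry Opposite

namespace Groth.EtaleShriek.ShriekBCComp

open Groth.EtaleBase (germ germ_map germ_surjective pushLift stalkPullIso)
open Groth.EtaleShriek.LqfStalk (Pts evSh evSh_germ evSh_naturality ext_evSh)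
open Groth.EtaleShriek.ShriekBC (Lift bcHom evSh_bcHom isIso_bcHom lift_of_lqf lift_of_proper)

variable {X Y Z : Scheme.{u}}

section comp

variable (h : X ⟶ Y) (k : Y ⟶ Z) [LocallyOfFiniteType h] [LocallyOfFiniteType k] [IsSeparated k]

lemma evSh_compHom {Ω : Type u} [Field Ω] [IsAlgClosed Ω] (η : Spec (CommRingCat.of Ω) ⟶ Z)
    (F : EtCoh.Ab X) (ξ : Spec (CommRingCat.of Ω) ⟶ X) (π : Spec (CommRingCat.of Ω) ⟶ Y)
    (hξ : ξ ≫ h = π) (hπ : π ≫ k = η) (hξη : ξ ≫ h ≫ k = η)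
    (c : (EtCoh.stalk η).obj ((EtShriek.lowerShriek k).obj ((EtShriek.lowerShriek h).obj F))) :
    evSh (h ≫ k) η F ⟨ξ, hξη⟩ ((EtCoh.stalk η).map (compHom h k F) c) =
      evSh h π F ⟨ξ, hξ⟩ (evSh k η _ ⟨π, hπ⟩ c) := by
  subst hξ
  obtain ⟨W, t, a, rfl⟩ := germ_surjective η _ c
  rw [germ_map, evSh_germ, evSh_germ, evSh_germ]
  have e : (EtShriek.lowerShriekToPush (h ≫ k) F).hom.app (op W) ((compHom h k F).hom.app (op W) a) =
      (compToPush h k F).hom.app (op W) a :=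
    ConcreteCategory.congr_hom (congrArg (fun m => m.hom.app (op W)) (compHom_toPush h k F)) a
  rw [e, compToPush_app]
  refine ((Scheme.pointSmallEtale ξ).toPresheafFiber_w_apply (bcComp h k W).hom _ F.obj _).trans ?_
  refine congrArg (fun p => germ ξ F ((EtCoh.bc h).obj ((EtCoh.bc k).obj W)) p
    ((EtShriek.lowerShriekToPush h F).hom.app (op ((EtCoh.bc k).obj W))
      ((EtShriek.lowerShriekToPush k ((EtShriek.lowerShriek h).obj F)).hom.app (op W) a))) ?_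
  refine Over.OverMorphism.ext ?_
  apply pullback.hom_ext
  · apply pullback.hom_ext
    · show (((pushLift (h ≫ k) ξ hξη W t).left ≫ (bcComp h k W).hom.left) ≫
          pullback.fst (pullback.snd W.hom k) h) ≫ pullback.fst W.hom k = _
      refine ((Category.assoc _ _ _).trans ((Category.assoc _ _ _).trans
        ((congrArg ((pushLift (h ≫ k) ξ hξη W t).left ≫ ·) (bcComp_prV h k W)).trans
          (pullback.lift_fst _ _ _)))).trans ?_
      exact ((congrArg (· ≫ pullback.fst W.hom k) (pullback.lift_fst _ _ _)).trans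
        (pullback.lift_fst _ _ _)).symm
    · refine Eq.trans ?_ ((congrArg (· ≫ pullback.snd W.hom k) (pullback.lift_fst _ _ _)).trans
        (pullback.lift_snd _ _ _)).symm
      show (((pushLift (h ≫ k) ξ hξη W t).left ≫ (bcComp h k W).hom.left) ≫
          pullback.fst (pullback.snd W.hom k) h) ≫ pullback.snd W.hom k = ξ ≫ h
      refine (Category.assoc _ _ _).trans ((congrArg (_ ≫ ·) pullback.condition).trans ?_)
      refine (Category.assoc _ _ _).symm.trans (congrArg (· ≫ h) ?_)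
      exact Over.w ((Scheme.pointSmallEtale ξ).fiber.map (bcComp h k W).hom (pushLift (h ≫ k) ξ hξη W t))
  · exact (Over.w ((Scheme.pointSmallEtale ξ).fiber.map (bcComp h k W).hom
      (pushLift (h ≫ k) ξ hξη W t))).trans (Over.w (pushLift h ξ rfl _ (pushLift k (ξ ≫ h) hπ W t))).symm

variable {X' Y' Z' : Scheme.{u}} (gX : X' ⟶ X) (gY : Y' ⟶ Y) (gZ : Z' ⟶ Z) (h' : X' ⟶ Y') (k' : Y' ⟶ Z')
  [LocallyOfFiniteType h'] [LocallyOfFiniteType k'] [IsSeparated k']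
  (sq₁ : IsPullback gX h' h gY) (F : EtCoh.Ab X) {Ω : Type u} [Field Ω] [IsAlgClosed Ω]
  (η' : Spec (CommRingCat.of Ω) ⟶ Z')

include sq₁ in
/-- Composition. -/
lemma lift_comp (hwk : gY ≫ k = k' ≫ gZ)
    (hh : ∀ (Ω' : Type u) [Field Ω'] [IsAlgClosed Ω'] (π : Spec (CommRingCat.of Ω') ⟶ Y'),
      Lift h gY h' gX F π)
    (hk : Lift k gZ k' gY ((EtShriek.lowerShriek h).obj F) η') :
    Lift (h ≫ k) gZ (h' ≫ k') gX F η' := by
  intro b
  let φ := bcHom h gY h' gX sq₁ F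
  have : IsIso φ := isIso_bcHom h gY h' gX sq₁ F hh
  obtain ⟨b₁, rfl⟩ := ((ConcreteCategory.isIso_iff_bijective
    ((EtCoh.stalk η').map (compHom h' k' ((EtCoh.pull gX).obj F)))).1 inferInstance).2 b
  obtain ⟨c, rfl⟩ := ((ConcreteCategory.isIso_iff_bijective
    ((EtCoh.stalk η').map ((EtShriek.lowerShriek k').map φ))).1 inferInstance).2 b₁
  obtain ⟨a, ha⟩ := hk c
  refine ⟨(EtCoh.stalk (η' ≫ gZ)).map (compHom h k F) a, fun ξ' hξ' hξ => ?_⟩
  have hπ' : (ξ' ≫ h') ≫ k' = η' := (Category.assoc _ _ _).trans hξ'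
  have hπ : ((ξ' ≫ h') ≫ gY) ≫ k = η' ≫ gZ := by rw [Category.assoc, hwk, ← Category.assoc, hπ']
  have hξh : (ξ' ≫ gX) ≫ h = (ξ' ≫ h') ≫ gY := by rw [Category.assoc, sq₁.w, Category.assoc]
  rw [evSh_compHom h' k' η' _ ξ' (ξ' ≫ h') rfl hπ' hξ' _,
    evSh_compHom h k (η' ≫ gZ) F (ξ' ≫ gX) ((ξ' ≫ h') ≫ gY) hξh hπ hξ a, evSh_naturality,
    ha (ξ' ≫ h') hπ' hπ]
  exact evSh_bcHom h gY h' gX sq₁ F (ξ' ≫ h') ξ' rfl hξh _

include sq₁ in
/-- Cancellation. -/
lemma lift_of_comp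
    (hh : ∀ (Ω' : Type u) [Field Ω'] [IsAlgClosed Ω'] (π : Spec (CommRingCat.of Ω') ⟶ Y'),
      Lift h gY h' gX F π)
    (hc : Lift (h ≫ k) gZ (h' ≫ k') gX F η') :
    Lift k gZ k' gY ((EtShriek.lowerShriek h).obj F) η' := by
  intro b₀
  let φ := bcHom h gY h' gX sq₁ F
  have : IsIso φ := isIso_bcHom h gY h' gX sq₁ F hh
  obtain ⟨a, ha⟩ := hc ((EtCoh.stalk η').map (compHom h' k' ((EtCoh.pull gX).obj F))
    ((EtCoh.stalk η').map ((EtShriek.lowerShriek k').map φ) b₀))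
  obtain ⟨a₁, rfl⟩ := ((ConcreteCategory.isIso_iff_bijective
    ((EtCoh.stalk (η' ≫ gZ)).map (compHom h k F))).1 inferInstance).2 a
  refine ⟨a₁, fun π' hπ' hπ => ?_⟩
  refine ((ConcreteCategory.isIso_iff_bijective ((EtCoh.stalk π').map φ)).1 inferInstance).1
    (ext_evSh h' π' _ _ _ fun ⟨ξ', hξ'⟩ => ?_)
  subst hξ'
  have hc' : ξ' ≫ h' ≫ k' = η' := (Category.assoc _ _ _).symm.trans hπ'
  have hξh : (ξ' ≫ gX) ≫ h = (ξ' ≫ h') ≫ gY := by rw [Category.assoc, sq₁.w, Category.assoc]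
  have hc : (ξ' ≫ gX) ≫ h ≫ k = η' ≫ gZ := by rw [← Category.assoc, hξh, hπ]
  refine Eq.trans ?_ (evSh_bcHom h gY h' gX sq₁ F (ξ' ≫ h') ξ' rfl hξh _).symm
  rw [← evSh_compHom h k (η' ≫ gZ) F (ξ' ≫ gX) ((ξ' ≫ h') ≫ gY) hξh hπ hc a₁, ← ha ξ' hc' hc,
    evSh_compHom h' k' η' _ ξ' (ξ' ≫ h') rfl hπ' hc' _]
  exact congrArg (evSh h' (ξ' ≫ h') _ ⟨ξ', rfl⟩)
    (evSh_naturality k' η' φ (⟨ξ' ≫ h', hπ'⟩ : Pts k' η') b₀).symm

end comp

/-- `f` has base change for sections with proper support. -/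
structure Univ (f : X ⟶ Y) : Prop where
  lift : ∀ {X' Y' : Scheme.{u}} (g : Y' ⟶ Y) (f' : X' ⟶ Y') (g' : X' ⟶ X), IsPullback g' f' f g →
    ∀ (F : EtCoh.Ab X) (Ω : Type u) [Field Ω] [IsAlgClosed Ω] (η' : Spec (CommRingCat.of Ω) ⟶ Y'),
      Lift f g f' g' F η'

lemma univ_lqf (f : X ⟶ Y) [IsSeparated f] [LocallyOfFiniteType f] [LocallyQuasiFinite f] : Univ f :=
  ⟨fun {X' _} g f' g' hsq F Ω _ _ η' =>
    have : LocallyOfFiniteType f' := MorphismProperty.of_isPullback hsq ‹_›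
    lift_of_lqf f g f' g' hsq F η'⟩

lemma univ_proper (f : X ⟶ Y) [IsProper f] : Univ f :=
  ⟨fun g f' g' hsq F Ω _ _ η' =>
    have : IsProper f' := MorphismProperty.of_isPullback hsq ‹_›
    lift_of_proper f g f' g' hsq F η'⟩

lemma univ_comp (h : X ⟶ Y) (k : Y ⟶ Z) [LocallyOfFiniteType h] [LocallyOfFiniteType k] [IsSeparated k]
    (hh : Univ h) (hk : Univ k) : Univ (h ≫ k) := by
  refine ⟨?_⟩
  intro X' Z' gZ f' gX hsq F Ω _ _ η'
  let Y' := pullback k gZ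
  let gY : Y' ⟶ Y := pullback.fst k gZ
  let k' : Y' ⟶ Z' := pullback.snd k gZ
  let h' : X' ⟶ Y' := pullback.lift (gX ≫ h) f' ((Category.assoc _ _ _).trans hsq.w)
  have hf : h' ≫ k' = f' := pullback.lift_snd _ _ _
  have sq₁ : IsPullback gX h' h gY :=
    IsPullback.of_bot (by rw [hf]; exact hsq) (pullback.lift_fst _ _ _).symm (IsPullback.of_hasPullback k gZ)
  have : LocallyOfFiniteType h' := MorphismProperty.of_isPullback sq₁ ‹_›
  have : LocallyOfFiniteType k' := MorphismProperty.pullback_snd k gZ ‹_›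
  have : IsSeparated k' := MorphismProperty.pullback_snd k gZ ‹_›
  have hc := lift_comp h k gX gY gZ h' k' sq₁ F η' pullback.condition
    (fun Ω' _ _ π => hh.lift gY h' gX sq₁ F Ω' π)
    (hk.lift gZ k' gY (IsPullback.of_hasPullback k gZ) _ Ω η')
  rw [← hf]
  exact hc

end Groth.EtaleShriek.ShriekBCComp
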