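import Groth.Agent.EtaleShriek.ShriekBCComp
import Groth.Agent.NagComp.Nagata
import Groth.Agent.EtaleBase.ExtZeroProps
import Groth.Agent.AlgSpEt.StrictLocal

/-!
Base change for `f_!` along an arbitrary morphism: `f` separated and locally of finite type.
-/

set_option autoImplicit false
set_option backward.isDefEq.respectTransparency.types false

universe u

open CategoryTheory CategoryTheory.Limits AlgebraicGeometry Opposite TopologicalSpace

namespace Groth.EtaleShriek.ShriekBCMain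

open Groth.EtaleBase (germ germ_map germ_surjective fiberPoint openObj openHom pushLift stalkPullIso
  mem_topology_iff)
open Groth.EtaleShriek.LqfStalk (Pts evSh evSh_germ evSh_naturality)
open Groth.EtaleShriek.ShriekBC (Lift)
open Groth.EtaleShriek.ShriekBCComp (Univ univ_lqf univ_proper univ_comp lift_of_comp)

variable {X S : Scheme.{u}}

/-- A section which is locally in the image of a monomorphism is in the image. -/
lemma exists_app_eq {A B : EtCoh.Ab X} (α : A ⟶ B) [Mono α] (U : X.Etale) (σ : B.obj.obj (op U))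
    (h : ∀ u : U.left, ∃ (W : X.Etale) (g : W ⟶ U), (∃ w, g.left.base w = u) ∧
      ∃ τ, α.hom.app (op W) τ = B.obj.map g.op σ) : ∃ τ, α.hom.app (op U) τ = σ := by
  have hm : Mono α.hom := inferInstanceAs (Mono ((sheafToPresheaf _ _).map α))
  have hinj : ∀ W, Function.Injective (α.hom.app (op W)) := fun W =>
    (AddCommGrpCat.mono_iff_injective _).1 (inferInstanceAs (Mono (α.hom.app (op W))))
  let R : Sieve U :=
    { arrows := fun W g => ∃ τ, α.hom.app (op W) τ = B.obj.map g.op σ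
      downward_closed := fun {W W' g} hg k => by
        obtain ⟨τ, hτ⟩ := hg
        exact ⟨A.obj.map k.op τ, by
          rw [NatTrans.naturality_apply α.hom k.op τ, hτ, op_comp, Functor.map_comp_apply]⟩ }
  have hR : R ∈ X.smallEtaleTopology U := by
    rw [mem_topology_iff]
    intro u
    obtain ⟨W, g, ⟨w, hw⟩, hτ⟩ := h u
    exact ⟨W, g, w, hτ, hw⟩
  let A₀ := (sheafCompose X.smallEtaleTopology (forget AddCommGrpCat.{u + 1})).obj A
  let B₀ := (sheafCompose X.smallEtaleTopology (forget AddCommGrpCat.{u + 1})).obj B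
  let x : Presieve.FamilyOfElements A₀.obj R.arrows := fun W g hg => (Exists.choose hg)
  have hx : ∀ {W} (g : W ⟶ U) (hg : R.arrows g), α.hom.app (op W) (x g hg) = B.obj.map g.op σ :=
    fun g hg => Exists.choose_spec hg
  have hc : x.Compatible := by
    intro W₁ W₂ Z k₁ k₂ g₁ g₂ h₁ h₂ e
    refine hinj Z ?_
    change α.hom.app (op Z) (A.obj.map k₁.op (x g₁ h₁)) = α.hom.app (op Z) (A.obj.map k₂.op (x g₂ h₂))
    rw [NatTrans.naturality_apply α.hom k₁.op, NatTrans.naturality_apply α.hom k₂.op, hx, hx,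
      ← Functor.map_comp_apply, ← Functor.map_comp_apply, ← op_comp, ← op_comp, e]
  obtain ⟨τ, hτ, -⟩ := ((isSheaf_iff_isSheaf_of_type _ _).1 A₀.2) R hR x hc
  refine ⟨τ, (((isSheaf_iff_isSheaf_of_type _ _).1 B₀.2).isSeparated R hR).ext fun W g hg => ?_⟩
  show B.obj.map g.op (α.hom.app (op U) τ) = B.obj.map g.op σ
  rw [← NatTrans.naturality_apply α.hom g.op τ, ← hx g hg]
  exact congrArg (α.hom.app (op W)) (hτ g hg)

/-- Quasi-compact morphisms to an affine open. -/
lemma univ_of_affine_base (S₀ : S.Opens) (hS₀ : IsAffineOpen S₀) (l : X ⟶ S₀) [IsSeparated l]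
    [LocallyOfFiniteType l] [QuasiCompact l] : Univ (l ≫ S₀.ι) := by
  have : IsAffine (S₀ : Scheme.{u}) := hS₀
  obtain ⟨P, j, p, hj, hp, e⟩ := Groth.NagComp.hasCompactification l
  subst e
  exact univ_comp (j ≫ p) S₀.ι (univ_comp j p (univ_lqf j) (univ_proper p)) (univ_lqf S₀.ι)

section main

variable {X' S' : Scheme.{u}} (f : X ⟶ S) (g : S' ⟶ S) (f' : X' ⟶ S') (g' : X' ⟶ X)
  (hsq : IsPullback g' f' f g) (F : EtCoh.Ab X) [IsSeparated f] [LocallyOfFiniteType f]
  {Ω : Type u} [Field Ω] [IsAlgClosed Ω] (η' : Spec (CommRingCat.of Ω) ⟶ S')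

include hsq in
/-- Elements with support inside a quasi-compact open over an affine open of the base lift. -/
lemma exists_lift_of_supp (S₀ : S.Opens) (hS₀ : IsAffineOpen S₀) (X₀ : X.Opens)
    (hX₀ : IsCompact (X₀ : Set X)) (hfX : X₀ ≤ f ⁻¹ᵁ S₀) [LocallyOfFiniteType f']
    (W : S'.Etale) (t : (Scheme.pointSmallEtale η').fiber.obj W)
    (c : ((EtShriek.lowerShriek f').obj ((EtCoh.pull g').obj F)).obj.obj (op W))
    (hc : ∀ z ∈ EtShriek.sectSupp ((EtCoh.pull g').obj F) ((EtCoh.bc f').obj W)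
      ((EtShriek.lowerShriekToPush f' _).hom.app (op W) c),
      g'.base (((EtCoh.bc f').obj W).hom.base z) ∈ X₀) :
    ∃ a : (EtCoh.stalk (η' ≫ g)).obj ((EtShriek.lowerShriek f).obj F),
      ∀ (ξ' : Spec (CommRingCat.of Ω) ⟶ X') (h' : ξ' ≫ f' = η') (h : (ξ' ≫ g') ≫ f = η' ≫ g),
        evSh f' η' _ ⟨ξ', h'⟩ (germ η' _ W t c) =
          (stalkPullIso g' ξ').hom.app F (evSh f (η' ≫ g) F ⟨ξ' ≫ g', h⟩ a) := by
  let j := X₀.ι
  let F₀ := (EtShriek.restrAlong j).obj F
  let G := (EtShriek.lowerShriek j).obj F₀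
  let ε : G ⟶ F := (ExtZeroIso.iso j).inv.app F₀ ≫ (EtShriek.extZeroAdj j).counit.app F
  have hbij : ∀ {Ω' : Type u} [Field Ω'] [IsSepClosed Ω'] (ξ : Spec (CommRingCat.of Ω') ⟶ X),
      ξ.base default ∈ Set.range j.base → IsIso ((EtCoh.stalk ξ).map ε) := by
    intro Ω' _ _ ξ hξ
    have := Groth.EtaleBase.isIso_stalk_extZero_counit j ξ hξ F
    rw [Functor.map_comp]
    infer_instance
  have : Mono ε := by
    refine Groth.EtaleBase.mono_of_exists_stalk_injective ε fun x =>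
      ⟨SeparableClosure (X.residueField x), inferInstance, inferInstance, Groth.EtaleBase.geomPoint x,
        Groth.EtaleBase.geomPoint_apply x _, ?_⟩
    by_cases hx : (Groth.EtaleBase.geomPoint x).base default ∈ Set.range j.base
    · have := hbij _ hx
      exact (ConcreteCategory.bijective_of_isIso _).1
    · intro a b _
      have hz := Groth.EtaleBase.isZero_stalk_extZero j (Groth.EtaleBase.geomPoint x) hx F₀
      have hzG : IsZero ((EtCoh.stalk (Groth.EtaleBase.geomPoint x)).obj G) :=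
        hz.of_iso ((EtCoh.stalk _).mapIso ((ExtZeroIso.iso j).app F₀).symm)
      have := AddCommGrpCat.subsingleton_of_isZero hzG
      exact Subsingleton.elim a b
  have : Mono ((EtCoh.pull g').map ε) := inferInstance
  let σ' := (EtShriek.lowerShriekToPush f' _).hom.app (op W) c
  obtain ⟨σG, hσG⟩ := exists_app_eq ((EtCoh.pull g').map ε) ((EtCoh.bc f').obj W) σ' fun z => by
    by_cases hz : g'.base (((EtCoh.bc f').obj W).hom.base z) ∈ X₀
    · -- near `z` the map is bijective on stalks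
      obtain ⟨w, hw⟩ := Groth.EtaleBase.exists_geomPoint_lift ((EtCoh.bc f').obj W) z
      let ξ := Groth.EtaleBase.geomPoint (((EtCoh.bc f').obj W).hom.base z)
      have hiso : IsIso ((EtCoh.stalk ξ).map ((EtCoh.pull g').map ε)) := by
        have h1 := hbij (ξ ≫ g') (by
          rw [Scheme.Opens.range_ι, Scheme.Hom.comp_apply, Groth.EtaleBase.geomPoint_apply]
          exact hz)
        exact (NatIso.isIso_map_iff (stalkPullIso g' ξ) ε).1 h1
      obtain ⟨x, hx⟩ := ((ConcreteCategory.isIso_iff_bijective _).1 hiso).2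
        (germ ξ ((EtCoh.pull g').obj F) _ w σ')
      obtain ⟨U, u, τ, rfl⟩ := germ_surjective ξ _ x
      rw [germ_map] at hx
      let Φ := Scheme.pointSmallEtale ξ
      obtain ⟨W₀, pm, qm, -⟩ := IsCofilteredOrEmpty.cone_objs (C := Φ.fiber.Elements)
        (Functor.elementsMk _ U u) (Functor.elementsMk _ ((EtCoh.bc f').obj W) w)
      obtain ⟨W₁, w₁⟩ := W₀
      let p : W₁ ⟶ U := pm.1
      let q : W₁ ⟶ (EtCoh.bc f').obj W := qm.1
      have hp : Φ.fiber.map p w₁ = u := pm.2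
      have hq : Φ.fiber.map q w₁ = w := qm.2
      rw [← hp, ← hq] at hx
      replace hx := (Φ.toPresheafFiber_w_apply p w₁ _ _).trans
        (hx.trans (Φ.toPresheafFiber_w_apply q w₁ _ _).symm)
      obtain ⟨W₂, r, w₂, hw₂, heq⟩ := (Groth.EtaleBase.germ_eq_iff _ _ W₁ w₁ _ _).1 hx
      refine ⟨W₂, r ≫ q, ⟨fiberPoint ξ w₂, ?_⟩, ((EtCoh.pull g').obj G).obj.map (r ≫ p).op τ, ?_⟩
      · rw [← Groth.EtaleBase.fiberPoint_map ξ (r ≫ q) w₂, Functor.map_comp]
        show fiberPoint ξ (Φ.fiber.map q (Φ.fiber.map r w₂)) = _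
        rw [hw₂, hq]
        exact hw
      · rw [NatTrans.naturality_apply ((EtCoh.pull g').map ε).hom (r ≫ p).op τ, op_comp, op_comp,
          Functor.map_comp_apply, Functor.map_comp_apply]
        exact heq
    · -- off the support
      have hv : z ∈ Groth.EtaleBase.vanishSet ((EtCoh.pull g').obj F) ((EtCoh.bc f').obj W) σ' :=
        (notMem_sectSupp_iff _ _ _ _).1 fun hm => hz (hc z hm)
      obtain ⟨V, k, hk, h0⟩ := hv
      exact ⟨V, k, hk, 0, (map_zero _).trans h0.symm⟩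
  have hps : PS f' ((EtCoh.pull g').obj G) W σG := by
    have h1 : PS f' ((EtCoh.pull g').obj F) W σ' := ps_toPush f' _ W c
    rw [PS, ← sectSupp_app ((EtCoh.pull g').map ε), hσG]
    exact h1
  obtain ⟨cG, hcG⟩ := (exists_toPush_eq_iff f' _ W σG).2 hps
  -- base change for the quasi-compact open
  let k' : (g' ⁻¹ᵁ X₀ : Scheme.{u}) ⟶ X' := (g' ⁻¹ᵁ X₀).ι
  have sq₁ : IsPullback (g' ∣_ X₀) k' j g' := isPullback_morphismRestrict g' X₀
  have hr : Set.range (j ≫ f) ⊆ Set.range S₀.ι := by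
    rintro _ ⟨x, rfl⟩
    rw [Scheme.Opens.range_ι, Scheme.Hom.comp_apply]
    exact hfX x.2
  let l := IsOpenImmersion.lift S₀.ι (j ≫ f) hr
  have hl : l ≫ S₀.ι = j ≫ f := IsOpenImmersion.lift_fac _ _ _
  have : IsAffine (S₀ : Scheme.{u}) := hS₀
  have : CompactSpace ↥(X₀ : Scheme.{u}) := isCompact_iff_compactSpace.mp hX₀
  have : IsSeparated (l ≫ S₀.ι) := by rw [hl]; infer_instance
  have : IsSeparated l := IsSeparated.of_comp l S₀.ι
  have : LocallyOfFiniteType (l ≫ S₀.ι) := by rw [hl]; infer_instance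
  have : LocallyOfFiniteType l := locallyOfFiniteType_of_comp l S₀.ι
  have : QuasiCompact l := quasiCompact_of_compactSpace l
  have hu : Univ (j ≫ f) := hl ▸ univ_of_affine_base S₀ hS₀ l
  have : IsSeparated f' := MorphismProperty.of_isPullback hsq ‹_›
  have hsq₀ : IsPullback (g' ∣_ X₀) (k' ≫ f') (j ≫ f) g := sq₁.paste_vert hsq
  obtain ⟨a₁, ha₁⟩ := lift_of_comp j f (g' ∣_ X₀) g' g k' f' sq₁ F₀ η'
    (fun Ω' _ _ π => (univ_lqf j).lift g' k' (g' ∣_ X₀) sq₁ F₀ Ω' π)
    (hu.lift g (k' ≫ f') (g' ∣_ X₀) hsq₀ F₀ Ω η') (germ η' _ W t cG)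
  refine ⟨(EtCoh.stalk (η' ≫ g)).map ((EtShriek.lowerShriek f).map ε) a₁, fun ξ' h' h => ?_⟩
  rw [evSh_naturality f (η' ≫ g) ε]
  refine Eq.trans ?_ (NatTrans.naturality_apply (stalkPullIso g' ξ').hom ε _).symm
  refine Eq.trans ?_ (congrArg ((EtCoh.stalk ξ').map ((EtCoh.pull g').map ε)) (ha₁ ξ' h' h))
  rw [evSh_germ, evSh_germ, germ_map, hcG, hσG]

include hsq in
/-- Every element lifts. -/
lemma lift [LocallyOfFiniteType f'] : Lift f g f' g' F η' := by
  intro b
  obtain ⟨V', t', c, rfl⟩ := germ_surjective η' _ b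
  let B' := (EtCoh.bc f').obj V'
  let σ' := (EtShriek.lowerShriekToPush f' ((EtCoh.pull g').obj F)).hom.app (op V') c
  let Z := EtShriek.sectSupp ((EtCoh.pull g').obj F) B' σ'
  have hps : ClSub.IsProperOver (EtShriek.prV f' V') Z := ps_toPush f' _ V' c
  let v := fiberPoint η' t'
  let i := (Scheme.IdealSheafData.vanishingIdeal (⟨Z, hps.1⟩ : Closeds B'.left)).subschemeι
  have hi : Set.range i = Z := by
    rw [Scheme.IdealSheafData.range_subschemeι, Scheme.IdealSheafData.coe_support_vanishingIdeal]; rfl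
  have hproper : IsProper (i ≫ EtShriek.prV f' V') := hps.2
  -- the image of the fibre of the support
  let K : Set X := (fun z => g'.base (B'.hom.base z)) '' (Z ∩ (EtShriek.prV f' V').base ⁻¹' {v})
  have hK : IsCompact K := by
    have e : Z ∩ (EtShriek.prV f' V').base ⁻¹' {v} =
        i '' ((i ≫ EtShriek.prV f' V') ⁻¹' {v}) := by
      ext z
      constructor
      · rintro ⟨hz, hzv⟩
        obtain ⟨y, rfl⟩ := hi.ge hz
        exact ⟨y, (Scheme.Hom.comp_apply _ _ _).trans hzv, rfl⟩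
      · rintro ⟨y, hy, rfl⟩
        exact ⟨hi.le ⟨y, rfl⟩, (Scheme.Hom.comp_apply _ _ _).symm.trans hy⟩
    have hf : IsCompact ((i ≫ EtShriek.prV f' V') ⁻¹' {v}) := by
      rw [← Scheme.Hom.range_fiberι (i ≫ EtShriek.prV f' V') v]
      exact isCompact_range ((i ≫ EtShriek.prV f' V').fiberι v).continuous
    refine IsCompact.image ?_ (g'.continuous.comp B'.hom.continuous)
    rw [e]
    exact hf.image i.continuous
  obtain ⟨S₀, hS₀, hmem, -⟩ :=
    exists_isAffineOpen_mem_and_subset (x := g.base (V'.hom.base v)) (U := (⊤ : S.Opens)) trivial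
  have hKS : K ⊆ (f ⁻¹ᵁ S₀ : Set X) := by
    rintro _ ⟨z, ⟨-, hzv⟩, rfl⟩
    show f (g' (B'.hom z)) ∈ S₀
    have e : (B'.hom ≫ g') ≫ f = EtShriek.prV f' V' ≫ V'.hom ≫ g := by
      rw [Category.assoc, hsq.w]
      exact (Category.assoc _ _ _).symm.trans ((congrArg (· ≫ g) pullback.condition.symm).trans
        (Category.assoc _ _ _))
    have e2 := congrArg (fun m : B'.left ⟶ S => m z) e
    simp only [Scheme.Hom.comp_apply] at e2
    rw [e2]
    exact Set.mem_of_eq_of_mem (congrArg (fun y => g (V'.hom y)) hzv) hmem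
  obtain ⟨X₀, hX₀, hKX, hX₀S⟩ : ∃ X₀ : X.Opens, IsCompact (X₀ : Set X) ∧ K ⊆ X₀ ∧ X₀ ≤ f ⁻¹ᵁ S₀ := by
    obtain ⟨O, hO, hKO, hOS⟩ := Groth.HensPair.exists_isCompact_open_between hK
      (f ⁻¹ᵁ S₀).isOpen.isClosed_compl
      (Set.disjoint_iff_inter_eq_empty.1 (Set.disjoint_compl_right_iff_subset.2 hKS))
    exact ⟨O, hO, hKO, fun x hx => not_not.1 (Set.disjoint_left.1 (Set.disjoint_iff_inter_eq_empty.2 hOS) hx)⟩
  -- shrink `V'`
  let Z₁ : Set B'.left := Z ∩ (fun z => g'.base (B'.hom.base z)) ⁻¹' (X₀ : Set X)ᶜ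
  have hZ₁ : IsClosed Z₁ :=
    hps.1.inter (X₀.isOpen.isClosed_compl.preimage (g'.continuous.comp B'.hom.continuous))
  let O : V'.left.Opens := ⟨((EtShriek.prV f' V').base '' Z₁)ᶜ,
    (ProperOver.isClosed_image _ (ProperOver.mono _ hps hZ₁ Set.inter_subset_left)).isOpen_compl⟩
  obtain ⟨t, ht⟩ := Groth.AlgSpEt.StrictLocal.exists_openLift η' t' O (by
    rintro ⟨z, ⟨hzZ, hzX⟩, hzv⟩
    exact hzX (hKX ⟨z, ⟨hzZ, hzv⟩, rfl⟩))
  obtain ⟨a, ha⟩ := exists_lift_of_supp f g f' g' hsq F η' S₀ hS₀ X₀ hX₀ hX₀S (openObj V' O) t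
    (((EtShriek.lowerShriek f').obj ((EtCoh.pull g').obj F)).obj.map (openHom V' O).op c) (by
      intro z hz
      rw [NatTrans.naturality_apply (EtShriek.lowerShriekToPush f' _).hom (openHom V' O).op c] at hz
      have hz' : ((EtCoh.bc f').map (openHom V' O)).left.base z ∈ Z :=
        (Set.ext_iff.1 (sectSupp_map _ ((EtCoh.bc f').map (openHom V' O)) σ') z).1 hz
      have ew : ((EtCoh.bc f').obj (openObj V' O)).hom.base z =
          B'.hom.base (((EtCoh.bc f').map (openHom V' O)).left.base z) :=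
        (congrArg (fun m : _ ⟶ X' => m.base z) (MorphismProperty.Over.w ((EtCoh.bc f').map (openHom V' O))).symm).trans
          (Scheme.Hom.comp_apply _ _ _)
      rw [ew]
      by_contra hn
      refine ((EtShriek.prV f' (openObj V' O)).base z).2 ⟨_, ⟨hz', hn⟩, ?_⟩
      exact (Scheme.Hom.comp_apply _ _ _).symm.trans
        ((congrArg (fun m : _ ⟶ V'.left => m.base z) (EtCoh.isPullback_bc_map f' (openHom V' O)).w).trans
          (Scheme.Hom.comp_apply _ _ _)))
  refine ⟨a, fun ξ' h' h => ?_⟩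
  rw [← ha ξ' h' h, ← ht]
  exact congrArg (evSh f' η' _ ⟨ξ', h'⟩) ((Scheme.pointSmallEtale η').toPresheafFiber_w_apply
    (openHom V' O) t _ c).symm

end main

/-- Base change for `f_!`. -/
theorem univ (f : X ⟶ S) [IsSeparated f] [LocallyOfFiniteType f] : Univ f :=
  ⟨fun g f' g' hsq F Ω _ _ η' =>
    have : LocallyOfFiniteType f' := MorphismProperty.of_isPullback hsq ‹_›
    lift f g f' g' hsq F η'⟩

/-- The base change morphism for `f_!` is an isomorphism. -/
theorem isIso_bcHom {X' S' : Scheme.{u}} (f : X ⟶ S) [IsSeparated f] [LocallyOfFiniteType f] (g : S' ⟶ S)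
    (f' : X' ⟶ S') [LocallyOfFiniteType f'] (g' : X' ⟶ X) (hsq : IsPullback g' f' f g) (F : EtCoh.Ab X) :
    IsIso (ShriekBC.bcHom f g f' g' hsq F) :=
  ShriekBC.isIso_bcHom f g f' g' hsq F fun Ω _ _ η' => (univ f).lift g f' g' hsq F Ω η'

end Groth.EtaleShriek.ShriekBCMain
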