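import Groth.Agent.S1324
import Groth.Agent.S1326
import Groth.Agent.S15351
import Groth.Agent.SmoothSlice.Sections
import Groth.Agent.PropsBasic2.LocNoeth
import Groth.Agent.EtaleBase.Rigidity
import Mathlib.AlgebraicGeometry.Geometrically.Connected

/-!
Smooth schemes are covered etale-locally by schemes with geometrically connected fibres over schemes
etale over the base.
-/

set_option autoImplicit false
set_option backward.isDefEq.respectTransparency.types false

universe u

open CategoryTheory CategoryTheory.Limits AlgebraicGeometry TopologicalSpace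

namespace Groth.EtaleShriek.SmoothConnCover

attribute [local simp] pullback.lift_fst pullback.lift_snd pullback.lift_fst_assoc pullback.lift_snd_assoc

lemma locallyConnectedSpace_of_field {F : Scheme.{u}} {K : Type u} [Field K]
    (p : F ⟶ Spec (CommRingCat.of K)) [LocallyOfFiniteType p] : LocallyConnectedSpace F := by
  have : IsLocallyNoetherian F := LocallyOfFiniteType.isLocallyNoetherian p
  refine Groth.PropsBasic2.locallyConnectedSpace fun x => ?_
  obtain ⟨W, hW, hxW, -⟩ := exists_isAffineOpen_mem_and_subset (x := x) (U := ⊤) trivial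
  have : IsNoetherianRing Γ(F, W) := IsLocallyNoetherian.component_noetherian ⟨W, hW⟩
  exact ⟨W, W.isOpen.mem_nhds hxW, noetherianSpace_of_isAffineOpen W hW⟩

lemma isCompact_of_isConstructible {P : Scheme.{u}} [IsAffine P] (S : Set P)
    (hS : Topology.IsConstructible S) : IsCompact S := by
  have : Nonempty {U : P.Opens // IsCompact (U : Set P)} := ⟨⟨⊥, isCompact_empty⟩⟩
  refine Topology.IsConstructible.induction_of_isTopologicalBasis
    (P := fun s _ => IsCompact s)
    (fun U : {U : P.Opens // IsCompact (U : Set P)} => (U.1 : Set P)) ?_ (fun U => U.2)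
    (fun U t _ => U.2.inter_right (isOpen_biUnion fun j _ => j.1.isOpen).isClosed_compl)
    (fun _ _ _ _ h₁ h₂ => h₁.union h₂) S hS
  refine isTopologicalBasis_of_isOpen_of_nhds (by rintro _ ⟨U, rfl⟩; exact U.1.isOpen) fun x O hx hO => ?_
  obtain ⟨W, hW, hxW, hWO⟩ := exists_isAffineOpen_mem_and_subset (x := x) (U := ⟨O, hO⟩) hx
  exact ⟨W, ⟨⟨W, hW.isCompact⟩, rfl⟩, hxW, hWO⟩

/-- An open cutting out a connected component of a fibre. -/
lemma exists_open_component {U Y : Scheme.{u}} (φ : U ⟶ Y) [LocallyOfFiniteType φ] (u : U) :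
    ∃ O : U.Opens, u ∈ O ∧ ∀ x ∈ O, φ x = φ u → x ∈ connectedComponentIn (φ ⁻¹' {φ u}) u := by
  let ι := pullback.fst φ (Y.fromSpecResidueField (φ u))
  have : LocallyOfFiniteType (pullback.snd φ (Y.fromSpecResidueField (φ u))) :=
    MorphismProperty.pullback_snd _ _ ‹_›
  have : LocallyConnectedSpace ↥(pullback φ (Y.fromSpecResidueField (φ u))) :=
    locallyConnectedSpace_of_field (K := Y.residueField (φ u)) (pullback.snd φ (Y.fromSpecResidueField (φ u)))
  have hr : Set.range ι = φ ⁻¹' {φ u} := φ.range_fiberι (φ u)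
  obtain ⟨u', hu'⟩ := hr.ge (show u ∈ φ ⁻¹' {φ u} from rfl)
  obtain ⟨O, hO, hOC⟩ := ι.isEmbedding.isInducing.isOpen_iff.1
    (isOpen_connectedComponent (x := u'))
  refine ⟨⟨O, hO⟩, ?_, fun x hx hxu => ?_⟩
  · show u ∈ O
    rw [← hu']
    exact hOC.ge mem_connectedComponent
  · obtain ⟨x', rfl⟩ := hr.ge hxu
    refine (isPreconnected_connectedComponent.image ι ι.continuous.continuousOn).subset_connectedComponentIn
      ⟨u', mem_connectedComponent, hu'⟩ ?_ ⟨x', hOC.le hx, rfl⟩
    rintro _ ⟨y, -, rfl⟩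
    exact hr.le ⟨y, rfl⟩

/-- The component of a section meets the preimage of every point of the component below. -/
lemma exists_mem_sectionComponents {U Y V : Scheme.{u}} (φ : U ⟶ Y) [LocallyOfFiniteType φ]
    (v : V ⟶ Y) [Etale v] [QuasiCompact v] (σ : V ⟶ pullback φ v)
    (hσ : σ ≫ pullback.snd φ v = 𝟙 V) (w : V) (u : U) (hw : φ u = v w)
    (hc : pullback.fst φ v (σ w) ∈ connectedComponentIn (φ ⁻¹' {φ u}) u) :
    ∃ q ∈ MoreMor.sectionComponents (pullback.snd φ v) σ, pullback.fst φ v q = u := by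
  let ks := Y.fromSpecResidueField (φ u)
  let pF := pullback.snd φ ks
  let pV := pullback.snd v ks
  let ι := pullback.fst φ ks
  let a := pullback.snd φ v
  have : Etale pV := inferInstanceAs (Etale (pullback.snd v ks))
  have : QuasiCompact pV := inferInstanceAs (QuasiCompact (pullback.snd v ks))
  have : IsLocallyArtinian (pullback v ks) := IsLocallyArtinian.of_locallyQuasiFinite pV
  have : IsFinite pV := IsFinite.of_locallyQuasiFinite pV
  let π := pullback.fst pF pV
  have : Etale π := inferInstanceAs (Etale (pullback.fst pF pV))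
  have : IsFinite π := MorphismProperty.pullback_fst pF pV ‹IsFinite pV›
  have : LocallyOfFiniteType pF := MorphismProperty.pullback_snd φ ks ‹_›
  have : LocallyOfFiniteType (π ≫ pF) := MorphismProperty.comp_mem _ π pF inferInstance this
  have : LocallyConnectedSpace ↥(pullback pF pV) := locallyConnectedSpace_of_field (K := Y.residueField (φ u)) (π ≫ pF)
  have hcond : (pullback.fst pF pV ≫ ι) ≫ φ = (pullback.snd pF pV ≫ pullback.fst v ks) ≫ v := by
    simp only [Category.assoc, ι, pV, pF, pullback.condition, pullback.condition_assoc]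
  let j : pullback pF pV ⟶ pullback φ v :=
    pullback.lift (pullback.fst pF pV ≫ ι) (pullback.snd pF pV ≫ pullback.fst v ks) hcond
  have haσ : a (σ w) = w := by rw [← Scheme.Hom.comp_apply, hσ]; rfl
  have hσs : (pullback.fst φ v ≫ φ) (σ w) = ks default := by
    rw [pullback.condition, Scheme.Hom.comp_apply, haσ, ← hw]
    exact (Scheme.fromSpecResidueField_apply _ _).symm
  obtain ⟨z, hz, -⟩ := Scheme.Pullback.exists_preimage_pullback (σ w) default hσs
  let l : pullback (pullback.fst φ v ≫ φ) ks ⟶ pullback pF pV :=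
    pullback.lift
      (pullback.lift (pullback.fst _ ks ≫ pullback.fst φ v) (pullback.snd _ ks)
        ((Category.assoc _ _ _).trans pullback.condition))
      (pullback.lift (pullback.fst _ ks ≫ pullback.snd φ v) (pullback.snd _ ks)
        (by rw [Category.assoc, ← pullback.condition]; exact pullback.condition))
      (by simp [pF, pV])
  have hlj : l ≫ j = pullback.fst (pullback.fst φ v ≫ φ) ks := by
    apply pullback.hom_ext <;> simp [j, l, ι]
  let p₀ := l z
  have hjp : j p₀ = σ w := by rw [← Scheme.Hom.comp_apply, hlj, hz]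
  have hιπ : ∀ q, ι (π q) = pullback.fst φ v (j q) := fun q => by
    rw [← Scheme.Hom.comp_apply, ← Scheme.Hom.comp_apply, pullback.lift_fst]
  have hr : Set.range ι = φ ⁻¹' {φ u} := φ.range_fiberι (φ u)
  obtain ⟨u', hu'⟩ := hr.ge (show u ∈ φ ⁻¹' {φ u} from rfl)
  -- `u'` lies in the component of the image of `p₀`
  have hu0 : u' ∈ connectedComponent (π p₀) := by
    let C := connectedComponentIn (φ ⁻¹' {φ u}) u
    have hCr : C ⊆ Set.range ι := hr.symm ▸ connectedComponentIn_subset _ _
    have hpc : _root_.IsPreconnected (ι ⁻¹' C) := by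
      rw [← ι.isEmbedding.isInducing.isPreconnected_image, Set.image_preimage_eq_of_subset hCr]
      exact isPreconnected_connectedComponentIn
    refine hpc.subset_connectedComponent ?_ ?_
    · show ι (π p₀) ∈ C
      rw [hιπ, hjp]
      exact hc
    · show ι u' ∈ C
      rw [hu']
      exact mem_connectedComponentIn rfl
  have hclopen : IsClopen (π '' connectedComponent p₀) :=
    ⟨π.isClosedMap _ isClosed_connectedComponent, π.isOpenMap _ isOpen_connectedComponent⟩
  obtain ⟨q', hq', hqu⟩ := hclopen.connectedComponent_subset ⟨p₀, mem_connectedComponent, rfl⟩ hu0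
  -- everything lies over `w`
  have haw : ∀ q ∈ connectedComponent p₀, a (j q) = w := by
    intro q hq
    have h1 : ∀ r, a (j r) = pullback.fst v ks (pullback.snd pF pV r) := fun r => by
      rw [← Scheme.Hom.comp_apply, ← Scheme.Hom.comp_apply, pullback.lift_snd]
    have h2 : pullback.snd pF pV q = pullback.snd pF pV p₀ :=
      isPreconnected_connectedComponent.constant (pullback.snd pF pV).continuous.continuousOn hq
        mem_connectedComponent
    rw [h1, h2, ← h1, hjp, haσ]
  refine ⟨j q', ?_, (hιπ q').symm.trans ((congrArg ι hqu).trans hu')⟩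
  show j q' ∈ connectedComponentIn (a ⁻¹' {a (j q')}) (σ (a (j q')))
  rw [haw q' hq']
  refine (isPreconnected_connectedComponent.image j j.continuous.continuousOn).subset_connectedComponentIn
    ⟨p₀, mem_connectedComponent, hjp⟩ ?_ ⟨q', hq', rfl⟩
  rintro _ ⟨r, hr', rfl⟩
  exact haw r hr'

/-- The section components, when open, have geometrically connected fibres. -/
lemma geometricallyConnected_sectionComponents {P V : Scheme.{u}} (a : P ⟶ V) (σ : V ⟶ P)
    (hσ : σ ≫ a = 𝟙 V) (D : P.Opens) (hD : (D : Set P) = MoreMor.sectionComponents a σ) :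
    GeometricallyConnected (D.ι ≫ a) := by
  refine ⟨fun K _ y Z fst snd hZ => ?_⟩
  let σK : Spec (CommRingCat.of K) ⟶ pullback a y :=
    pullback.lift (y ≫ σ) (𝟙 _) (by rw [Category.assoc, hσ, Category.comp_id, Category.id_comp])
  have hσK : σK ≫ pullback.snd a y = 𝟙 _ := pullback.lift_snd _ _ _
  let DK : (pullback a y).Opens := pullback.fst a y ⁻¹ᵁ D
  have hDK : (DK : Set ↥(pullback a y)) = connectedComponent (σK default) := by
    show pullback.fst a y ⁻¹' (D : Set P) = _
    rw [hD, ← Groth.Agent.S1324.result a σ hσ (pullback.snd a y) (pullback.fst a y) y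
      (IsPullback.of_hasPullback a y) σK hσK (pullback.lift_fst _ _ _)]
    ext x
    show x ∈ connectedComponentIn ((pullback.snd a y) ⁻¹' {pullback.snd a y x})
      (σK (pullback.snd a y x)) ↔ _
    have hu : (pullback.snd a y) ⁻¹' {pullback.snd a y x} = Set.univ :=
      Set.eq_univ_of_forall fun _ => Subsingleton.elim (α := Spec (CommRingCat.of K)) _ _
    rw [hu, connectedComponentIn_univ, Subsingleton.elim (pullback.snd a y x) default]
  have hc : ConnectedSpace ↥(DK.toScheme) := by
    have h1 : _root_.IsConnected (DK : Set ↥(pullback a y)) := hDK ▸ isConnected_connectedComponent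
    exact isConnected_iff_connectedSpace.1 h1
  have hp := (isPullback_morphismRestrict (pullback.fst a y) D).paste_vert (IsPullback.of_hasPullback a y)
  exact (hp.isoIsPullback _ _ hZ).hom.homeomorph.connectedSpace_iff.1 hc

/-- **Cover**: near every point, a smooth morphism factors etale-locally through a quasi-compact morphism
with geometrically connected fibres to a scheme etale over the base. -/
theorem exists_nbhd {U Y : Scheme.{u}} (φ : U ⟶ Y) [Smooth φ] (u : U) :
    ∃ (D : Scheme.{u}) (d : D ⟶ U) (V : Scheme.{u}) (v : V ⟶ Y) (a : D ⟶ V),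
      Etale d ∧ Etale v ∧ a ≫ v = d ≫ φ ∧ QuasiCompact a ∧ GeometricallyConnected a ∧ u ∈ Set.range d := by
  obtain ⟨Y₀, hY₀, huY₀, -⟩ := exists_isAffineOpen_mem_and_subset (x := φ u) (U := ⊤) trivial
  obtain ⟨U₀, hU₀, huU₀, hle⟩ := exists_isAffineOpen_mem_and_subset (x := u) (U := φ ⁻¹ᵁ Y₀) huY₀
  let φ₁ := φ.resLE Y₀ U₀ hle
  have : IsAffine U₀.toScheme := hU₀
  have : IsAffine Y₀.toScheme := hY₀
  have : Smooth φ₁ := inferInstance
  let u₁ : U₀.toScheme := ⟨u, huU₀⟩
  obtain ⟨O, huO, hO⟩ := exists_open_component φ₁ u₁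
  have : Smooth (O.ι ≫ φ₁) := inferInstance
  obtain ⟨W, h, w, he, hw⟩ := Groth.SmoothSlice.exists_etale_section (O.ι ≫ φ₁) ⟨u₁, huO⟩
  obtain ⟨V, hV, hwV, -⟩ := exists_isAffineOpen_mem_and_subset (x := w) (U := ⊤) trivial
  have : IsAffine V.toScheme := hV
  let v₁ : V.toScheme ⟶ Y₀.toScheme := V.ι ≫ h ≫ O.ι ≫ φ₁
  have : Etale v₁ := by
    have := he
    exact inferInstanceAs (Etale (V.ι ≫ h ≫ O.ι ≫ φ₁))
  let w₁ : V.toScheme := ⟨w, hwV⟩
  let P := pullback φ₁ v₁
  let a := pullback.snd φ₁ v₁
  let σ : V.toScheme ⟶ P := pullback.lift (V.ι ≫ h ≫ O.ι) (𝟙 _) (by simp [v₁])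
  have hσ : σ ≫ a = 𝟙 _ := pullback.lift_snd _ _ _
  have : Smooth a := inferInstanceAs (Smooth (pullback.snd φ₁ v₁))
  have : IsAffine P := inferInstanceAs (IsAffine (pullback φ₁ v₁))
  let D : P.Opens := ⟨MoreMor.sectionComponents a σ, Groth.Agent.S15351.result a σ hσ⟩
  have hDc : IsCompact (D : Set P) :=
    isCompact_of_isConstructible _ ((Groth.Agent.S1326.result a σ hσ).isConstructible)
  have hqc : QuasiCompact (D.ι ≫ a) := by
    have : CompactSpace D.toScheme := isCompact_iff_compactSpace.1 hDc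
    exact quasiCompact_of_compactSpace _
  have hgc := geometricallyConnected_sectionComponents a σ hσ D rfl
  have : Etale (pullback.fst φ₁ v₁) := inferInstance
  refine ⟨D.toScheme, D.ι ≫ pullback.fst φ₁ v₁ ≫ U₀.ι, V.toScheme, v₁ ≫ Y₀.ι, D.ι ≫ a, inferInstance,
    inferInstance, ?_, hqc, hgc, ?_⟩
  · simp only [Category.assoc, a]
    rw [← pullback.condition_assoc, Scheme.Hom.resLE_comp_ι]
  · have hwu : φ₁ u₁ = v₁ w₁ := by
      show φ₁ u₁ = (V.ι ≫ h ≫ O.ι ≫ φ₁) w₁
      rw [Scheme.Hom.comp_apply]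
      exact hw.symm
    have hx : pullback.fst φ₁ v₁ (σ w₁) ∈ connectedComponentIn (φ₁ ⁻¹' {φ₁ u₁}) u₁ := by
      rw [← Scheme.Hom.comp_apply, pullback.lift_fst, Scheme.Hom.comp_apply, Scheme.Hom.comp_apply]
      refine hO _ (h w).2 ?_
      rw [hwu]
      rfl
    obtain ⟨q, hq, hqu⟩ := exists_mem_sectionComponents φ₁ v₁ σ hσ w₁ u₁ hwu hx
    refine ⟨⟨q, hq⟩, ?_⟩
    show (D.ι ≫ pullback.fst φ₁ v₁ ≫ U₀.ι) _ = u
    rw [Scheme.Hom.comp_apply, Scheme.Hom.comp_apply]
    exact congrArg U₀.ι hqu

end Groth.EtaleShriek.SmoothConnCover
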