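import Groth.Agent.EtaleShriek.ShriekBCMain
import Groth.Agent.DescentBase.SepClosedSite

/-!
The stalk of `f_!` is the group of sections with compact support on the geometric fibre.
-/

set_option autoImplicit false
set_option backward.isDefEq.respectTransparency.types false

universe u

open CategoryTheory CategoryTheory.Limits AlgebraicGeometry Opposite

namespace Groth.EtaleShriek.StalkH0c

open Groth.EtaleBase (germ stalkPullIso)
open Groth.EtaleShriek.BCForget (U0 toAbStalk toAbStalk_germ toAbStalk_bijective)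

variable {k : Type u} [Field k] [IsAlgClosed k]

/-- Over an algebraically closed field the stalk is the group of global sections. -/
lemma germ_top_bijective (H : EtCoh.Ab (Spec (CommRingCat.of k))) :
    Function.Bijective (germ (𝟙 (Spec (CommRingCat.of k))) H (EtCoh.top (Spec (CommRingCat.of k)))
      (Groth.DescentBase.topPtOf (𝟙 (Spec (CommRingCat.of k))))) := by
  have h := (toAbStalk_bijective (𝟙 (Spec (CommRingCat.of k))) H).comp
    (Groth.DescentBase.toPresheafFiber_pt_bijective (𝟙 (Spec (CommRingCat.of k))) (U0 H))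
  refine ⟨fun σ τ e => h.1 ?_, fun y => ?_⟩
  · exact ((toAbStalk_germ _ H _ _ σ).trans e).trans (toAbStalk_germ _ H _ _ τ).symm
  · obtain ⟨σ, hσ⟩ := h.2 y
    exact ⟨σ, (toAbStalk_germ _ H _ _ σ).symm.trans hσ⟩

variable {P : Scheme.{u}} (q : P ⟶ Spec (CommRingCat.of k)) [LocallyOfFiniteType q]

omit [IsAlgClosed k] in
lemma ps_top_iff (G : EtCoh.Ab P) (s : EtCoh.sect G (EtCoh.top P)) :
    PS q G (EtCoh.top (Spec (CommRingCat.of k))) (G.obj.map (EtCore.bcTopIso q).hom.op s) ↔
      ClSub.IsProperOver (X := P) q (EtShriek.sectSupp G (EtCoh.top P) s) := by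
  let m : ((EtCoh.bc q).obj (EtCoh.top (Spec (CommRingCat.of k)))).left ⟶ P := (EtCore.bcTopIso q).hom.left
  have : IsIso m := ⟨(EtCore.bcTopIso q).inv.left,
    congrArg (fun l => l.left) (EtCore.bcTopIso q).hom_inv_id,
    congrArg (fun l => l.left) (EtCore.bcTopIso q).inv_hom_id⟩
  have hm : m ≫ 𝟙 P = pullback.snd (EtCoh.top (Spec (CommRingCat.of k))).hom q :=
    MorphismProperty.Over.w (EtCore.bcTopIso q).hom
  have e : EtShriek.prV q (EtCoh.top (Spec (CommRingCat.of k))) = m ≫ q := by
    refine (Category.comp_id _).symm.trans ?_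
    refine Eq.trans ?_ (congrArg (· ≫ q) (hm.symm.trans (Category.comp_id _)))
    exact pullback.condition
  rw [PS, sectSupp_map, e]
  exact ProperMap.iff_of_iso m q (EtShriek.sectSupp G (EtCoh.top P) s : Set P)

omit [IsAlgClosed k] in
/-- Sections of `q_!` over the point are the sections with compact support. -/
theorem nonempty_sections_equiv (G : EtCoh.Ab P) :
    Nonempty (((EtShriek.lowerShriek q).obj G).obj.obj (op (EtCoh.top (Spec (CommRingCat.of k)))) ≃+
      EtShriek.H0c q G) := by
  let T := EtCoh.top (Spec (CommRingCat.of k))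
  let φ : ((EtShriek.lowerShriek q).obj G).obj.obj (op T) ⟶ G.obj.obj (op (EtCoh.top P)) :=
    (EtShriek.lowerShriekToPush q G).hom.app (op T) ≫ G.obj.map (EtCore.bcTopIso q).inv.op
  have hφ : Function.Injective φ :=
    (ConcreteCategory.bijective_of_isIso (G.obj.map (EtCore.bcTopIso q).inv.op)).1.comp (toPush_injective q G T)
  have key : ∀ s : EtCoh.sect G (EtCoh.top P),
      (∃ a, φ a = s) ↔ ClSub.IsProperOver (X := P) q (EtShriek.sectSupp G (EtCoh.top P) s) := by
    intro s
    rw [← ps_top_iff q G s, ← exists_toPush_eq_iff]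
    refine exists_congr fun a => ⟨fun h => ?_, fun h => ?_⟩
    · rw [← h]
      exact (ProperMap.map_hom_map_inv G (EtCore.bcTopIso q) _).symm
    · refine (congrArg (G.obj.map (EtCore.bcTopIso q).inv.op) h).trans ?_
      rw [← Functor.map_comp_apply, ← op_comp, Iso.inv_hom_id, op_id, Functor.map_id_apply]
  have hr : φ.hom.range = EtShriek.H0c q G := by
    refine le_antisymm ?_ ((AddSubgroup.closure_le _).2 ?_)
    · rintro _ ⟨a, rfl⟩
      exact AddSubgroup.subset_closure ⟨_, subset_rfl, (key _).1 ⟨a, rfl⟩⟩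
    · rintro s ⟨Z, hZ, hp⟩
      exact (key s).2 (ProperOver.mono (X := P) q hp (isClosed_sectSupp _ _ _) hZ)
  exact ⟨(AddMonoidHom.ofInjective hφ).trans (AddEquiv.addSubgroupCongr hr)⟩

variable {X Y : Scheme.{u}} (f : X ⟶ Y) [IsSeparated f] [LocallyOfFiniteType f]

/-- The stalk of `f_!` and compact supports on the geometric fibre. -/
theorem nonempty_stalk_iso (F : EtCoh.Ab X) (η : Spec (CommRingCat.of k) ⟶ Y) :
    Nonempty ((EtCoh.stalk η).obj ((EtShriek.lowerShriek f).obj F) ≅
      AddCommGrpCat.of (EtShriek.H0c (pullback.snd f η) ((EtCoh.pull (pullback.fst f η)).obj F))) := by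
  have hsq := IsPullback.of_hasPullback f η
  have := ShriekBCMain.isIso_bcHom f η (pullback.snd f η) (pullback.fst f η) hsq F
  let H := (EtShriek.lowerShriek (pullback.snd f η)).obj ((EtCoh.pull (pullback.fst f η)).obj F)
  let pt := 𝟙 (Spec (CommRingCat.of k))
  have : IsIso (germ pt H (EtCoh.top _) (Groth.DescentBase.topPtOf pt)) :=
    (ConcreteCategory.isIso_iff_bijective _).2 (germ_top_bijective H)
  obtain ⟨e⟩ := nonempty_sections_equiv (pullback.snd f η) ((EtCoh.pull (pullback.fst f η)).obj F)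
  exact ⟨eqToIso (by rw [Category.id_comp]) ≪≫ (stalkPullIso η pt).app ((EtShriek.lowerShriek f).obj F) ≪≫
    (EtCoh.stalk pt).mapIso (asIso (ShriekBC.bcHom f η (pullback.snd f η) (pullback.fst f η) hsq F)) ≪≫
    (asIso (germ pt H (EtCoh.top _) (Groth.DescentBase.topPtOf pt))).symm ≪≫ e.toAddCommGrpIso⟩

end Groth.EtaleShriek.StalkH0c
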