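import Groth.Agent.EtaleShriek.ProperOver
import Groth.Prelude.Def_EtShriek2

/-!
Supports of sections and the presheaf of sections with proper support.
-/

set_option autoImplicit false

universe u

open CategoryTheory CategoryTheory.Limits AlgebraicGeometry Opposite

namespace Groth.EtaleShriek

open Groth.EtaleBase (vanishSet isOpen_vanishSet map_eq_zero_iff_range_subset section_eq_zero_of_germs
  germ_eq_zero_iff_mem exists_fiber_lift exists_geomPoint_lift fiberPoint)

variable {X Y : Scheme.{u}}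

lemma sectSupp_eq (F : EtCoh.Ab X) (U : X.Etale) (s : EtCoh.sect F U) :
    EtShriek.sectSupp F U s = (vanishSet F U s)ᶜ := by
  ext x
  constructor
  · rintro hx ⟨V, g, hv, hz⟩
    exact hx V g hv hz
  · intro hx V g hv hz
    exact hx ⟨V, g, hv, hz⟩

lemma isClosed_sectSupp (F : EtCoh.Ab X) (U : X.Etale) (s : EtCoh.sect F U) :
    IsClosed (EtShriek.sectSupp F U s) := by
  rw [sectSupp_eq]
  exact (isOpen_vanishSet F U s).isClosed_compl

lemma notMem_sectSupp_iff (F : EtCoh.Ab X) (U : X.Etale) (s : EtCoh.sect F U) (x : U.left) :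
    x ∉ EtShriek.sectSupp F U s ↔ x ∈ vanishSet F U s := by
  rw [sectSupp_eq, Set.mem_compl_iff, not_not]

lemma map_eq_zero_iff (F : EtCoh.Ab X) {U V : X.Etale} (g : V ⟶ U) (s : EtCoh.sect F U) :
    F.obj.map g.op s = 0 ↔ Disjoint (Set.range g.left.base) (EtShriek.sectSupp F U s) := by
  rw [map_eq_zero_iff_range_subset, sectSupp_eq, Set.disjoint_compl_right_iff_subset]

lemma eq_zero_iff (F : EtCoh.Ab X) (U : X.Etale) (s : EtCoh.sect F U) :
    s = 0 ↔ EtShriek.sectSupp F U s = ∅ := by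
  have h := map_eq_zero_iff F (𝟙 U) s
  rw [op_id, Functor.map_id_apply] at h
  refine h.trans ⟨fun hd => ?_, fun he => by rw [he]; exact Set.disjoint_empty _⟩
  exact Set.disjoint_univ.1 (Set.disjoint_of_subset_right (subset_refl _)
    (hd.mono_left (fun x _ => ⟨x, rfl⟩ : (Set.univ : Set U.left) ⊆ Set.range (𝟙 U : U ⟶ U).left.base))).symm

lemma sectSupp_zero (F : EtCoh.Ab X) (U : X.Etale) : EtShriek.sectSupp F U (0 : EtCoh.sect F U) = ∅ :=
  (eq_zero_iff F U 0).1 rfl

lemma sectSupp_neg (F : EtCoh.Ab X) (U : X.Etale) (s : EtCoh.sect F U) :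
    EtShriek.sectSupp F U (-s) = EtShriek.sectSupp F U s := by
  ext x
  simp only [EtShriek.sectSupp, Set.mem_ofPred_eq, map_neg, ne_eq, neg_eq_zero]

lemma sectSupp_map (F : EtCoh.Ab X) {U V : X.Etale} (g : V ⟶ U) (s : EtCoh.sect F U) :
    EtShriek.sectSupp F V (F.obj.map g.op s) = g.left.base ⁻¹' EtShriek.sectSupp F U s := by
  ext v
  rw [Set.mem_preimage, ← not_iff_not, notMem_sectSupp_iff, notMem_sectSupp_iff]
  constructor
  · rintro ⟨W, k, ⟨w, rfl⟩, hz⟩
    exact ⟨W, k ≫ g, ⟨w, rfl⟩, by rw [op_comp, Functor.map_comp_apply, hz]⟩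
  · intro hv
    obtain ⟨t, ht⟩ := exists_geomPoint_lift V v
    have h0 := (germ_eq_zero_iff_mem _ F U s ((Scheme.pointSmallEtale _).fiber.map g t)).2
      (Set.mem_of_eq_of_mem (congrArg g.left.base ht) hv)
    have h1 : Groth.EtaleBase.germ _ F V t (F.obj.map g.op s) = 0 :=
      ((Scheme.pointSmallEtale _).toPresheafFiber_w_apply g t F.obj s).trans h0
    exact Set.mem_of_eq_of_mem ht.symm ((germ_eq_zero_iff_mem _ F V _ t).1 h1)

lemma sectSupp_add_subset (F : EtCoh.Ab X) (U : X.Etale) (s t : EtCoh.sect F U) :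
    EtShriek.sectSupp F U (s + t) ⊆ EtShriek.sectSupp F U s ∪ EtShriek.sectSupp F U t := by
  intro x hx
  by_contra h
  simp only [Set.mem_union, not_or, notMem_sectSupp_iff] at h
  obtain ⟨p, hp⟩ := exists_geomPoint_lift U x
  have hs := (germ_eq_zero_iff_mem _ F U s p).2 (Set.mem_of_eq_of_mem hp h.1)
  have ht := (germ_eq_zero_iff_mem _ F U t p).2 (Set.mem_of_eq_of_mem hp h.2)
  refine (notMem_sectSupp_iff F U (s + t) x).2 ?_ hx
  exact Set.mem_of_eq_of_mem hp.symm
    ((germ_eq_zero_iff_mem _ F U (s + t) p).1 (by rw [map_add, hs, ht, add_zero]))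

lemma sectSupp_app {F G : EtCoh.Ab X} (α : F ⟶ G) [Mono α] (U : X.Etale) (s : EtCoh.sect F U) :
    EtShriek.sectSupp G U (α.hom.app (op U) s) = EtShriek.sectSupp F U s := by
  refine subset_antisymm (EtShriek.sectSupp_map_subset α U s) ?_
  intro x hx W g hw hz
  refine hx W g hw ?_
  have hm : Mono α.hom := inferInstanceAs (Mono ((sheafToPresheaf _ _).map α))
  have hinj : Function.Injective (α.hom.app (op W)) :=
    (AddCommGrpCat.mono_iff_injective _).1 (inferInstanceAs (Mono (α.hom.app (op W))))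
  refine hinj ?_
  rw [map_zero, NatTrans.naturality_apply α.hom g.op s, hz]

section Pred

variable (f : X ⟶ Y)

/-- The support condition: support proper over the base. -/
def PS (F : EtCoh.Ab X) (V : Y.Etale) (s : EtCoh.sect F ((EtCoh.bc f).obj V)) : Prop :=
  ClSub.IsProperOver (EtShriek.prV f V) (EtShriek.sectSupp F ((EtCoh.bc f).obj V) s)

variable [LocallyOfFiniteType f]

instance locallyOfFiniteType_prV (V : Y.Etale) : LocallyOfFiniteType (EtShriek.prV f V) :=
  inferInstanceAs (LocallyOfFiniteType (pullback.fst V.hom f))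

omit [LocallyOfFiniteType f] in
lemma isPullback_prV {V' V : Y.Etale} (φ : V' ⟶ V) :
    IsPullback ((EtCoh.bc f).map φ).left (EtShriek.prV f V') (EtShriek.prV f V) φ.left :=
  EtCoh.isPullback_bc_map f φ

omit [LocallyOfFiniteType f] in
lemma ps_of_hasProperSupport (F : EtCoh.Ab X) (V : Y.Etale) (s : EtCoh.sect F ((EtCoh.bc f).obj V))
    (h : EtShriek.HasProperSupport F ((EtCoh.bc f).obj V) s (EtShriek.prV f V)) : PS f F V s := by
  obtain ⟨Z, hZ, hp⟩ := h
  exact ProperOver.mono _ hp (isClosed_sectSupp _ _ _) hZ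

lemma ps_map (F : EtCoh.Ab X) {V' V : Y.Etale} (φ : V' ⟶ V) (s : EtCoh.sect F ((EtCoh.bc f).obj V))
    (h : PS f F V s) : PS f F V' (F.obj.map ((EtCoh.bc f).map φ).op s) := by
  rw [PS, sectSupp_map]
  exact ProperOver.preimage _ (isPullback_prV f φ) h

lemma ps_zero (F : EtCoh.Ab X) (V : Y.Etale) : PS f F V 0 := by
  rw [PS, sectSupp_zero]
  exact ProperOver.empty _

omit [LocallyOfFiniteType f] in
lemma ps_neg (F : EtCoh.Ab X) (V : Y.Etale) (s : EtCoh.sect F ((EtCoh.bc f).obj V)) (h : PS f F V s) :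
    PS f F V (-s) := by
  rw [PS, sectSupp_neg]
  exact h

lemma ps_add (F : EtCoh.Ab X) (V : Y.Etale) (s t : EtCoh.sect F ((EtCoh.bc f).obj V))
    (hs : PS f F V s) (ht : PS f F V t) : PS f F V (s + t) :=
  ProperOver.mono _ (ProperOver.union _ hs ht) (isClosed_sectSupp _ _ _) (sectSupp_add_subset F _ s t)

/-- Sections with support proper over the base, as a subgroup. -/
def psSubgroup (F : EtCoh.Ab X) (V : Y.Etale) : AddSubgroup (EtCoh.sect F ((EtCoh.bc f).obj V)) where
  carrier := {s | PS f F V s}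
  zero_mem' := ps_zero f F V
  add_mem' := ps_add f F V _ _
  neg_mem' := ps_neg f F V _

theorem shriekPred_iff (F : EtCoh.Ab X) (V : Y.Etale) (s : EtCoh.sect F ((EtCoh.bc f).obj V)) :
    EtShriek.ShriekPred f F V s ↔ PS f F V s := by
  refine ⟨fun h => ?_, fun h V' φ => ⟨_, subset_rfl, ps_map f F φ s h⟩⟩
  have h1 := h V (𝟙 V)
  rw [CategoryTheory.Functor.map_id, op_id, Functor.map_id_apply] at h1
  exact ps_of_hasProperSupport f F V s h1

theorem shriekSubgroup_eq (F : EtCoh.Ab X) (V : Y.Etale) :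
    EtShriek.shriekSubgroup f F V = psSubgroup f F V := by
  refine le_antisymm ((AddSubgroup.closure_le _).2 fun s hs => (shriekPred_iff f F V s).1 hs) ?_
  exact fun s hs => AddSubgroup.subset_closure ((shriekPred_iff f F V s).2 hs)

theorem mem_shriekSubgroup (F : EtCoh.Ab X) (V : Y.Etale) (s : EtCoh.sect F ((EtCoh.bc f).obj V)) :
    s ∈ EtShriek.shriekSubgroup f F V ↔ PS f F V s := by
  rw [shriekSubgroup_eq]
  rfl

end Pred

end Groth.EtaleShriek
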