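import Groth.Agent.EtaleShriek.BCSets
import Groth.Prelude.Def_EtTens2

/-!
Stalks of tensor products of abelian étale sheaves.
-/

set_option autoImplicit false
set_option backward.isDefEq.respectTransparency.types false

universe u

open CategoryTheory CategoryTheory.Limits AlgebraicGeometry Opposite
open scoped TensorProduct

namespace Groth.EtaleShriek.TensStalk

open Groth.EtaleBase (germ germ_surjective)
open Groth.EtaleShriek.BCSets (P2 pr₁ pr₂)

variable {X : Scheme.{u}} (A B : EtCoh.Ab X)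

/-- The tensor product sheaf. -/
noncomputable abbrev T : EtCoh.Ab X := (EtTens.tensorBi.obj A).obj B

/-- The map from the pointwise tensor product. -/
noncomputable abbrev toT : EtTens.tensorObj A.obj B.obj ⟶ (T A B).obj :=
  CategoryTheory.toSheafify X.smallEtaleTopology (EtTens.tensorObj A.obj B.obj)

/-- A pure tensor as a section. -/
noncomputable abbrev tm (U : X.Etale) (a : A.obj.obj (op U)) (b : B.obj.obj (op U)) : (T A B).obj.obj (op U) :=
  (toT A B).app (op U) (a ⊗ₜ[ℤ] b)

lemma tm_map {U V : X.Etale} (p : V ⟶ U) (a : A.obj.obj (op U)) (b : B.obj.obj (op U)) :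
    (T A B).obj.map p.op (tm A B U a b) = tm A B V (A.obj.map p.op a) (B.obj.map p.op b) :=
  (NatTrans.naturality_apply (toT A B) p.op (a ⊗ₜ[ℤ] b)).symm

variable {Ω : Type u} [Field Ω] [IsSepClosed Ω] (ξ : Spec (CommRingCat.of Ω) ⟶ X)

local notation "Φ" => Scheme.pointSmallEtale ξ

/-- The pair of two points. -/
noncomputable def pairPt (U V : X.Etale) (t : (Φ).fiber.obj U) (s : (Φ).fiber.obj V) :
    (Φ).fiber.obj (P2 U V) :=
  Over.homMk (pullback.lift t.left s.left ((Over.w t).trans (Over.w s).symm))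
    ((Category.assoc _ _ _).symm.trans ((congrArg (· ≫ U.hom) (pullback.lift_fst _ _ _)).trans (Over.w t)))

/-- A pure tensor of sections over two neighbourhoods, as a germ. -/
noncomputable def pureGerm (U V : X.Etale) (t : (Φ).fiber.obj U) (s : (Φ).fiber.obj V)
    (a : A.obj.obj (op U)) (b : B.obj.obj (op V)) : (EtCoh.stalk ξ).obj (T A B) :=
  germ ξ (T A B) (P2 U V) (pairPt ξ U V t s)
    (tm A B (P2 U V) (A.obj.map (pr₁ U V).op a) (B.obj.map (pr₂ U V).op b))

lemma germ_tm {U V W : X.Etale} (p : W ⟶ U) (q : W ⟶ V) (w : (Φ).fiber.obj W)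
    (t : (Φ).fiber.obj U) (s : (Φ).fiber.obj V) (ht : (Φ).fiber.map p w = t) (hs : (Φ).fiber.map q w = s)
    (a : A.obj.obj (op U)) (b : B.obj.obj (op V)) :
    germ ξ (T A B) W w (tm A B W (A.obj.map p.op a) (B.obj.map q.op b)) = pureGerm A B ξ U V t s a b := by
  subst ht hs
  let m : W ⟶ P2 U V := MorphismProperty.Over.homMk
    (pullback.lift p.left q.left ((MorphismProperty.Over.w p).trans (MorphismProperty.Over.w q).symm))
    ((Category.assoc _ _ _).symm.trans ((congrArg (· ≫ U.hom) (pullback.lift_fst _ _ _)).trans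
      (MorphismProperty.Over.w p)))
  have h₁ : m ≫ pr₁ U V = p := MorphismProperty.Over.Hom.ext (pullback.lift_fst _ _ _)
  have h₂ : m ≫ pr₂ U V = q := MorphismProperty.Over.Hom.ext (pullback.lift_snd _ _ _)
  have e : (Φ).fiber.map m w = pairPt ξ U V ((Φ).fiber.map p w) ((Φ).fiber.map q w) := by
    refine Over.OverMorphism.ext ?_
    apply pullback.hom_ext
    · exact ((Category.assoc _ _ _).trans (congrArg (w.left ≫ ·) (pullback.lift_fst _ _ _))).trans
        (pullback.lift_fst _ _ _).symm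
    · exact ((Category.assoc _ _ _).trans (congrArg (w.left ≫ ·) (pullback.lift_snd _ _ _))).trans
        (pullback.lift_snd _ _ _).symm
  rw [pureGerm, ← e]
  refine Eq.trans ?_ ((Φ).toPresheafFiber_w_apply m w (T A B).obj _)
  rw [tm_map, ← Functor.map_comp_apply, ← Functor.map_comp_apply, ← op_comp, ← op_comp, h₁, h₂]
  rfl

lemma pureGerm_add_left (U V : X.Etale) (t : (Φ).fiber.obj U) (s : (Φ).fiber.obj V)
    (a a' : A.obj.obj (op U)) (b : B.obj.obj (op V)) :
    pureGerm A B ξ U V t s (a + a') b = pureGerm A B ξ U V t s a b + pureGerm A B ξ U V t s a' b := by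
  simp only [pureGerm, map_add, TensorProduct.add_tmul, tm]
  erw [map_add, map_add]

lemma pureGerm_add_right (U V : X.Etale) (t : (Φ).fiber.obj U) (s : (Φ).fiber.obj V)
    (a : A.obj.obj (op U)) (b b' : B.obj.obj (op V)) :
    pureGerm A B ξ U V t s a (b + b') = pureGerm A B ξ U V t s a b + pureGerm A B ξ U V t s a b' := by
  simp only [pureGerm, map_add, TensorProduct.tmul_add, tm]
  erw [map_add, map_add]

/-- The pairing with a section on the left. -/
noncomputable def pairRight (U : X.Etale) (t : (Φ).fiber.obj U) (a : A.obj.obj (op U)) :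
    (EtCoh.stalk ξ).obj B ⟶ (EtCoh.stalk ξ).obj (T A B) :=
  (Φ).presheafFiberDesc (P := B.obj)
    (fun V s => AddCommGrpCat.ofHom (AddMonoidHom.mk' (pureGerm A B ξ U V t s a)
      fun b b' => pureGerm_add_right A B ξ U V t s a b b'))
    (fun {V' V} g s => by
      ext b
      show pureGerm A B ξ U V' t s a (B.obj.map g.op b) = pureGerm A B ξ U V t ((Φ).fiber.map g s) a b
      rw [pureGerm, ← Functor.map_comp_apply, ← op_comp]
      refine germ_tm A B ξ (pr₁ U V') (pr₂ U V' ≫ g) _ t ((Φ).fiber.map g s) ?_ ?_ a b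
      · exact Over.OverMorphism.ext (pullback.lift_fst _ _ _)
      · rw [Functor.map_comp_apply]
        exact congrArg ((Φ).fiber.map g) (Over.OverMorphism.ext (pullback.lift_snd _ _ _)))

lemma pairRight_germ (U : X.Etale) (t : (Φ).fiber.obj U) (a : A.obj.obj (op U)) (V : X.Etale)
    (s : (Φ).fiber.obj V) (b : B.obj.obj (op V)) :
    pairRight A B ξ U t a (germ ξ B V s b) = pureGerm A B ξ U V t s a b :=
  ConcreteCategory.congr_hom ((Φ).toPresheafFiber_presheafFiberDesc (P := B.obj)
    (fun V s => AddCommGrpCat.ofHom (AddMonoidHom.mk' (pureGerm A B ξ U V t s a)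
      fun b b' => pureGerm_add_right A B ξ U V t s a b b')) _ V s) b

/-- The pairing of stalks. -/
noncomputable def pairing :
    (EtCoh.stalk ξ).obj A ⟶ AddCommGrpCat.of ((EtCoh.stalk ξ).obj B →+ (EtCoh.stalk ξ).obj (T A B)) :=
  (Φ).presheafFiberDesc (P := A.obj)
    (fun U t => AddCommGrpCat.ofHom (AddMonoidHom.mk' (fun a => (pairRight A B ξ U t a).hom) fun a a' => by
      ext y
      obtain ⟨V, s, b, rfl⟩ := germ_surjective ξ B y
      show pairRight A B ξ U t (a + a') (germ ξ B V s b) =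
        pairRight A B ξ U t a (germ ξ B V s b) + pairRight A B ξ U t a' (germ ξ B V s b)
      rw [pairRight_germ, pairRight_germ, pairRight_germ, pureGerm_add_left]))
    (fun {U' U} g t => by
      ext a y
      obtain ⟨V, s, b, rfl⟩ := germ_surjective ξ B y
      show pairRight A B ξ U' t (A.obj.map g.op a) (germ ξ B V s b) =
        pairRight A B ξ U ((Φ).fiber.map g t) a (germ ξ B V s b)
      rw [pairRight_germ, pairRight_germ, pureGerm, ← Functor.map_comp_apply, ← op_comp]
      refine germ_tm A B ξ (pr₁ U' V ≫ g) (pr₂ U' V) _ ((Φ).fiber.map g t) s ?_ ?_ a b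
      · rw [Functor.map_comp_apply]
        exact congrArg ((Φ).fiber.map g) (Over.OverMorphism.ext (pullback.lift_fst _ _ _))
      · exact Over.OverMorphism.ext (pullback.lift_snd _ _ _))

lemma pairing_germ (U V : X.Etale) (t : (Φ).fiber.obj U) (a : A.obj.obj (op U))
    (s : (Φ).fiber.obj V) (b : B.obj.obj (op V)) :
    (pairing A B ξ (germ ξ A U t a)) (germ ξ B V s b) = pureGerm A B ξ U V t s a b :=
  (DFunLike.congr_fun (ConcreteCategory.congr_hom ((Φ).toPresheafFiber_presheafFiberDesc (P := A.obj)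
    (fun U t => AddCommGrpCat.ofHom (AddMonoidHom.mk' (fun a => (pairRight A B ξ U t a).hom) _)) _ U t) a)
    (germ ξ B V s b)).trans (pairRight_germ A B ξ U t a V s b)

/-- From the tensor product of stalks to the stalk of the tensor product. -/
noncomputable def ofTensor :
    ((EtCoh.stalk ξ).obj A) ⊗[ℤ] ((EtCoh.stalk ξ).obj B) →+ (EtCoh.stalk ξ).obj (T A B) :=
  TensorProduct.liftAddHom (pairing A B ξ).hom fun r m n => by
    rw [map_zsmul, AddMonoidHom.smul_apply, map_zsmul]

lemma ofTensor_germ (U : X.Etale) (t : (Φ).fiber.obj U) (a : A.obj.obj (op U)) (b : B.obj.obj (op U)) :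
    ofTensor A B ξ (germ ξ A U t a ⊗ₜ[ℤ] germ ξ B U t b) = germ ξ (T A B) U t (tm A B U a b) := by
  refine (pairing_germ A B ξ U U t a t b).trans ?_
  refine ((germ_tm A B ξ (𝟙 U) (𝟙 U) t t t ?_ ?_ a b).symm).trans ?_
  · rw [CategoryTheory.Functor.map_id]; rfl
  · rw [CategoryTheory.Functor.map_id]; rfl
  · rw [op_id, Functor.map_id_apply, Functor.map_id_apply]

/-- The stalk of the pointwise tensor product. -/
noncomputable def descPre :
    (Φ).presheafFiber.obj (EtTens.tensorObj A.obj B.obj) ⟶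
      AddCommGrpCat.of (((EtCoh.stalk ξ).obj A) ⊗[ℤ] ((EtCoh.stalk ξ).obj B)) :=
  (Φ).presheafFiberDesc (P := EtTens.tensorObj A.obj B.obj)
    (fun U t => AddCommGrpCat.ofHom (TensorProduct.map (germ ξ A U t).hom.toIntLinearMap
      (germ ξ B U t).hom.toIntLinearMap).toAddMonoidHom)
    (fun {V U} g t => EtTens.hom_ext_tmul fun m n => by
      show germ ξ A V t (A.obj.map g.op m) ⊗ₜ[ℤ] germ ξ B V t (B.obj.map g.op n) =
        germ ξ A U ((Φ).fiber.map g t) m ⊗ₜ[ℤ] germ ξ B U ((Φ).fiber.map g t) n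
      rw [show germ ξ A V t (A.obj.map g.op m) = germ ξ A U ((Φ).fiber.map g t) m from
          (Φ).toPresheafFiber_w_apply g t A.obj m,
        show germ ξ B V t (B.obj.map g.op n) = germ ξ B U ((Φ).fiber.map g t) n from
          (Φ).toPresheafFiber_w_apply g t B.obj n])

instance isIso_fiber_toT : IsIso ((Φ).presheafFiber.map (toT A B)) :=
  (Φ).W_isInvertedBy_presheafFiber' _ (X.smallEtaleTopology.W_toSheafify (EtTens.tensorObj A.obj B.obj))

/-- From the stalk of the tensor product to the tensor product of stalks. -/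
noncomputable def toTensor :
    (EtCoh.stalk ξ).obj (T A B) →+ ((EtCoh.stalk ξ).obj A) ⊗[ℤ] ((EtCoh.stalk ξ).obj B) :=
  (inv ((Φ).presheafFiber.map (toT A B)) ≫ descPre A B ξ).hom

lemma toTensor_germ (U : X.Etale) (t : (Φ).fiber.obj U) (a : A.obj.obj (op U)) (b : B.obj.obj (op U)) :
    toTensor A B ξ (germ ξ (T A B) U t (tm A B U a b)) = germ ξ A U t a ⊗ₜ[ℤ] germ ξ B U t b := by
  have h : (Φ).presheafFiber.map (toT A B) ((Φ).toPresheafFiber U t (EtTens.tensorObj A.obj B.obj) (a ⊗ₜ[ℤ] b)) =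
      germ ξ (T A B) U t (tm A B U a b) :=
    (Φ).toPresheafFiber_naturality_apply (toT A B) U t (a ⊗ₜ[ℤ] b)
  rw [← h]
  show descPre A B ξ (inv ((Φ).presheafFiber.map (toT A B)) ((Φ).presheafFiber.map (toT A B) _)) = _
  rw [← ConcreteCategory.comp_apply ((Φ).presheafFiber.map (toT A B)), IsIso.hom_inv_id]
  exact ConcreteCategory.congr_hom ((Φ).toPresheafFiber_presheafFiberDesc
    (P := EtTens.tensorObj A.obj B.obj) _ _ U t) (a ⊗ₜ[ℤ] b)

lemma exists_germ (z : (EtCoh.stalk ξ).obj (T A B)) :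
    ∃ (U : X.Etale) (t : (Φ).fiber.obj U) (x : (EtTens.tensorObj A.obj B.obj).obj (op U)),
      germ ξ (T A B) U t ((toT A B).app (op U) x) = z := by
  obtain ⟨y, rfl⟩ := ((ConcreteCategory.isIso_iff_bijective ((Φ).presheafFiber.map (toT A B))).1 inferInstance).2 z
  obtain ⟨U, t, x, rfl⟩ := (Φ).toPresheafFiber_jointly_surjective y
  exact ⟨U, t, x, ((Φ).toPresheafFiber_naturality_apply (toT A B) U t x).symm⟩

lemma ofTensor_toTensor (z : (EtCoh.stalk ξ).obj (T A B)) : ofTensor A B ξ (toTensor A B ξ z) = z := by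
  obtain ⟨U, t, x, rfl⟩ := exists_germ A B ξ z
  change (A.obj.obj (op U)) ⊗[ℤ] (B.obj.obj (op U)) at x
  induction x using TensorProduct.induction_on with
  | zero => erw [map_zero, map_zero, map_zero, map_zero]
  | tmul a b => exact (congrArg (ofTensor A B ξ) (toTensor_germ A B ξ U t a b)).trans (ofTensor_germ A B ξ U t a b)
  | add x y hx hy => erw [map_add, map_add, map_add, map_add, hx, hy]

lemma toTensor_ofTensor (x : ((EtCoh.stalk ξ).obj A) ⊗[ℤ] ((EtCoh.stalk ξ).obj B)) :
    toTensor A B ξ (ofTensor A B ξ x) = x := by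
  induction x using TensorProduct.induction_on with
  | zero => simp
  | tmul a b =>
    obtain ⟨U₁, t₁, a, rfl⟩ := germ_surjective ξ A a
    obtain ⟨U₂, t₂, b, rfl⟩ := germ_surjective ξ B b
    obtain ⟨W₀, pm, qm, -⟩ := IsCofilteredOrEmpty.cone_objs (C := (Φ).fiber.Elements)
      (Functor.elementsMk _ U₁ t₁) (Functor.elementsMk _ U₂ t₂)
    obtain ⟨W, w⟩ := W₀
    let p : W ⟶ U₁ := pm.1
    let q : W ⟶ U₂ := qm.1
    have hp : (Φ).fiber.map p w = t₁ := pm.2
    have hq : (Φ).fiber.map q w = t₂ := qm.2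
    have ea : germ ξ A U₁ t₁ a = germ ξ A W w (A.obj.map p.op a) := by
      rw [← hp]; exact ((Φ).toPresheafFiber_w_apply p w A.obj a).symm
    have eb : germ ξ B U₂ t₂ b = germ ξ B W w (B.obj.map q.op b) := by
      rw [← hq]; exact ((Φ).toPresheafFiber_w_apply q w B.obj b).symm
    rw [ea, eb, ofTensor_germ, toTensor_germ]
  | add x y hx hy => rw [map_add, map_add, hx, hy]

lemma toTensor_bijective : Function.Bijective (toTensor A B ξ) :=
  ⟨Function.LeftInverse.injective (ofTensor_toTensor A B ξ),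
    Function.RightInverse.surjective (toTensor_ofTensor A B ξ)⟩

end Groth.EtaleShriek.TensStalk
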